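import Cfsg.Agent.H179.JoneK
import Cfsg.Agent.H659.AcIrr

/-!
# `J₁`, characteristic 11, degree at most 12: the degree is 7 (helper179)

* `j1_le12` : `Core P`, `Soc P ≃* J₁`, characteristic 11, `card ι ≤ 12` ⟹ `card ι = 7`.
* `j1_ge` : (odd characteristic) `7 ≤ card ι`; `j1_nine` : not `9 ≤ card ι ≤ 12` (odd characteristic `≠ 7`).
-/

set_option autoImplicit false
set_option linter.unusedSectionVars false

namespace Cfsg.Agent.H179.JOne

open Cfsg.Spor (jankoX jankoY J1)
open Module Cfsg.Geo Cfsg.Agent.H915.LD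

universe u v

variable {ι : Type} [Fintype ι] [DecidableEq ι] {F : Type u} [Field F] {P : Subgroup (Matrix.GeneralLinearGroup ι F)}

/-- the hypotheses of the linear part, over any extension field -/
theorem exists_rep (hC : Core P) (e : Soc P ≃* J1) (K : Type v) [Field K] [Algebra F K] :
    ∃ R : J1 →* Module.End K (ι → K), R d ≠ 1 ∧
      ∀ L : Submodule K (ι → K), (∀ g, ∀ v ∈ L, R g v ∈ L) → L = ⊥ ∨ L = ⊤ := by
  obtain ⟨φ, hs, hφ⟩ := exists_hom hC e
  have hr : (P.subtype.comp φ).range = P := by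
    ext g
    constructor
    · rintro ⟨j, rfl⟩
      exact (φ j).2
    · intro hg
      obtain ⟨j, hj⟩ := hs ⟨g, hg⟩
      exact ⟨j, congrArg Subtype.val hj⟩
  refine ⟨H659.Ac.rp K (P.subtype.comp φ), ?_, fun L hL =>
    H659.Ac.rp_irr (K := K) (φ := P.subtype.comp φ) (hφ := hr) (hs := H920.span_eq_top hC.absIrred) L hL⟩
  intro h
  have h1 : ((φ d : P) : Matrix.GeneralLinearGroup ι F) = 1 := by
    apply Units.ext
    have h2 : (((φ d : P) : Matrix.GeneralLinearGroup ι F) : Matrix ι ι F).map (algebraMap F K) = 1 := by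
      apply Matrix.toLin'.injective
      rw [Matrix.toLin'_one]
      exact h
    ext i j
    apply (algebraMap F K).injective
    have h3 := congrFun (congrFun h2 i) j
    rw [Matrix.map_apply] at h3
    rw [h3, Units.val_one, Matrix.one_apply, Matrix.one_apply]
    split_ifs <;> simp
  have h2 : φ d = 1 := Subtype.ext h1
  have h3 := hφ d
  rw [h2, map_one] at h3
  apply d_ne
  change d * 1 = 1
  rw [mul_one, ← h3]

theorem j1_ge (hC : Core P) (e : Soc P ≃* J1) (h2 : (2 : F) ≠ 0) : 7 ≤ Fintype.card ι := by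
  obtain ⟨R, hd, -⟩ := exists_rep hC e F
  have h1 := finrank_eq (R := R) h2
  have hL := L0_ne_bot h2 hd
  have hpos : finrank F (L0 R) ≠ 0 := fun h0 => hL (Submodule.finrank_eq_zero.1 h0)
  rw [finrank_fintype_fun_eq_card] at h1
  omega

theorem j1_nine (hC : Core P) (e : Soc P ≃* J1) (h2 : (2 : F) ≠ 0) (h7 : (7 : F) ≠ 0) (h9 : 9 ≤ Fintype.card ι)
    (h12 : Fintype.card ι ≤ 12) : False := by
  obtain ⟨R, hd, hirr⟩ := exists_rep hC e (AlgebraicClosure F)
  have hc : ∀ n : ℕ, (n : F) ≠ 0 → (n : AlgebraicClosure F) ≠ 0 := by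
    intro n hn h
    apply hn
    apply (algebraMap F (AlgebraicClosure F)).injective
    rw [map_natCast, h, map_zero]
  refine nine_le (R := R) (by exact_mod_cast hc 2 (by exact_mod_cast h2)) (by exact_mod_cast hc 7 (by exact_mod_cast h7))
    hd hirr ?_ ?_
  · rwa [finrank_fintype_fun_eq_card]
  · rwa [finrank_fintype_fun_eq_card]

/-- **`J₁`, characteristic 11** -/
theorem j1_le12 (hC : Core P) (e : Soc P ≃* J1) (h11 : (11 : F) = 0) (h12 : Fintype.card ι ≤ 12) :
    Fintype.card ι = 7 := by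
  have h2 := two_ne h11
  have h7 : (7 : F) ≠ 0 := by
    intro h
    have h1 : (1 : F) = 2 * 11 - 3 * 7 := by norm_num
    rw [h11, h] at h1
    simp at h1
  have h3 := j1_ge hC e h2
  by_contra hne
  by_cases h8 : Fintype.card ι = 8
  · obtain ⟨R, hd, hirr⟩ := exists_rep hC e F
    exact eight h11 hd hirr (by rw [finrank_fintype_fun_eq_card, h8])
  · exact j1_nine hC e h2 h7 (by omega) h12

theorem j1_le12_iso (hC : Core P) (h : Cfsg.Spor.IsoJ1 (Soc P)) (h11 : (11 : F) = 0) (h12 : Fintype.card ι ≤ 12) :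
    Fintype.card ι = 7 := by
  obtain ⟨e⟩ := h
  exact j1_le12 hC e h11 h12

end Cfsg.Agent.H179.JOne
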