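import Mathlib
import Cfsg.Agent.H179.OutMinus

/-!
# The outer automorphism groups of `PΩ⁻_2m(q)`
-/

set_option autoImplicit false

namespace Cfsg.Agent.H179.OutMinusMain

open QuadraticMap Cfsg.Agent.LieClassical.OrthCore Cfsg.Agent.LieClassical.OrthTrans
  Cfsg.Agent.LieClassical.OrthSimple Cfsg.Agent.ClassicalGeometry.OrthSemi
  Cfsg.Agent.ClassicalGeometry.OrthSemiCount Cfsg.Agent.ClassicalGeometry.OrthAut1
  Cfsg.Agent.ClassicalGeometry.OrthSemiForms Cfsg.Agent.LieClassical.OrthForms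
  Cfsg.Agent.H989.OutOrth.Abstract Cfsg.Agent.H989.OutOrth.Basic Cfsg.Agent.H989.OutOrth.Forms
  Cfsg.Agent.H179.OutMinus

theorem card_le_finset {H : Type*} [Group H] {D : Subgroup H} (s : Finset H)
    (h : ∀ d ∈ D, d ∈ s) : Nat.card D ≤ s.card := by
  have h1 : (D : Set H) ⊆ (s : Set H) := fun d hd => h d hd
  calc Nat.card D = (D : Set H).ncard := (Nat.card_coe_set_eq (D : Set H)).symm ▸ rfl
    _ ≤ (s : Set H).ncard := Set.ncard_le_ncard h1 s.finite_toSet
    _ = s.card := Set.ncard_coe_finset s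

variable {F : Type*} [Field F] [Fintype F] {p f : ℕ} [hp : Fact p.Prime]

theorem sg_surjective {m : ℕ} {a b : F}
    (hab : ∀ z₁ z₂ : F, z₁ ^ 2 + a * z₁ * z₂ + b * z₂ ^ 2 = 0 → z₁ = 0 ∧ z₂ = 0)
    (hG : Good (minusForm m F a b)) : Function.Surjective (sg hG) := by
  intro σ
  obtain ⟨M, hM⟩ := minus_exists m a b hab σ 1 one_ne_zero
  exact ⟨⟨M, _, _, hM⟩, sg_eq hG hM⟩

/-- The orders of `Out` and of its subgroup `D`. -/
theorem cards (hf : 1 ≤ f) (hF : Fintype.card F = p ^ f) {m : ℕ} (hm : 4 ≤ m) {a b : F}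
    (hab : ∀ z₁ z₂ : F, z₁ ^ 2 + a * z₁ * z₂ + b * z₂ ^ 2 = 0 → z₁ = 0 ∧ z₂ = 0)
    (hG : Good (minusForm (m - 1) F a b)) {N : ℕ}
    (hN : (if p = 2 then 2 else (if Even (m * (p ^ f - 1) / 2) then 4 else 8)) = N) :
    Nat.card (D hG) = N ∧ Nat.card (Cfsg.Out (P (minusForm (m - 1) F a b))) = N * f := by
  have hcard := card_range_minus hf hF hm a b hab
  rw [factor_minus hf m (by omega), hN, ← coe_minusForm] at hcard
  exact ⟨card_D_eq hf hF hG (sg_surjective hab hG) hcard,
    card_Out_eq (Cfsg.Agent.AutOrth.Final.surjective_minus (by omega) hab)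
      (card_range_out_eq hG hcard)⟩

/-- Characteristic two: cyclic. -/
theorem char_two (hp2 : p = 2) (hf : 1 ≤ f) (hF : Fintype.card F = p ^ f) {m : ℕ} (hm : 4 ≤ m)
    {a b : F}
    (hab : ∀ z₁ z₂ : F, z₁ ^ 2 + a * z₁ * z₂ + b * z₂ ^ 2 = 0 → z₁ = 0 ∧ z₂ = 0)
    (hG : Good (minusForm (m - 1) F a b)) :
    IsCyclic (Cfsg.Out (P (minusForm (m - 1) F a b))) ∧
      Nat.card (Cfsg.Out (P (minusForm (m - 1) F a b))) = 2 * f := by
  obtain ⟨hD, hOut⟩ := cards hf hF hm hab hG (by rw [if_pos hp2])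
  obtain ⟨φ, hφ1, hφ2, hφ3⟩ := exists_frob (F := F) hf hF
  obtain ⟨ψ, -, h1, h2, -, h4⟩ := exists_frobK hF hab hφ1
  refine ⟨?_, hOut⟩
  have hchar : CharP F 2 := hp2 ▸ charP_of_card hF
  have hsq : ∀ c : F, IsSquare c := fun c =>
    FiniteField.isSquare_of_char_two (ringChar.eq_iff.2 hchar) c
  set v := v0 a b (m - 1) with hvdef
  have hv : minusForm (m - 1) F a b v ≠ 0 := form_v0_ne hab (m - 1)
  have hall : ∀ (w) (hw : minusForm (m - 1) F a b w ≠ 0),
      out _ (rf w hw) = out _ (rf v hv) := by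
    intro w hw
    obtain ⟨s, hs⟩ := hsq (minusForm (m - 1) F a b w / minusForm (m - 1) F a b v)
    exact (out_rf_of_square hG hv hw (s := s) (by rw [← hs, div_mul_cancel₀ _ hv])).symm
  have hr1 : out _ (rf v hv) ≠ 1 := by
    intro h
    classical
    have h5 : Nat.card (D hG) ≤ ({1} : Finset (Cfsg.Out (P (minusForm (m - 1) F a b)))).card := by
      refine card_le_finset _ fun d hd => ?_
      rw [Finset.mem_singleton]
      rcases D_cases hG hv hall (δ0 := 1) (c0 := 1)
        ⟨one_ne_zero, fun _ _ => rfl, fun _ _ => rfl, fun _ => by rw [one_mul]; rfl⟩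
        (fun c _ => Or.inl (hsq c)) hd with h6 | h6 | h6 | h6
      · exact h6
      · rw [h6, h]
      · rw [h6, map_one]
      · rw [h6, h, map_one, one_mul]
    rw [hD, Finset.card_singleton] at h5
    omega
  have hPf := Ph_pow hab (m - 1) h1 h2 hφ2 h4
  refine isCyclic_of_pow (φ := out _ (Ph (m - 1) h1 h2)) hf ?_ ?_ hOut
  · rw [← map_pow, hPf]
    exact hr1
  · intro k hk
    refine dvd_of_pow_mem_D (hG := hG) (Φ := Ph (m - 1) h1 h2) ?_ k (by rw [hk]; exact Subgroup.one_mem _)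
    have : sg hG (Ph (m - 1) h1 h2) = φ := sg_eq hG (isSS_TΦ h1 h2)
    rw [this]
    exact hφ3

set_option maxHeartbeats 2000000 in
/-- Odd characteristic. -/
theorem odd_char (hp2 : p ≠ 2) (hf : 1 ≤ f) (hF : Fintype.card F = p ^ f) {m : ℕ} (hm : 4 ≤ m)
    {a b : F}
    (hab : ∀ z₁ z₂ : F, z₁ ^ 2 + a * z₁ * z₂ + b * z₂ ^ 2 = 0 → z₁ = 0 ∧ z₂ = 0)
    (hG : Good (minusForm (m - 1) F a b)) :
    (Even (m * (p ^ f - 1) / 2) → Nonempty (Cfsg.Out (P (minusForm (m - 1) F a b)) ≃*
      Multiplicative (ZMod 2) × Multiplicative (ZMod (2 * f)))) ∧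
    (¬ Even (m * (p ^ f - 1) / 2) → Odd f → Nonempty (Cfsg.Out (P (minusForm (m - 1) F a b)) ≃*
      DihedralGroup 4 × Multiplicative (ZMod f))) := by
  classical
  obtain ⟨φ, hφ1, hφ2, hφ3⟩ := exists_frob (F := F) hf hF
  obtain ⟨ψ, hψ, h1, h2, h3, h4⟩ := exists_frobK hF hab hφ1
  have hpo : Odd p := hp.out.odd_of_ne_two hp2
  have h20 : (2 : F) ≠ 0 := Cfsg.Agent.LieClassical.PomegaCard.odd_card_iff.1
    (by rw [hF]; exact hpo.pow)
  have hchar : ringChar F ≠ 2 := by
    intro h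
    exact h20 (by have := ringChar.Nat.cast_ringChar (R := F); rw [h] at this; exact_mod_cast this)
  -- a similitude with nonsquare multiplier
  obtain ⟨c0, hc0⟩ := FiniteField.exists_nonsquare hchar
  have hc00 : c0 ≠ 0 := by rintro rfl; exact hc0 ⟨0, by simp⟩
  have hsq : ∀ c : F, c ≠ 0 → IsSquare c ∨ IsSquare (c0⁻¹ * c) := by
    intro c _
    by_cases hc : IsSquare c
    · exact Or.inl hc
    · exact Or.inr (Cfsg.Agent.ClassicalGeometry.SymmNormalForm.isSquare_div_of_not
        (by rwa [isSquare_inv]) hc)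
  obtain ⟨l₁, l₂, hl⟩ := exists_binary_eq a b hab c0
  have hnl : QuadraticAlgebra.norm (⟨l₁, l₂⟩ : Kx F a b) = c0 := by rw [norm_eq]; exact hl
  have hunit : IsUnit (⟨l₁, l₂⟩ : Kx F a b) :=
    QuadraticAlgebra.isUnit_iff_norm_isUnit.2 (by rw [hnl]; exact IsUnit.mk0 _ hc00)
  obtain ⟨l, hlu⟩ := hunit
  have hδSS : IsSS (minusForm (m - 1) F a b) (RingEquiv.refl F) c0 (dl (m - 1) l).1 := by
    have := isSS_Td (m - 1) l
    rwa [hlu, hnl] at this
  set v := v0 a b (m - 1) with hvdef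
  have hv : minusForm (m - 1) F a b v ≠ 0 := form_v0_ne hab (m - 1)
  have hPf : Ph (m - 1) h1 h2 ^ f = rf v hv := Ph_pow hab (m - 1) h1 h2 hφ2 h4
  have hsgP : sg hG (Ph (m - 1) h1 h2) = φ := sg_eq hG (isSS_TΦ h1 h2)
  obtain ⟨r, hr⟩ : ∃ r, r = out _ (rf v hv) := ⟨_, rfl⟩
  obtain ⟨δ, hδ⟩ : ∃ δ, δ = out _ (dl (m - 1) l) := ⟨_, rfl⟩
  obtain ⟨Φ, hΦ⟩ : ∃ Φ, Φ = out _ (Ph (m - 1) h1 h2) := ⟨_, rfl⟩
  have hΦf : Φ ^ f = r := by rw [hΦ, hr, ← hPf, map_pow]
  have hr2 : r * r = 1 := by rw [hr, ← map_mul, rf_mul_self, map_one]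
  have hδ2 : δ * δ = 1 := by rw [hδ, ← map_mul, dl_mul_self, out_scal hG]
  have hrD : r ∈ D hG := by rw [hr]; exact out_mem_D.2 (sg_rf hG hv)
  have hδD : δ ∈ D hG := by rw [hδ]; exact out_mem_D.2 (sg_eq hG hδSS)
  have hint : ∀ k : ℕ, Φ ^ k ∈ D hG → f ∣ k := by
    rw [hΦ]
    exact dvd_of_pow_mem_D (hG := hG) (Φ := Ph (m - 1) h1 h2) (by rw [hsgP]; exact hφ3)
  have hΦr : Φ * r = r * Φ := by rw [← hΦf]; exact (Commute.self_pow Φ f)
  have hcases : δ * r = r * δ → ∀ d ∈ D hG, d = 1 ∨ d = r ∨ d = δ ∨ d = δ * r := by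
    intro hcomm d hd
    have hall := rf_class_of_comm hG hv hδSS hsq (by rw [← hδ, ← hr]; exact hcomm)
    have := D_cases hG hv hall hδSS hsq hd
    rwa [← hδ, ← hr] at this
  constructor
  · intro he
    obtain ⟨hD, hOut⟩ := cards hf hF hm hab hG (N := 4) (by rw [if_neg hp2, if_pos he])
    have habel : ∀ x ∈ D hG, ∀ y ∈ D hG, x * y = y * x := by
      intro x hx y hy
      have := IsPGroup.commutative_of_card_eq_prime_sq (p := 2) (G := D hG) (by rw [hD]; rfl)
        ⟨x, hx⟩ ⟨y, hy⟩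
      exact congrArg Subtype.val this
    have hcomm := habel δ hδD r hrD
    have hc := hcases hcomm
    have hexp : ∀ d ∈ D hG, d * d = 1 := by
      intro d hd
      rcases hc d hd with h | h | h | h
      · rw [h, one_mul]
      · rw [h, hr2]
      · rw [h, hδ2]
      · rw [h]
        calc δ * r * (δ * r) = δ * (r * δ) * r := by group
          _ = δ * (δ * r) * r := by rw [hcomm]
          _ = (δ * δ) * (r * r) := by group
          _ = 1 := by rw [hδ2, hr2, one_mul]
    have hr1 : r ≠ 1 := by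
      intro h
      have h5 : Nat.card (D hG) ≤
          ({1, δ} : Finset (Cfsg.Out (P (minusForm (m - 1) F a b)))).card := by
        refine card_le_finset _ fun d hd => ?_
        rw [Finset.mem_insert, Finset.mem_singleton]
        rcases hc d hd with h6 | h6 | h6 | h6
        · exact Or.inl h6
        · exact Or.inl (h6.trans h)
        · exact Or.inr h6
        · exact Or.inr (by rw [h6, h, mul_one])
      rw [hD] at h5
      have := Finset.card_le_two (a := (1 : Cfsg.Out (P (minusForm (m - 1) F a b)))) (b := δ)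
      omega
    have hrδ : r ≠ δ := by
      intro h
      have h5 : Nat.card (D hG) ≤
          ({1, δ} : Finset (Cfsg.Out (P (minusForm (m - 1) F a b)))).card := by
        refine card_le_finset _ fun d hd => ?_
        rw [Finset.mem_insert, Finset.mem_singleton]
        rcases hc d hd with h6 | h6 | h6 | h6
        · exact Or.inl h6
        · exact Or.inr (h6.trans h)
        · exact Or.inr h6
        · exact Or.inl (by rw [h6, h, hδ2])
      rw [hD] at h5
      have := Finset.card_le_two (a := (1 : Cfsg.Out (P (minusForm (m - 1) F a b)))) (b := δ)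
      omega
    have hδ1 : δ ≠ 1 := by
      intro h
      have h5 : Nat.card (D hG) ≤
          ({1, r} : Finset (Cfsg.Out (P (minusForm (m - 1) F a b)))).card := by
        refine card_le_finset _ fun d hd => ?_
        rw [Finset.mem_insert, Finset.mem_singleton]
        rcases hc d hd with h6 | h6 | h6 | h6
        · exact Or.inl h6
        · exact Or.inr h6
        · exact Or.inl (h6.trans h)
        · exact Or.inr (by rw [h6, h, one_mul])
      rw [hD] at h5
      have := Finset.card_le_two (a := (1 : Cfsg.Out (P (minusForm (m - 1) F a b)))) (b := r)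
      omega
    -- the Frobenius class commutes with `δ`
    have hΦδ : Φ * δ = δ * Φ := by
      have e1 : Ph (m - 1) h1 h2 * dl (m - 1) l = dl (m - 1) (l ^ p) * Ph (m - 1) h1 h2 :=
        Ph_dl (m - 1) h1 h2 h3 (by rw [hψ, Units.val_pow_eq_pow_val])
      have e2 : out _ (dl (m - 1) (l ^ p)) * δ = 1 := by
        obtain ⟨j, hj⟩ := hpo
        have e3 : l ^ p * l⁻¹ = l ^ j * l ^ j := by
          rw [hj, pow_succ, mul_inv_cancel_right, two_mul, pow_add]
        rw [hδ, ← map_mul, dl_mul, map_mul, out_scal hG, one_mul, e3, hl_mul, map_mul]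
        exact hexp _ (out_mem_D.2 (sg_eq hG (isSS_Th (m - 1) _)))
      have e4 : out _ (dl (m - 1) (l ^ p)) = δ := by
        rw [eq_inv_of_mul_eq_one_left e2, inv_eq_of_mul_eq_one_right hδ2]
      have e5 := congrArg (out (minusForm (m - 1) F a b)) e1
      rwa [map_mul, map_mul, ← hΦ, ← hδ, e4] at e5
    have hδ2' : δ ^ 2 = 1 := by rw [pow_two, hδ2]
    have hr2' : r ^ 2 = 1 := by rw [pow_two, hr2]
    refine nonempty_prod_of_hom (cyc δ hδ2') (cyc_two_injective hδ2' hδ1) (φ := Φ) (by omega)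
      (by rw [mul_comm, pow_mul, hΦf, hr2']) ?_ ?_ ?_
    · intro d
      obtain ⟨k, hk, -⟩ := cyc_eq (by norm_num) δ hδ2' d
      rw [hk]
      exact ((show Commute Φ δ from hΦδ).pow_right k).symm
    · rw [hOut, Nat.card_congr Multiplicative.toAdd, Nat.card_zmod]
      omega
    · intro k d hk
      obtain ⟨i, hi, -⟩ := cyc_eq (by norm_num) δ hδ2' d
      rw [hi] at hk
      obtain ⟨j, hj⟩ := hint k (by rw [hk]; exact (D hG).pow_mem hδD i)
      rcases Nat.even_or_odd j with hj2 | hj2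
      · obtain ⟨t, ht⟩ := hj2
        exact ⟨t, by rw [hj, ht]; ring⟩
      · exfalso
        rw [hj, pow_mul, hΦf] at hk
        obtain ⟨t, ht⟩ := hj2
        rw [ht, pow_succ, pow_mul, hr2', one_pow, one_mul] at hk
        rcases Nat.even_or_odd i with hi2 | hi2
        · obtain ⟨s, hs⟩ := hi2.two_dvd
          rw [hs, pow_mul, hδ2', one_pow] at hk
          exact hr1 hk
        · obtain ⟨s, hs⟩ := hi2
          rw [hs, pow_succ, pow_mul, hδ2', one_pow, one_mul] at hk
          exact hrδ hk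
  · intro he hfo
    obtain ⟨hD, hOut⟩ := cards hf hF hm hab hG (N := 8) (by rw [if_neg hp2, if_neg he])
    have hnc : δ * r ≠ r * δ := by
      intro hcomm
      have h5 : Nat.card (D hG) ≤
          ({1, r, δ, δ * r} : Finset (Cfsg.Out (P (minusForm (m - 1) F a b)))).card := by
        refine card_le_finset _ fun d hd => ?_
        simp only [Finset.mem_insert, Finset.mem_singleton]
        exact hcases hcomm d hd
      rw [hD] at h5
      have := Finset.card_le_four (a := (1 : Cfsg.Out (P (minusForm (m - 1) F a b)))) (b := r)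
        (c := δ) (d := δ * r)
      omega
    have hcr : Commute Φ r := hΦr
    have hr2' : r ^ 2 = 1 := by rw [pow_two, hr2]
    refine dihedral_prod (D_normal hG
      (Cfsg.Agent.AutOrth.Final.surjective_minus (by omega) hab)) (φ := Φ * r) (r := r) hf ?_ hD
      hrD hr2 ⟨δ, hδD, hnc⟩ ?_ (by rw [hOut]) ?_
    · rw [hcr.mul_pow, hΦf, ← pow_succ']
      obtain ⟨t, ht⟩ := hfo
      rw [ht, show 2 * t + 1 + 1 = 2 * (t + 1) by ring, pow_mul, hr2', one_pow]
    · rw [hΦr, mul_assoc, hΦr]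
    · intro k hk
      rw [hcr.mul_pow] at hk
      apply hint
      have := (D hG).mul_mem hk ((D hG).inv_mem ((D hG).pow_mem hrD k))
      rwa [mul_inv_cancel_right] at this

end Cfsg.Agent.H179.OutMinusMain
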