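import Cfsg.Agent.H179.G2Form

/-!
# Every non-degenerate alternating 3-form in dimension 7 is a multiple of the standard form
-/

namespace Cfsg.Agent.H179.G2

open QuadraticMap Module

variable {F V : Type*} [Field F] [AddCommGroup V] [Module F V]
variable {e : Basis (Fin 7) F V} {f : V →ₗ[F] V →ₗ[F] V →ₗ[F] F}

namespace Comp

variable {N : Nice e f} {k : F} {n : V} (C : Comp N k n)

include C

theorem exists_vals : ∃ (E G : Fin 3 → V) (d : F), (∀ i, E i ∈ C.Up) ∧ (∀ i, G i ∈ C.Um) ∧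
    (∀ i j, bb e f (E i) (G j) = if i = j then 1 else 0) ∧ d ≠ 0 ∧ Vals f n E G 1 d (2 * k / d) := by
  obtain ⟨E, G, hE, hG, hEG⟩ := C.exists_sys
  have v1 : ∀ i j, f n (E i) (E j) = 0 := fun i j => by
    rw [← N.bb_cr, C.mem_Up.1 (hE i), C.Up_Up (hE i) (hE j)]
  have v2 : ∀ i j, f n (E i) (G j) = if i = j then 1 else 0 := fun i j => by
    rw [← N.bb_cr, C.mem_Up.1 (hE i), hEG]
  have v3 : ∀ i j, f n (G i) (G j) = 0 := fun i j => by
    rw [← N.bb_cr, C.mem_Um.1 (hG i), map_neg, LinearMap.neg_apply, C.Um_Um (hG i) (hG j), neg_zero]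
  have v4 : ∀ i j l, f (E i) (E j) (G l) = 0 := fun i j l => by
    rw [← N.bb_cr, C.Um_Um (C.cr_Up_Up (hE i) (hE j)) (hG l)]
  have v5 : ∀ i j l, f (E i) (G j) (G l) = 0 := fun i j l => by
    rw [← N.bb_cr, C.cr_Up_Um (hE i) (hG j), map_smul, LinearMap.smul_apply, C.n_Um (hG l), smul_zero]
  have hli := li_seven (bb e f) n E G (r := 1) one_ne_zero C.nn
    (fun i => by rw [bb_comm, C.n_Up (hE i)]) (fun i => by rw [bb_comm, C.n_Um (hG i)])
    (fun i => C.n_Up (hE i)) (fun i => C.n_Um (hG i)) (fun i j => C.Up_Up (hE i) (hE j))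
    (fun i j => C.Um_Um (hG i) (hG j)) hEG (fun i j => by rw [bb_comm, hEG]; simp only [eq_comm])
  have : FiniteDimensional F V := e.finiteDimensional_of_finite
  have hspan := hli.span_eq_top_of_card_eq_finrank (by rw [Nice.finrank_eq e, Fintype.card_fin])
  set d := f (E 0) (E 1) (E 2) with hd
  have hcr : N.cr (E 0) (E 1) = d • G 2 := by
    apply N.ext
    intro z
    have hz : z ∈ Submodule.span F (Set.range ![n, E 0, E 1, E 2, G 0, G 1, G 2]) := by
      rw [hspan]; trivial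
    induction hz using Submodule.span_induction with
    | mem z hz =>
      obtain ⟨i, rfl⟩ := hz
      rw [N.bb_cr, map_smul, LinearMap.smul_apply, smul_eq_mul]
      fin_cases i
      · change f (E 0) (E 1) n = d * bb e f (G 2) n
        rw [N.alt.rot, N.alt.rot, v1, bb_comm, C.n_Um (hG 2), mul_zero]
      · change f (E 0) (E 1) (E 0) = d * bb e f (G 2) (E 0)
        rw [N.alt.z13, bb_comm, hEG]; simp
      · change f (E 0) (E 1) (E 1) = d * bb e f (G 2) (E 1)
        rw [N.alt.z23, bb_comm, hEG]; simp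
      · change f (E 0) (E 1) (E 2) = d * bb e f (G 2) (E 2)
        rw [bb_comm, hEG]; simp [hd]
      · change f (E 0) (E 1) (G 0) = d * bb e f (G 2) (G 0)
        rw [v4, C.Um_Um (hG 2) (hG 0), mul_zero]
      · change f (E 0) (E 1) (G 1) = d * bb e f (G 2) (G 1)
        rw [v4, C.Um_Um (hG 2) (hG 1), mul_zero]
      · change f (E 0) (E 1) (G 2) = d * bb e f (G 2) (G 2)
        rw [v4, C.Um_Um (hG 2) (hG 2), mul_zero]
    | zero => simp
    | add y z _ _ h1 h2 => rw [map_add, map_add, h1, h2]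
    | smul a y _ h1 => rw [map_smul, map_smul, h1]
  have h1 := C.cr_cr (hG 0) (hE 0) (hE 1)
  rw [hcr, bb_comm (G 0), bb_comm (G 0), hEG, hEG, map_smul] at h1
  simp only [one_ne_zero, if_false, if_true, zero_smul, zero_sub, one_smul] at h1
  have hE1 : E 1 ≠ 0 := by
    intro h
    have := hEG 1 1
    rw [h] at this
    simp at this
  have hd0 : d ≠ 0 := by
    intro h
    rw [h, zero_smul] at h1
    have := smul_eq_zero.1 h1.symm
    rcases this with h | h
    · exact mul_ne_zero N.two C.k0 h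
    · exact hE1 (neg_eq_zero.1 h)
  refine ⟨E, G, d, hE, hG, hEG, hd0, v1, v2, v3, v4, v5, rfl, ?_⟩
  have h2 : d * f (G 0) (G 2) (G 1) = - (2 * k) := by
    have := congrArg (fun w => bb e f w (G 1)) h1
    simp only [map_smul, LinearMap.smul_apply, smul_eq_mul, N.bb_cr, map_neg, LinearMap.neg_apply,
      hEG, if_true] at this
    rw [this]; ring
  rw [N.alt.swap23]
  field_simp
  linear_combination -h2

/-- **normal form** -/
theorem normal_form : ∃ (B : Basis (Fin 7) F V) (l : F), l ≠ 0 ∧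
    ∀ x y z, f x y z = l * F0 (B.repr x) (B.repr y) (B.repr z) := by
  obtain ⟨E, G, d, hE, hG, hEG, hd, hv⟩ := C.exists_vals
  have h2 := N.two
  have hk := C.k0
  -- scaled system
  set E' : Fin 3 → V := ![(4 * k ^ 2 / d) • E 0, E 1, E 2] with hE'
  set G' : Fin 3 → V := ![(-(d / (2 * k))) • G 0, (-(2 * k)) • G 1, (-(2 * k)) • G 2] with hG'
  have hr : -(2 * k) ≠ 0 := neg_ne_zero.2 (mul_ne_zero h2 hk)
  have E'U : ∀ i, E' i ∈ C.Up := by
    intro i; fin_cases i
    · exact C.Up.smul_mem _ (hE 0)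
    · exact hE 1
    · exact hE 2
  have G'U : ∀ i, G' i ∈ C.Um := by
    intro i; fin_cases i
    · exact C.Um.smul_mem _ (hG 0)
    · exact C.Um.smul_mem _ (hG 1)
    · exact C.Um.smul_mem _ (hG 2)
  have hEG' : ∀ i j, bb e f (E' i) (G' j) = if i = j then -(2 * k) else 0 := by
    intro i j
    fin_cases i <;> fin_cases j <;> simp [hE', hG', hEG]
    field_simp
    ring
  have hli := li_seven (bb e f) ((-(2 * k)) • n) E' G' (r := -(2 * k)) hr
    (by
      rw [map_smul, map_smul, LinearMap.smul_apply, smul_smul, smul_eq_mul]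
      exact mul_ne_zero (mul_ne_zero hr hr) C.nn)
    (fun i => by rw [bb_comm, map_smul, LinearMap.smul_apply, C.n_Up (E'U i), smul_zero])
    (fun i => by rw [bb_comm, map_smul, LinearMap.smul_apply, C.n_Um (G'U i), smul_zero])
    (fun i => by rw [map_smul, LinearMap.smul_apply, C.n_Up (E'U i), smul_zero])
    (fun i => by rw [map_smul, LinearMap.smul_apply, C.n_Um (G'U i), smul_zero])
    (fun i j => C.Up_Up (E'U i) (E'U j))
    (fun i j => C.Um_Um (G'U i) (G'U j)) hEG' (fun i j => by rw [bb_comm, hEG']; simp only [eq_comm])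
  have : FiniteDimensional F V := e.finiteDimensional_of_finite
  let B : Basis (Fin 7) F V :=
    basisOfLinearIndependentOfCardEqFinrank hli (by rw [Nice.finrank_eq e, Fintype.card_fin])
  have hB : (B : Fin 7 → V) = ![(-(2 * k)) • n, E' 0, E' 1, E' 2, G' 0, G' 1, G' 2] :=
    coe_basisOfLinearIndependentOfCardEqFinrank _ _
  refine ⟨B, 4 * k ^ 2, ?_, ?_⟩
  · have : (4 : F) * k ^ 2 = (-(2 * k)) * (-(2 * k)) := by ring
    rw [this]; exact mul_ne_zero hr hr
  refine Vals.eq_F0 N.alt (E := E') (G := G') ?_ B hB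
  have v2' : ∀ i j, f n (E' i) (G' j) = if i = j then -(2 * k) else 0 := fun i j => by
    rw [← N.bb_cr, C.mem_Up.1 (E'U i), hEG']
  refine ⟨fun i j => ?_, fun i j => ?_, fun i j => ?_, fun i j l => ?_, fun i j l => ?_, ?_, ?_⟩
  · rw [map_smul, LinearMap.smul_apply, LinearMap.smul_apply, ← N.bb_cr, C.mem_Up.1 (E'U i),
      C.Up_Up (E'U i) (E'U j), smul_zero]
  · rw [map_smul, LinearMap.smul_apply, LinearMap.smul_apply, v2', smul_eq_mul]
    split_ifs
    · ring
    · ring
  · rw [map_smul, LinearMap.smul_apply, LinearMap.smul_apply, ← N.bb_cr, C.mem_Um.1 (G'U i),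
      map_neg, LinearMap.neg_apply, C.Um_Um (G'U i) (G'U j), neg_zero, smul_zero]
  · rw [← N.bb_cr, C.Um_Um (C.cr_Up_Up (E'U i) (E'U j)) (G'U l)]
  · rw [← N.bb_cr, C.cr_Up_Um (E'U i) (G'U j), map_smul, LinearMap.smul_apply, C.n_Um (G'U l),
      smul_zero]
  · change f ((4 * k ^ 2 / d) • E 0) (E 1) (E 2) = _
    rw [map_smul, LinearMap.smul_apply, LinearMap.smul_apply, hv.EEE, smul_eq_mul]
    field_simp
  · change f ((-(d / (2 * k))) • G 0) ((-(2 * k)) • G 1) ((-(2 * k)) • G 2) = _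
    simp only [map_smul, LinearMap.smul_apply, hv.GGG, smul_eq_mul]
    field_simp
    ring

end Comp

theorem Nice.normal_form (N : Nice e f) (h : ∃ u, u ≠ 0 ∧ Qf e f u = 0) :
    ∃ (B : Basis (Fin 7) F V) (l : F), l ≠ 0 ∧
      ∀ x y z, f x y z = l * F0 (B.repr x) (B.repr y) (B.repr z) := by
  obtain ⟨k, n, C⟩ := N.exists_Comp h
  exact C.normal_form

end Cfsg.Agent.H179.G2
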