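import Cfsg.Agent.H179.G2Null

/-!
# The cross product of a non-degenerate alternating 3-form in dimension 7
-/

namespace Cfsg.Agent.H179.G2

open QuadraticMap Module

variable {F V : Type*} [Field F] [AddCommGroup V] [Module F V]

/-- the polar form of `Qf e f` as a bilinear map -/
noncomputable def bb (e : Basis (Fin 7) F V) (f : V →ₗ[F] V →ₗ[F] V →ₗ[F] F) :
    V →ₗ[F] V →ₗ[F] F :=
  polarBilin (Qf e f)

variable {e : Basis (Fin 7) F V} {f : V →ₗ[F] V →ₗ[F] V →ₗ[F] F}

theorem bb_apply (x y : V) : bb e f x y = polar (Qf e f) x y := rfl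

theorem bb_comm (x y : V) : bb e f x y = bb e f y x := QuadraticMap.polar_comm _ _ _

theorem bb_self (x : V) : bb e f x x = 2 * Qf e f x := by
  rw [bb_apply, QuadraticMap.polar_self, two_smul]; ring

theorem Qf_add (x y : V) : Qf e f (x + y) = Qf e f x + Qf e f y + bb e f x y :=
  QuadraticMap.map_add _ x y

theorem Qf_smul (c : F) (x : V) : Qf e f (c • x) = c ^ 2 * Qf e f x := by
  rw [QuadraticMap.map_smul, smul_eq_mul]; ring

namespace Nice

theorem null_iff (N : Nice e f) (x : V) : bb e f x x = 0 ↔ Qf e f x = 0 := by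
  rw [bb_self]
  exact ⟨fun h => (mul_eq_zero.1 h).resolve_left N.two, fun h => by rw [h, mul_zero]⟩

theorem ext (N : Nice e f) {x y : V} (h : ∀ z, bb e f x z = bb e f y z) : x = y := by
  rw [← sub_eq_zero]
  apply N.nd
  intro z
  have : bb e f (x - y) z = 0 := by rw [map_sub, LinearMap.sub_apply, h, sub_self]
  exact this

theorem isRefl (e : Basis (Fin 7) F V) (f : V →ₗ[F] V →ₗ[F] V →ₗ[F] F) :
    LinearMap.IsRefl (bb e f) := fun x y h => by rw [bb_comm]; exact h

theorem nondeg (N : Nice e f) : (bb e f).Nondegenerate :=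
  (LinearMap.IsRefl.nondegenerate_iff_separatingLeft (isRefl e f)).2 fun x hx => N.nd x hx

/-- the cross product -/
noncomputable def cr (N : Nice e f) : V →ₗ[F] V →ₗ[F] V :=
  haveI : FiniteDimensional F V := e.finiteDimensional_of_finite
  f.compr₂ (LinearMap.BilinForm.toDual (bb e f) N.nondeg).symm.toLinearMap

theorem bb_cr (N : Nice e f) (x y z : V) : bb e f (N.cr x y) z = f x y z := by
  have : FiniteDimensional F V := e.finiteDimensional_of_finite
  exact LinearMap.BilinForm.apply_toDual_symm_apply (B := bb e f) (hB := N.nondeg) (f x y) z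

theorem cr_self (N : Nice e f) (x : V) : N.cr x x = 0 := by
  apply N.ext; intro z; rw [N.bb_cr, N.alt.self, map_zero, LinearMap.zero_apply]

theorem cr_anti (N : Nice e f) (x y : V) : N.cr x y = - N.cr y x := by
  apply N.ext; intro z
  rw [N.bb_cr, map_neg, LinearMap.neg_apply, N.bb_cr, N.alt.swap12]

theorem cr_eq_zero (N : Nice e f) {x y : V} : N.cr x y = 0 ↔ f x y = 0 := by
  constructor
  · intro h
    ext z
    rw [← N.bb_cr, h]; simp
  · intro h
    apply N.ext; intro z; rw [N.bb_cr, h]; simp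

theorem bb_cr_skew (N : Nice e f) (x y z : V) : bb e f (N.cr x y) z = - bb e f y (N.cr x z) := by
  rw [bb_comm y, N.bb_cr, N.bb_cr, N.alt.swap23]

theorem bb_cr_right (N : Nice e f) (x y z : V) : bb e f z (N.cr x y) = f x y z := by
  rw [bb_comm, N.bb_cr]

theorem exists_third {K : Submodule F V} [FiniteDimensional F K] (hK : 3 ≤ finrank F K) {w x : V}
    (hw : w ∈ K) (hx : x ∈ K) (hli : LinearIndependent F ![w, x]) :
    ∃ s ∈ K, LinearIndependent F ![w, x, s] := by
  have h1 : LinearIndependent F (![⟨w, hw⟩, ⟨x, hx⟩] : Fin 2 → K) := by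
    apply LinearIndependent.of_comp K.subtype
    have : K.subtype ∘ (![⟨w, hw⟩, ⟨x, hx⟩] : Fin 2 → K) = ![w, x] := by
      funext i; fin_cases i <;> rfl
    rw [this]; exact hli
  obtain ⟨s, hs⟩ := exists_linearIndependent_snoc_of_lt_finrank h1 (by omega)
  refine ⟨s, s.2, ?_⟩
  have h2 := hs.map' K.subtype K.ker_subtype
  have : K.subtype ∘ (Fin.snoc (α := fun _ => K) (![⟨w, hw⟩, ⟨x, hx⟩] : Fin 2 → K) s) =
      ![w, x, s] := by
    funext i; fin_cases i <;> rfl
  rw [← this]; exact h2

/-- the square of the multiplication by a null vector -/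
theorem null_cross (N : Nice e f) {x : V} (hx0 : x ≠ 0) (hx : Qf e f x = 0) :
    ∃ k : F, k ≠ 0 ∧ ∀ y, N.cr x (N.cr x y) = (k * bb e f x y) • x := by
  have : FiniteDimensional F V := e.finiteDimensional_of_finite
  have hfr := finrank_eq (F := F) e
  set K := LinearMap.ker (f x) with hK
  have hK3 : finrank F K = 3 := N.ker_eq hx0 hx
  have hKn : ∀ k ∈ K, Qf e f k = 0 := fun k hk => N.null_of_ker hx0 hx hk
  have hKb : ∀ k ∈ K, ∀ k' ∈ K, bb e f k k' = 0 := by
    intro k hk k' hk'
    have := Qf_add (e := e) (f := f) k k'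
    rw [hKn k hk, hKn k' hk', hKn _ (K.add_mem hk hk')] at this
    simpa using this.symm
  set P := LinearMap.BilinForm.orthogonal (bb e f) K with hP
  have hP4 : finrank F P = 4 := by
    rw [hP, LinearMap.BilinForm.finrank_orthogonal N.nondeg, hfr, hK3]
  have hmemP : ∀ v, v ∈ P ↔ ∀ k ∈ K, bb e f k v = 0 := fun v => Iff.rfl
  have hKP : K ≤ P := fun k hk => (hmemP k).2 fun k' hk' => hKb k' hk' k hk
  have hlt : K < P := by
    refine lt_of_le_of_ne hKP fun h => ?_
    rw [h, hP4] at hK3; omega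
  obtain ⟨n, hnP, hnK⟩ := SetLike.exists_of_lt hlt
  have hPeq : K ⊔ F ∙ n = P := by
    refine Submodule.eq_of_le_of_finrank_le (sup_le hKP ?_) ?_
    · rw [Submodule.span_singleton_le_iff_mem]; exact hnP
    · rw [hP4]
      have : K < K ⊔ F ∙ n := by
        refine lt_of_le_of_ne le_sup_left fun h => hnK ?_
        rw [h]
        exact Submodule.mem_sup_right (Submodule.mem_span_singleton_self n)
      have := Submodule.finrank_lt_finrank_of_lt this
      omega
  have hdec : ∀ v ∈ P, ∃ k ∈ K, ∃ a : F, v = k + a • n := by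
    intro v hv
    rw [← hPeq, Submodule.mem_sup] at hv
    obtain ⟨k, hk, m, hm, rfl⟩ := hv
    obtain ⟨a, rfl⟩ := Submodule.mem_span_singleton.1 hm
    exact ⟨k, hk, a, rfl⟩
  have hnk : ∀ k ∈ K, bb e f k n = 0 := (hmemP n).1 hnP
  have hqn : bb e f n n ≠ 0 := by
    intro h
    apply hnK
    have hoo : LinearMap.BilinForm.orthogonal (bb e f) P = K := by
      rw [hP]
      exact LinearMap.BilinForm.orthogonal_orthogonal N.nondeg (isRefl e f) K
    rw [← hoo]
    intro v hv
    obtain ⟨k, hk, a, rfl⟩ := hdec v hv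
    change bb e f (k + a • n) n = 0
    simp [hnk k hk, h]
  -- image of `cr x`
  have him : ∀ y, N.cr x y ∈ P := by
    intro y
    rw [hmemP]
    intro k hk
    rw [N.bb_cr_right, N.alt.swap23, show f x k = 0 from hk]; simp
  set w := N.cr x n with hw
  have hker : ∀ k ∈ K, N.cr x k = 0 := fun k hk => N.cr_eq_zero.2 hk
  have hsq : ∀ y, N.cr x (N.cr x y) = (-(bb e f w y) / bb e f n n) • w := by
    intro y
    obtain ⟨k, hk, a, ha⟩ := hdec _ (him y)
    have h1 : bb e f (N.cr x y) n = a * bb e f n n := by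
      rw [ha]; simp [hnk k hk]
    have h2 : bb e f (N.cr x y) n = - bb e f w y := by
      rw [N.bb_cr_skew, ← hw, bb_comm]
    have h3 : a = -(bb e f w y) / bb e f n n := by
      field_simp; rw [← h1, h2]
    rw [← h3, ha, map_add, map_smul, hker k hk, zero_add]
  have hwn : bb e f w n = 0 := by rw [hw, N.bb_cr, N.alt.z23]
  have hwK : w ∈ K := by
    rw [hK, LinearMap.mem_ker, ← N.cr_eq_zero, hw, hsq n, hwn]; simp
  have hw0 : w ≠ 0 := fun h => hnK (N.cr_eq_zero.1 h)
  have hwq : Qf e f w = 0 := hKn w hwK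
  by_cases hwx : ∃ c : F, c • x = w
  · obtain ⟨c, hc⟩ := hwx
    have hc0 : c ≠ 0 := fun h => hw0 (by rw [← hc, h, zero_smul])
    refine ⟨-(c ^ 2) / bb e f n n, div_ne_zero (neg_ne_zero.2 (pow_ne_zero 2 hc0)) hqn, fun y => ?_⟩
    rw [hsq y, ← hc, smul_smul, map_smul, LinearMap.smul_apply, smul_eq_mul]
    congr 1
    field_simp
  · exfalso
    push Not at hwx
    -- the radical of `w`
    have hxw : f w x = 0 := by
      ext v
      rw [N.alt.swap12, show f x w = 0 from hwK]; simp
    have hKw : finrank F (LinearMap.ker (f w)) = 3 := N.ker_eq hw0 hwq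
    have hwx' : ∀ c : F, c • w ≠ x := by
      intro c hc
      have hc0 : c ≠ 0 := by
        rintro rfl
        exact hx0 (by rw [← hc, zero_smul])
      apply hwx c⁻¹
      rw [← hc, smul_smul, inv_mul_cancel₀ hc0, one_smul]
    have hli2 : LinearIndependent F ![w, x] := (LinearIndependent.pair_iff' hw0).2 hwx'
    have hwk : f w w = 0 := by ext v; exact N.alt.self w v
    obtain ⟨s, hsk, hli3⟩ := exists_third (K := LinearMap.ker (f w)) (by omega) hwk hxw hli2
    obtain ⟨l, hl, hls⟩ := N.exists_lam hwq hxw hsk hli3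
    have h1 : N.cr x s = l • w := by
      apply N.ext; intro z
      rw [N.bb_cr, N.alt.rot, N.alt.rot, hls z, map_smul, LinearMap.smul_apply, smul_eq_mul, bb_apply]
    have h2 : s - l • n ∈ K := by
      rw [hK, LinearMap.mem_ker, ← N.cr_eq_zero, map_sub, map_smul, h1, ← hw, sub_self]
    have h3 : Qf e f s = 0 := N.null_of_ker hw0 hwq hsk
    have h4 : s = (s - l • n) + l • n := by abel
    rw [← N.null_iff, h4] at h3
    simp only [map_add, LinearMap.add_apply, map_smul, LinearMap.smul_apply, smul_eq_mul,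
      hKb _ h2 _ h2, hnk _ h2, bb_comm n (s - l • n)] at h3
    apply mul_ne_zero (mul_ne_zero hl hl) hqn
    linear_combination h3

end Nice

end Cfsg.Agent.H179.G2
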