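import Cfsg.Agent.H179.G2H
import Cfsg.Prelude

/-!
# The standard alternating 3-form on `F^7` and its stabiliser

Coordinates: `0` is the vector `n`, `1, 2, 3` are `e₁, e₂, e₃` and `4, 5, 6` are `f₁, f₂, f₃`;
`F0 = ∑ n eᵢ fᵢ + e₁ e₂ e₃ - f₁ f₂ f₃`.
-/

namespace Cfsg.Agent.H179.G2

open scoped Matrix

variable {F : Type*} [Field F]

/-- the 3 by 3 minor with rows `i j k` of the three vectors -/
def d3 (i j k : Fin 7) (x y z : Fin 7 → F) : F :=
  x i * (y j * z k - y k * z j) - x j * (y i * z k - y k * z i) + x k * (y i * z j - y j * z i)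

/-- the standard alternating 3-form on `F^7` -/
def F0 (x y z : Fin 7 → F) : F :=
  d3 0 1 4 x y z + d3 0 2 5 x y z + d3 0 3 6 x y z + d3 1 2 3 x y z - d3 4 5 6 x y z

/-- the stabiliser of the standard 3-form in `SL₇(F)` -/
def M0 (F : Type*) [Field F] : Subgroup (Matrix.GeneralLinearGroup (Fin 7) F) where
  carrier := {g | (g : Matrix (Fin 7) (Fin 7) F).det = 1 ∧
    ∀ x y z : Fin 7 → F, F0 ((g : Matrix (Fin 7) (Fin 7) F) *ᵥ x)
      ((g : Matrix (Fin 7) (Fin 7) F) *ᵥ y) ((g : Matrix (Fin 7) (Fin 7) F) *ᵥ z) = F0 x y z}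
  mul_mem' {g h} hg hh := by
    refine ⟨by rw [Units.val_mul, Matrix.det_mul, hg.1, hh.1, one_mul], fun x y z => ?_⟩
    rw [Units.val_mul, ← Matrix.mulVec_mulVec, ← Matrix.mulVec_mulVec, ← Matrix.mulVec_mulVec,
      hg.2, hh.2]
  one_mem' := ⟨by simp, fun x y z => by simp⟩
  inv_mem' {g} hg := by
    have hgi : (g : Matrix (Fin 7) (Fin 7) F) * (g⁻¹ : Matrix.GeneralLinearGroup (Fin 7) F) = 1 := by
      rw [← Units.val_mul, mul_inv_cancel, Units.val_one]
    refine ⟨?_, fun x y z => ?_⟩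
    · have := congrArg Matrix.det hgi
      rw [Matrix.det_mul, hg.1, one_mul, Matrix.det_one] at this
      exact this
    · have := hg.2 (((g⁻¹ : Matrix.GeneralLinearGroup (Fin 7) F) : Matrix _ _ F) *ᵥ x)
        (((g⁻¹ : Matrix.GeneralLinearGroup (Fin 7) F) : Matrix _ _ F) *ᵥ y)
        (((g⁻¹ : Matrix.GeneralLinearGroup (Fin 7) F) : Matrix _ _ F) *ᵥ z)
      rw [Matrix.mulVec_mulVec, Matrix.mulVec_mulVec, Matrix.mulVec_mulVec, hgi,
        Matrix.one_mulVec, Matrix.one_mulVec, Matrix.one_mulVec] at this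
      exact this.symm

end Cfsg.Agent.H179.G2
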