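import Cfsg.Agent.H179.G2Norm
import Cfsg.Agent.H179.G2Std

/-!
# Normal form of a non-degenerate alternating 3-form in dimension 7
-/

namespace Cfsg.Agent.H179.G2

open QuadraticMap Module

variable {F V : Type*} [Field F] [AddCommGroup V] [Module F V]
variable {e : Basis (Fin 7) F V} {f : V →ₗ[F] V →ₗ[F] V →ₗ[F] F}

theorem F0_self12 (x z : Fin 7 → F) : F0 x x z = 0 := by simp only [F0, d3]; ring
theorem F0_self23 (x z : Fin 7 → F) : F0 x z z = 0 := by simp only [F0, d3]; ring
theorem F0_swap12 (x y z : Fin 7 → F) : F0 x y z = - F0 y x z := by simp only [F0, d3]; ring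
theorem F0_swap23 (x y z : Fin 7 → F) : F0 x y z = - F0 x z y := by simp only [F0, d3]; ring

/-- the standard 3-form as a trilinear map -/
def F0L (F : Type*) [Field F] : (Fin 7 → F) →ₗ[F] (Fin 7 → F) →ₗ[F] (Fin 7 → F) →ₗ[F] F where
  toFun x := LinearMap.mk₂ F (fun y z => F0 x y z)
    (fun y y' z => by simp only [F0, d3, Pi.add_apply]; ring)
    (fun c y z => by simp only [F0, d3, Pi.smul_apply, smul_eq_mul]; ring)
    (fun y z z' => by simp only [F0, d3, Pi.add_apply]; ring)
    (fun c y z => by simp only [F0, d3, Pi.smul_apply, smul_eq_mul]; ring)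
  map_add' x x' := by
    ext y z
    simp only [LinearMap.mk₂_apply, LinearMap.add_apply, LinearMap.comp_apply, F0, d3, Pi.add_apply]
    ring
  map_smul' c x := by
    ext y z
    simp only [LinearMap.mk₂_apply, LinearMap.smul_apply, LinearMap.comp_apply, F0, d3,
      Pi.smul_apply, smul_eq_mul, RingHom.id_apply]
    ring

@[simp] theorem F0L_apply (x y z : Fin 7 → F) : F0L F x y z = F0 x y z := rfl

theorem tri_sum (B : Basis (Fin 7) F V) (T : V →ₗ[F] V →ₗ[F] V →ₗ[F] F) (x y z : V) :
    T x y z = ∑ i, ∑ j, ∑ k, B.repr x i * B.repr y j * B.repr z k * T (B i) (B j) (B k) := by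
  have h3 : ∀ g : V →ₗ[F] F, g z = ∑ k, B.repr z k * g (B k) := by
    intro g
    conv_lhs => rw [← B.sum_repr z]
    simp only [map_sum, map_smul, smul_eq_mul]
  have h2 : ∀ g : V →ₗ[F] V →ₗ[F] F, g y z = ∑ j, B.repr y j * g (B j) z := by
    intro g
    conv_lhs => rw [← B.sum_repr y]
    simp only [map_sum, map_smul, LinearMap.sum_apply, LinearMap.smul_apply, smul_eq_mul]
  have h1 : T x y z = ∑ i, B.repr x i * T (B i) y z := by
    conv_lhs => rw [← B.sum_repr x]
    simp only [map_sum, map_smul, LinearMap.sum_apply, LinearMap.smul_apply, smul_eq_mul]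
  rw [h1]
  refine Finset.sum_congr rfl fun i _ => ?_
  rw [h2 (T (B i)), Finset.mul_sum]
  refine Finset.sum_congr rfl fun j _ => ?_
  rw [h3 (T (B i) (B j)), Finset.mul_sum, Finset.mul_sum]
  refine Finset.sum_congr rfl fun k _ => ?_
  ring

/-- two alternating functions which agree on increasing triples are equal -/
theorem IsAlt.ext_lt {R : Type*} [CommRing R] {φ ψ : Fin 7 → Fin 7 → Fin 7 → R} (h1 : IsAlt φ)
    (h2 : IsAlt ψ) (h : ∀ i j k, i < j → j < k → φ i j k = ψ i j k) (i j k : Fin 7) :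
    φ i j k = ψ i j k := by
  rcases eq_or_ne i j with rfl | hij
  · rw [h1.self, h2.self]
  rcases eq_or_ne j k with rfl | hjk
  · rw [h1.z23, h2.z23]
  rcases eq_or_ne i k with rfl | hik
  · rw [h1.z13, h2.z13]
  rcases lt_or_gt_of_ne hij with a | a <;> rcases lt_or_gt_of_ne hjk with b | b <;>
    rcases lt_or_gt_of_ne hik with c | c
  · exact h _ _ _ a b
  · exact absurd (a.trans b) (lt_asymm c)
  · rw [h1.swap23, h2.swap23, h _ _ _ c b]
  · rw [h1.rot, h1.rot, h2.rot, h2.rot, h _ _ _ c a]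
  · rw [h1.swap12, h2.swap12, h _ _ _ a c]
  · rw [h1.rot, h2.rot, h _ _ _ b c]
  · exact absurd (b.trans a) (lt_asymm c)
  · rw [h1.swap12 i j k, h2.swap12 i j k, h1.rot j i k, h2.rot j i k, h1.rot i k j, h2.rot i k j,
      h _ _ _ b a]

/-- the coordinates of the standard 3-form -/
def psi (F : Type*) [Field F] (i j k : Fin 7) : F :=
  F0 (Pi.single i 1) (Pi.single j 1) (Pi.single k 1)

theorem psi_isAlt : IsAlt (psi F) :=
  ⟨fun _ _ => F0_self12 _ _, fun _ _ => F0_self23 _ _, fun _ _ _ => F0_swap12 _ _ _,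
    fun _ _ _ => F0_swap23 _ _ _⟩

theorem IsAlt.smul {φ : Fin 7 → Fin 7 → Fin 7 → F} (h : IsAlt φ) (c : F) :
    IsAlt (fun i j k => c * φ i j k) :=
  ⟨fun i j => by simp only [h.self, mul_zero], fun i j => by simp only [h.z23, mul_zero],
    fun i j k => by rw [h.swap12, mul_neg], fun i j k => by rw [h.swap23, mul_neg]⟩

/-- a form with the coordinates of the standard form is the standard form -/
theorem eq_F0 (h : IsAltForm f) (B : Basis (Fin 7) F V) (l : F)
    (h0 : ∀ i j k, i < j → j < k → f (B i) (B j) (B k) = l * psi F i j k) (x y z : V) :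
    f x y z = l * F0 (B.repr x) (B.repr y) (B.repr z) := by
  have h1 := (coord_isAlt B h).ext_lt ((psi_isAlt (F := F)).smul l) h0
  rw [tri_sum B f, ← F0L_apply, tri_sum (Pi.basisFun F (Fin 7)) (F0L F)]
  simp only [Finset.mul_sum]
  refine Finset.sum_congr rfl fun i _ => Finset.sum_congr rfl fun j _ =>
    Finset.sum_congr rfl fun k _ => ?_
  have h2 : f (B i) (B j) (B k) = l * psi F i j k := h1 i j k
  rw [h2, psi]
  simp only [Pi.basisFun_repr, Pi.basisFun_apply, F0L_apply]
  ring

/-- seven vectors forming a hyperbolic system are linearly independent -/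
theorem li_seven (b : V →ₗ[F] V →ₗ[F] F) (n : V) (E G : Fin 3 → V) {r : F} (hr : r ≠ 0)
    (hn : b n n ≠ 0) (nE : ∀ i, b (E i) n = 0) (nG : ∀ i, b (G i) n = 0) (En : ∀ i, b n (E i) = 0)
    (Gn : ∀ i, b n (G i) = 0) (EE : ∀ i j, b (E i) (E j) = 0) (GG : ∀ i j, b (G i) (G j) = 0)
    (EG : ∀ i j, b (E i) (G j) = if i = j then r else 0)
    (GE : ∀ i j, b (G i) (E j) = if i = j then r else 0) :
    LinearIndependent F ![n, E 0, E 1, E 2, G 0, G 1, G 2] := by
  rw [Fintype.linearIndependent_iff]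
  intro c hc
  simp only [Fin.sum_univ_succ, Fin.sum_univ_zero, Matrix.cons_val_zero, Matrix.cons_val_succ,
    add_zero] at hc
  have key : ∀ v, c 0 * b n v + (c 1 * b (E 0) v + (c 2 * b (E 1) v + (c 3 * b (E 2) v +
      (c 4 * b (G 0) v + (c 5 * b (G 1) v + c 6 * b (G 2) v))))) = 0 := by
    intro v
    have := congrArg (fun w => b w v) hc
    simp only [map_add, map_smul, LinearMap.add_apply, LinearMap.smul_apply, smul_eq_mul, map_zero,
      LinearMap.zero_apply] at this
    exact this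
  have k0 := key n
  have k1 := key (G 0)
  have k2 := key (G 1)
  have k3 := key (G 2)
  have k4 := key (E 0)
  have k5 := key (E 1)
  have k6 := key (E 2)
  simp only [nE, nG, En, Gn, EE, GG, EG, GE] at k0 k1 k2 k3 k4 k5 k6
  have h01 : ((0 : Fin 3) = 1) = False := by simp
  have h02 : ((0 : Fin 3) = 2) = False := by simp
  have h10 : ((1 : Fin 3) = 0) = False := by simp
  have h12 : ((1 : Fin 3) = 2) = False := by simp
  have h20 : ((2 : Fin 3) = 0) = False := by simp
  have h21 : ((2 : Fin 3) = 1) = False := by simp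
  simp only [h01, h02, h10, h12, h20, h21, if_true, if_false, mul_zero, zero_add, add_zero,
    mul_eq_zero, hr, hn, or_false] at k0 k1 k2 k3 k4 k5 k6
  intro i
  fin_cases i
  exacts [k0, k1, k2, k3, k4, k5, k6]

/-- the values of `f` on a hyperbolic system adapted to the eigenspaces -/
structure Vals (f : V →ₗ[F] V →ₗ[F] V →ₗ[F] F) (n : V) (E G : Fin 3 → V) (a b c : F) : Prop where
  nEE : ∀ i j, f n (E i) (E j) = 0
  nEG : ∀ i j, f n (E i) (G j) = if i = j then a else 0
  nGG : ∀ i j, f n (G i) (G j) = 0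
  EEG : ∀ i j l, f (E i) (E j) (G l) = 0
  EGG : ∀ i j l, f (E i) (G j) (G l) = 0
  EEE : f (E 0) (E 1) (E 2) = b
  GGG : f (G 0) (G 1) (G 2) = c

/-- a form with the right values on a basis is the standard form -/
theorem Vals.eq_F0 (h : IsAltForm f) {n : V} {E G : Fin 3 → V} {a : F}
    (hv : Vals f n E G a a (-a)) (B : Basis (Fin 7) F V)
    (hB : (B : Fin 7 → V) = ![n, E 0, E 1, E 2, G 0, G 1, G 2]) (x y z : V) :
    f x y z = a * F0 (B.repr x) (B.repr y) (B.repr z) := by
  refine G2.eq_F0 h B a ?_ x y z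
  have h01 : ((0 : Fin 3) = 1) = False := by simp
  have h02 : ((0 : Fin 3) = 2) = False := by simp
  have h10 : ((1 : Fin 3) = 0) = False := by simp
  have h12 : ((1 : Fin 3) = 2) = False := by simp
  have h20 : ((2 : Fin 3) = 0) = False := by simp
  have h21 : ((2 : Fin 3) = 1) = False := by simp
  have b0 : B 0 = n := by rw [hB]; rfl
  have b1 : B 1 = E 0 := by rw [hB]; rfl
  have b2 : B 2 = E 1 := by rw [hB]; rfl
  have b3 : B 3 = E 2 := by rw [hB]; rfl
  have b4 : B 4 = G 0 := by rw [hB]; rfl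
  have b5 : B 5 = G 1 := by rw [hB]; rfl
  have b6 : B 6 = G 2 := by rw [hB]; rfl
  intro i j k hij hjk
  fin_cases i <;> fin_cases j <;> fin_cases k <;>
    first
    | exact absurd hij (by decide)
    | exact absurd hjk (by decide)
    | (simp [b0, b1, b2, b3, b4, b5, b6, hv.nEE, hv.nEG, hv.nGG, hv.EEG, hv.EGG, hv.EEE, hv.GGG,
        psi, F0, d3, h01, h02, h10, h12, h20, h21])

end Cfsg.Agent.H179.G2
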