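import Cfsg.Agent.H179.G2Qf

/-!
# Alternating 3-forms in dimension 7: the fundamental identity

For an alternating trilinear form `f` on a space with a basis `e` of seven vectors there is a
quadratic form `Qf e f` with
`pf6 (f x) c₀ ... c₅ = Qf e f x * e.det (x, c₀, ..., c₅)` for all `x` and `c` (`pf6_eq`).
-/

namespace Cfsg.Agent.H179.G2

open Equiv

variable {F V : Type*} [Field F] [AddCommGroup V] [Module F V]

/-- an alternating trilinear form -/
structure IsAltForm (f : V →ₗ[F] V →ₗ[F] V →ₗ[F] F) : Prop where
  self : ∀ x y, f x x y = 0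
  z23 : ∀ x y, f x y y = 0

namespace IsAltForm

variable {f : V →ₗ[F] V →ₗ[F] V →ₗ[F] F}

theorem swap12 (h : IsAltForm f) (x y z : V) : f x y z = - f y x z := by
  have := h.self (x + y) z
  simp only [map_add, LinearMap.add_apply, h.self, zero_add, add_zero] at this
  exact eq_neg_of_add_eq_zero_right this

theorem swap23 (h : IsAltForm f) (x y z : V) : f x y z = - f x z y := by
  have := h.z23 x (y + z)
  simp only [map_add, LinearMap.add_apply, h.z23, zero_add, add_zero] at this
  exact eq_neg_of_add_eq_zero_right this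

theorem z13 (h : IsAltForm f) (x y : V) : f x y x = 0 := by
  rw [h.swap23, h.self, neg_zero]

theorem rot (h : IsAltForm f) (x y z : V) : f x y z = f y z x := by
  rw [h.swap12, h.swap23 y x z, neg_neg]

end IsAltForm

/-- `pf6` of an alternating bilinear form as an alternating map -/
def pfAlt (w : V →ₗ[F] V →ₗ[F] F) (h : ∀ u, w u u = 0) : V [⋀^Fin 6]→ₗ[F] F where
  toFun c := pf6 (fun u v => w u v) (c 0) (c 1) (c 2) (c 3) (c 4) (c 5)
  map_update_add' := by
    intro inst c i x y
    have : inst = instDecidableEqFin 6 := Subsingleton.elim _ _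
    subst this
    fin_cases i <;> simp [Function.update, pf6, pf4] <;> ring
  map_update_smul' := by
    intro inst c i t x
    have : inst = instDecidableEqFin 6 := Subsingleton.elim _ _
    subst this
    fin_cases i <;> simp [Function.update, pf6, pf4] <;> ring
  map_eq_zero_of_eq' := by
    have hs : ∀ u v, w u v = - w v u := by
      intro u v
      have := h (u + v)
      simp only [map_add, LinearMap.add_apply, h, zero_add, add_zero] at this
      exact eq_neg_of_add_eq_zero_right this
    have key : ∀ (c : Fin 6 → V) (i j : Fin 6), i < j → c i = c j →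
        pf6 (fun u v => w u v) (c 0) (c 1) (c 2) (c 3) (c 4) (c 5) = 0 := by
      intro c i j hij hc
      fin_cases i <;> fin_cases j <;> first | exact absurd hij (by decide) | skip
      · have hc' : c 0 = c 1 := hc
        simp only [hc', pf6, pf4, h]
        ring
      · have hc' : c 0 = c 2 := hc
        simp only [hc', pf6, pf4, h, hs (c 2) (c 1)]
        ring
      · have hc' : c 0 = c 3 := hc
        simp only [hc', pf6, pf4, h, hs (c 3) (c 1), hs (c 3) (c 2)]
        ring
      · have hc' : c 0 = c 4 := hc
        simp only [hc', pf6, pf4, h, hs (c 4) (c 1), hs (c 4) (c 2), hs (c 4) (c 3)]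
        ring
      · have hc' : c 0 = c 5 := hc
        simp only [hc', pf6, pf4, h, hs (c 5) (c 1), hs (c 5) (c 2), hs (c 5) (c 3), hs (c 5) (c 4)]
        ring
      · have hc' : c 1 = c 2 := hc
        simp only [hc', pf6, pf4, h]
        ring
      · have hc' : c 1 = c 3 := hc
        simp only [hc', pf6, pf4, h, hs (c 3) (c 2)]
        ring
      · have hc' : c 1 = c 4 := hc
        simp only [hc', pf6, pf4, h, hs (c 4) (c 2), hs (c 4) (c 3)]
        ring
      · have hc' : c 1 = c 5 := hc
        simp only [hc', pf6, pf4, h, hs (c 5) (c 2), hs (c 5) (c 3), hs (c 5) (c 4)]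
        ring
      · have hc' : c 2 = c 3 := hc
        simp only [hc', pf6, pf4, h]
        ring
      · have hc' : c 2 = c 4 := hc
        simp only [hc', pf6, pf4, h, hs (c 4) (c 3)]
        ring
      · have hc' : c 2 = c 5 := hc
        simp only [hc', pf6, pf4, h, hs (c 5) (c 3), hs (c 5) (c 4)]
        ring
      · have hc' : c 3 = c 4 := hc
        simp only [hc', pf6, pf4, h]
        ring
      · have hc' : c 3 = c 5 := hc
        simp only [hc', pf6, pf4, h, hs (c 5) (c 4)]
        ring
      · have hc' : c 4 = c 5 := hc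
        simp only [hc', pf6, pf4, h]
        ring
    intro c i j hc hij
    rcases lt_or_gt_of_ne hij with h1 | h1
    · exact key c i j h1 hc
    · exact key c j i h1 hc.symm

@[simp] theorem pfAlt_apply (w : V →ₗ[F] V →ₗ[F] F) (h : ∀ u, w u u = 0) (c : Fin 6 → V) :
    pfAlt w h c = pf6 (fun u v => w u v) (c 0) (c 1) (c 2) (c 3) (c 4) (c 5) := rfl

/-- the coordinates of a trilinear form -/
noncomputable def coord (e : Module.Basis (Fin 7) F V) (f : V →ₗ[F] V →ₗ[F] V →ₗ[F] F) (i j k : Fin 7) : F :=
  f (e i) (e j) (e k)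

theorem coord_isAlt (e : Module.Basis (Fin 7) F V) {f : V →ₗ[F] V →ₗ[F] V →ₗ[F] F}
    (h : IsAltForm f) : IsAlt (coord e f) :=
  ⟨fun _ _ => h.self _ _, fun _ _ => h.z23 _ _, fun _ _ _ => h.swap12 _ _ _,
    fun _ _ _ => h.swap23 _ _ _⟩

/-- the quadratic form of an alternating 3-form -/
noncomputable def Qf (e : Module.Basis (Fin 7) F V) (f : V →ₗ[F] V →ₗ[F] V →ₗ[F] F) : QuadraticForm F V :=
  (qform (coord e f)).comp (e.equivFun : V →ₗ[F] (Fin 7 → F))

theorem Qf_apply (e : Module.Basis (Fin 7) F V) (f : V →ₗ[F] V →ₗ[F] V →ₗ[F] F) (x : V) :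
    Qf e f x = qf (coord e f) (e.repr x) := rfl

theorem MM_coord (e : Module.Basis (Fin 7) F V) (f : V →ₗ[F] V →ₗ[F] V →ₗ[F] F) (x : V)
    (i j : Fin 7) : MM (coord e f) (e.repr x) i j = f x (e i) (e j) := by
  have : f x = ∑ l, e.repr x l • f (e l) := by
    conv_lhs => rw [← e.sum_repr x]
    simp only [map_sum, map_smul]
  rw [this]
  simp [MM, coord, LinearMap.sum_apply]

theorem det_cons (e : Module.Basis (Fin 7) F V) (x : V) (k : Fin 7) :
    e.det (Matrix.vecCons x (e ∘ k.succAbove)) = (-1) ^ (k : ℕ) * e.repr x k := by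
  have h1 : e.det (Matrix.vecCons x (e ∘ k.succAbove)) =
      (e.det.curryLeft x) (e ∘ k.succAbove) := (AlternatingMap.curryLeft_apply_apply _ _ _).symm
  let L : V →ₗ[F] F :=
    { toFun := fun y => e.det.curryLeft y (e ∘ k.succAbove)
      map_add' := fun a b => by rw [map_add, AlternatingMap.add_apply]
      map_smul' := fun a b => by rw [map_smul, AlternatingMap.smul_apply, RingHom.id_apply] }
  have h0 : e.det.curryLeft x (e ∘ k.succAbove) =
      ∑ l, e.repr x l * e.det.curryLeft (e l) (e ∘ k.succAbove) := by
    change L x = ∑ l, e.repr x l * L (e l)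
    conv_lhs => rw [← e.sum_repr x]
    simp only [map_sum, map_smul, smul_eq_mul]
  rw [h1, h0, Finset.sum_eq_single k]
  · have h2 : (e.det.curryLeft (e k)) (e ∘ k.succAbove) = e.det (e ∘ (k.cycleRange.symm)) := by
      rw [AlternatingMap.curryLeft_apply_apply]
      congr 1
      funext i
      refine Fin.cases ?_ (fun j => ?_) i
      · simp
      · simp
    rw [h2, AlternatingMap.map_perm, e.det_self]
    simp [mul_comm, Units.smul_def]
  · intro i _ hik
    obtain ⟨j, rfl⟩ := Fin.exists_succAbove_eq hik
    have : (e.det.curryLeft (e (k.succAbove j))) (e ∘ k.succAbove) = 0 := by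
      rw [AlternatingMap.curryLeft_apply_apply]
      refine e.det.map_eq_zero_of_eq (i := 0) (j := j.succ) _ ?_ (Fin.succ_ne_zero j).symm
      simp
    rw [this, mul_zero]
  · intro h; exact absurd (Finset.mem_univ k) h

theorem exists_perm {v : Fin 6 → Fin 7} (hv : Function.Injective v) :
    ∃ (k : Fin 7) (s : Perm (Fin 6)), v = k.succAbove ∘ s := by
  have hns : ¬ Function.Surjective v := by
    intro hs
    have := Fintype.card_le_of_surjective v hs
    simp at this
  simp only [Function.Surjective, not_forall, not_exists] at hns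
  obtain ⟨k, hk⟩ := hns
  choose g hg using fun i => Fin.exists_succAbove_eq (hk i)
  have hinj : Function.Injective g := by
    intro a b hab
    apply hv
    rw [← hg a, ← hg b, hab]
  refine ⟨k, Equiv.ofBijective g (Finite.injective_iff_bijective.1 hinj), ?_⟩
  funext i
  simp [hg]

/-- **the fundamental identity** -/
theorem pf6_eq (e : Module.Basis (Fin 7) F V) {f : V →ₗ[F] V →ₗ[F] V →ₗ[F] F}
    (h : IsAltForm f) (x : V) (c : Fin 6 → V) :
    pf6 (fun u v => f x u v) (c 0) (c 1) (c 2) (c 3) (c 4) (c 5) =
      Qf e f x * e.det (Matrix.vecCons x c) := by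
  have key : pfAlt (f x) (h.z23 x) = Qf e f x • e.det.curryLeft x := by
    refine Module.Basis.ext_alternating e ?_
    intro v hv
    obtain ⟨k, s, rfl⟩ := exists_perm hv
    have e1 : (fun i => e ((k.succAbove ∘ s) i)) = (e ∘ k.succAbove) ∘ s := rfl
    rw [e1, AlternatingMap.map_perm, AlternatingMap.map_perm]
    congr 1
    rw [AlternatingMap.smul_apply, AlternatingMap.curryLeft_apply_apply, det_cons, pfAlt_apply,
      Qf_apply, smul_eq_mul]
    have := pf6_omit (coord_isAlt e h) (e.repr x) k
    simp only [pf6, pf4, MM_coord] at this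
    simp only [pf6, pf4, Function.comp_apply]
    rw [this]; ring
  have := congrArg (fun g => g c) key
  simpa using this

end Cfsg.Agent.H179.G2
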