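import Cfsg.Agent.H179.G2Rank
import Cfsg.Agent.H179.G2Can
import Cfsg.Agent.LieClassical.OrthFinite

/-!
# Alternating 3-forms invariant under an irreducible perfect group in dimension 7
-/

namespace Cfsg.Agent.H179.G2

open QuadraticMap Module

variable {F V : Type*} [Field F] [AddCommGroup V] [Module F V]

/-- an absolutely irreducible perfect group of linear maps -/
structure PHyp (P : Subgroup (V ≃ₗ[F] V)) : Prop where
  perfect : ⁅P, P⁆ = P
  irr : ∀ W : Submodule F V, (∀ g ∈ P, ∀ w ∈ W, g w ∈ W) → W = ⊥ ∨ W = ⊤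
  schur : ∀ L : V →ₗ[F] V, (∀ g ∈ P, ∀ v, L (g v) = g (L v)) → ∃ c : F, ∀ v, L v = c • v

/-- `f` is invariant under `g` -/
def InvBy (f : V →ₗ[F] V →ₗ[F] V →ₗ[F] F) (g : V ≃ₗ[F] V) : Prop :=
  ∀ x y z, f (g x) (g y) (g z) = f x y z

variable {e : Basis (Fin 7) F V} {f : V →ₗ[F] V →ₗ[F] V →ₗ[F] F}

/-- `Qf` is invariant up to the determinant -/
theorem qf_det (h : IsAltForm f) {g : V ≃ₗ[F] V} (hg : InvBy f g) (x : V) :
    Qf e f (g x) * LinearMap.det (g : V →ₗ[F] V) = Qf e f x := by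
  by_cases hx : x = 0
  · subst hx; simp
  have hli : LinearIndependent F ![x] := by
    rw [linearIndependent_unique_iff]; exact hx
  obtain ⟨w, hw, hwi⟩ := exists_ext e 6 1 rfl _ hli
  have w0 : w 0 = x := by have := hwi 0 (by norm_num) (by norm_num); exact this
  have h1 := pf6_eq e h x (fun i => w i.succ)
  have h2 := pf6_eq e h (g x) (fun i => g (w i.succ))
  have h3 : Matrix.vecCons (g x) (fun i => g (w i.succ)) = (g : V →ₗ[F] V) ∘ w := by
    rw [← w0]
    funext i
    refine Fin.cases rfl (fun j => rfl) i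
  rw [h3, Basis.det_comp] at h2
  rw [← w0, Nice.vecCons_eq, w0] at h1
  simp only [pf6, pf4, hg x _ _] at h1 h2
  rw [h1] at h2
  exact mul_right_cancel₀ hw (by linear_combination -h2)

theorem qf_inv (h : IsAltForm f) {g : V ≃ₗ[F] V} (hg : InvBy f g)
    (hd : LinearMap.det (g : V →ₗ[F] V) = 1) (x : V) : Qf e f (g x) = Qf e f x := by
  have := qf_det (e := e) h hg x
  rwa [hd, mul_one] at this

theorem bb_inv (h : IsAltForm f) {g : V ≃ₗ[F] V} (hg : InvBy f g)
    (hd : LinearMap.det (g : V →ₗ[F] V) = 1) (x y : V) :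
    bb e f (g x) (g y) = bb e f x y := by
  simp only [bb_apply, polar, ← map_add, qf_inv h hg hd]

variable {P : Subgroup (V ≃ₗ[F] V)}

namespace PHyp

theorem det_one (hP : PHyp P) {g : V ≃ₗ[F] V} (hg : g ∈ P) : LinearMap.det (g : V →ₗ[F] V) = 1 := by
  have h1 : P ≤ (LinearEquiv.det (R := F) (M := V)).ker := by
    rw [← hP.perfect, Subgroup.commutator_le]
    intro a _ b _
    rw [MonoidHom.mem_ker, map_commutatorElement]
    exact commutatorElement_eq_one_iff_mul_comm.2 (mul_comm _ _)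
  have h2 := h1 hg
  rw [MonoidHom.mem_ker] at h2
  have h3 := congrArg Units.val h2
  rwa [LinearEquiv.coe_det, Units.val_one] at h3

theorem rad_zero (hP : PHyp P) (_h : IsAltForm f) (hf0 : f ≠ 0) (hinv : ∀ g ∈ P, InvBy f g) (x : V)
    (hx : f x = 0) : x = 0 := by
  have hW : ∀ g ∈ P, ∀ w ∈ LinearMap.ker f, g w ∈ LinearMap.ker f := by
    intro g hg w hw
    rw [LinearMap.mem_ker] at hw ⊢
    ext y z
    have := hinv g hg w (g.symm y) (g.symm z)
    rw [g.apply_symm_apply, g.apply_symm_apply, hw] at this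
    exact this
  rcases hP.irr _ hW with h1 | h1
  · have : x ∈ LinearMap.ker f := hx
    rw [h1] at this
    exact (Submodule.mem_bot F).1 this
  · exact absurd (LinearMap.ker_eq_top.1 h1) hf0

theorem nice [Finite F] (hP : PHyp P) (h2 : (2 : F) ≠ 0) (h : IsAltForm f) (hf0 : f ≠ 0)
    (hinv : ∀ g ∈ P, InvBy f g) : Nice e f := by
  refine ⟨h, h2, ?_⟩
  obtain ⟨x0, hx0⟩ := qf_ne (e := e) h h2 (hP.rad_zero h hf0 hinv)
  have hW : ∀ g ∈ P, ∀ w ∈ LinearMap.ker (bb e f), g w ∈ LinearMap.ker (bb e f) := by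
    intro g hg w hw
    rw [LinearMap.mem_ker] at hw ⊢
    ext y
    have := bb_inv (e := e) h (hinv g hg) (hP.det_one hg) w (g.symm y)
    rw [g.apply_symm_apply, hw] at this
    exact this
  rcases hP.irr _ hW with h1 | h1
  · intro x hx
    have : x ∈ LinearMap.ker (bb e f) := by
      rw [LinearMap.mem_ker]; ext y; exact hx y
    rw [h1] at this
    exact (Submodule.mem_bot F).1 this
  · exfalso
    have h3 : bb e f = 0 := LinearMap.ker_eq_top.1 h1
    have h4 := bb_self (e := e) (f := f) x0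
    rw [h3] at h4
    exact mul_ne_zero h2 hx0 h4.symm

theorem null [Finite F] (e : Basis (Fin 7) F V) (f : V →ₗ[F] V →ₗ[F] V →ₗ[F] F) :
    ∃ u, u ≠ 0 ∧ Qf e f u = 0 := by
  obtain ⟨w, hw0, hw, -⟩ := LieClassical.OrthFinite.exists_sing_perp (Q := Qf e f) (n := 0) ![]
    (by rw [Nice.finrank_eq e]; norm_num)
  exact ⟨w, hw0, hw⟩

/-- an invariant symmetric form is a multiple of `bb e f` -/
theorem form_eq (hP : PHyp P) (N : Nice e f) (hinv : ∀ g ∈ P, InvBy f g)
    (b : V →ₗ[F] V →ₗ[F] F) (hb : ∀ g ∈ P, ∀ x y, b (g x) (g y) = b x y) :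
    ∃ c : F, ∀ x y, b x y = c * bb e f x y := by
  have : FiniteDimensional F V := e.finiteDimensional_of_finite
  let L : V →ₗ[F] V := (LinearMap.BilinForm.toDual (bb e f) N.nondeg).symm.toLinearMap ∘ₗ b
  have hL : ∀ x y, bb e f (L x) y = b x y := fun x y =>
    LinearMap.BilinForm.apply_toDual_symm_apply (B := bb e f) (hB := N.nondeg) (b x) y
  obtain ⟨c, hc⟩ := hP.schur L (by
    intro g hg v
    apply N.ext
    intro z
    have h1 := bb_inv (e := e) N.alt (hinv g hg) (hP.det_one hg) (L v) (g.symm z)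
    have h2 := hb g hg v (g.symm z)
    rw [g.apply_symm_apply] at h1 h2
    rw [hL, h1, hL, h2])
  exact ⟨c, fun x y => by rw [← hL, hc, map_smul]; rfl⟩

end PHyp

/-- the cross product of `g` with respect to the form of `f` -/
noncomputable def Nice.T (N : Nice e f) (g : V →ₗ[F] V →ₗ[F] V →ₗ[F] F) : V →ₗ[F] V →ₗ[F] V :=
  haveI : FiniteDimensional F V := e.finiteDimensional_of_finite
  g.compr₂ (LinearMap.BilinForm.toDual (bb e f) N.nondeg).symm.toLinearMap

theorem Nice.bb_T (N : Nice e f) (g : V →ₗ[F] V →ₗ[F] V →ₗ[F] F) (x y z : V) :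
    bb e f (N.T g x y) z = g x y z := by
  have : FiniteDimensional F V := e.finiteDimensional_of_finite
  exact LinearMap.BilinForm.apply_toDual_symm_apply (B := bb e f) (hB := N.nondeg) (g x y) z

/-- the right-hand side of the composition identity -/
noncomputable def RR (e : Basis (Fin 7) F V) (f : V →ₗ[F] V →ₗ[F] V →ₗ[F] F) (u v y : V) : V :=
  bb e f u y • v + bb e f v y • u - (2 * bb e f u v) • y

/-- the composition identity for every invariant form, relative to one of them -/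
theorem PHyp.comp [Finite F] (hP : PHyp P) (N : Nice e f) (hinv : ∀ g ∈ P, InvBy f g)
    {h : V →ₗ[F] V →ₗ[F] V →ₗ[F] F} (hh : IsAltForm h) (hh0 : h ≠ 0)
    (hhinv : ∀ g ∈ P, InvBy h g) :
    ∃ k : F, k ≠ 0 ∧ ∀ u v y, N.T h u (N.T h v y) + N.T h v (N.T h u y) = k • RR e f u v y := by
  have Nh : Nice e h := hP.nice N.two hh hh0 hhinv
  obtain ⟨k, hk, hid⟩ := Nh.exists_comp (PHyp.null e h)
  obtain ⟨c, hc⟩ := hP.form_eq N hinv (bb e h) (fun g hg x y => bb_inv hh (hhinv g hg) (hP.det_one hg) x y)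
  have hc0 : c ≠ 0 := by
    rintro rfl
    have h1 := Nh.nd (e 0) (fun y => by
      have := hc (e 0) y
      rw [zero_mul] at this
      exact this)
    exact e.ne_zero 0 h1
  have hT : ∀ x y, N.T h x y = c • Nh.cr x y := by
    intro x y
    apply N.ext
    intro z
    rw [N.bb_T, map_smul, LinearMap.smul_apply, smul_eq_mul, ← hc, Nh.bb_cr]
  refine ⟨c ^ 3 * k, mul_ne_zero (pow_ne_zero 3 hc0) hk, fun u v y => ?_⟩
  have h1 := hid u v y
  simp only [hc] at h1
  simp only [hT, map_smul, RR]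
  linear_combination (norm := module) (c ^ 2) • h1

end Cfsg.Agent.H179.G2
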