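import Cfsg.Agent.H179.G2Stab
import Cfsg.Agent.H856.G2Model
import Cfsg.Agent.H856.Sv3
import Cfsg.Agent.H638.G2Iso
import Cfsg.Agent.S1052
import Cfsg.Agent.S1055

/-!
# Maximal subgroups of `Ω₇(q)` preserving an alternating 3-form are `G₂(q)`
-/

namespace Cfsg.Agent.H179.G2

open QuadraticMap Module LieClassical.OrthFinite LieClassical.OrthCore LieClassical.OrthTrans
open H856.Sv

theorem ne_zero_one {F : Type*} [Field F] (h2 : (2 : F) ≠ 0) : ∃ a : F, a ≠ 0 ∧ a ≠ 1 := by
  refine ⟨2, h2, ?_⟩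
  intro h
  have h1 : (1 : F) + 1 = 1 := by rw [one_add_one_eq_two]; exact h
  exact one_ne_zero (add_eq_left.1 h1)

theorem g2_simple {F : Type*} [Field F] [Finite F] (h2 : (2 : F) ≠ 0) :
    IsSimpleGroup ↥(Cfsg.Lie.G2 F) := by
  obtain ⟨e2⟩ := Cfsg.Agent.H638.G2Iso.equiv (F := F)
  have : IsSimpleGroup ↥(Lie.chevG2.group F) := (Cfsg.Agent.S1055.result (ne_zero_one h2)).1
  exact e2.isSimpleGroup

theorem g2_perfect {F : Type*} [Field F] [Finite F] (h2 : (2 : F) ≠ 0) :
    commutator ↥(Cfsg.Lie.G2 F) = ⊤ := by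
  obtain ⟨e2⟩ := Cfsg.Agent.H638.G2Iso.equiv (F := F)
  have hp0 : commutator ↥(Lie.chevG2.group F) = ⊤ :=
    Cfsg.Agent.S1052.result Lie.chevG2 (by simp) (fun _ => ne_zero_one h2)
  have h1 : (commutator ↥(Lie.chevG2.group F)).map e2.symm.toMonoidHom =
      commutator ↥(Cfsg.Lie.G2 F) := by
    rw [commutator_def, Subgroup.map_commutator, commutator_def, ← MonoidHom.range_eq_map,
      MonoidHom.range_eq_top.2 e2.symm.surjective]
  rw [← h1, hp0, ← MonoidHom.range_eq_map, MonoidHom.range_eq_top.2 e2.symm.surjective]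

variable {F V : Type*} [Field F] [AddCommGroup V] [Module F V]

/-- a subgroup isomorphic to a perfect group is perfect -/
theorem perfect_of_equiv {G K : Type*} [Group G] [Group K] {M : Subgroup G} (i : M ≃* K)
    (h : commutator K = ⊤) : ⁅M, M⁆ = M := by
  have h1 : commutator M = ⊤ := by
    have : (commutator K).map i.symm.toMonoidHom = commutator M := by
      rw [commutator_def, Subgroup.map_commutator, commutator_def, ← MonoidHom.range_eq_map,
        MonoidHom.range_eq_top.2 i.symm.surjective]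
    rw [← this, h, ← MonoidHom.range_eq_map, MonoidHom.range_eq_top.2 i.symm.surjective]
  have h2 := congrArg (Subgroup.map M.subtype) h1
  rw [commutator_def, Subgroup.map_commutator, ← MonoidHom.range_eq_map, Subgroup.range_subtype] at h2
  exact h2

/-- the linear automorphisms preserving `f` -/
def Iv (f : V →ₗ[F] V →ₗ[F] V →ₗ[F] F) : Subgroup (V ≃ₗ[F] V) where
  carrier := {g | InvBy f g}
  mul_mem' {a b} ha hb := by
    intro x y z
    change f (a (b x)) (a (b y)) (a (b z)) = _
    rw [ha, hb]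
  one_mem' := fun x y z => rfl
  inv_mem' {a} ha := by
    intro x y z
    have := ha (a⁻¹ x) (a⁻¹ y) (a⁻¹ z)
    rw [show a (a⁻¹ x) = x from a.apply_symm_apply x, show a (a⁻¹ y) = y from a.apply_symm_apply y,
      show a (a⁻¹ z) = z from a.apply_symm_apply z] at this
    exact this.symm

/-- **THEOREM A**: a maximal subgroup of `Ω₇(F)` whose socle preserves a nonzero alternating
3-form has socle `G₂(F)` -/
theorem thmA [Finite F] {Q : QuadraticForm F V} {H P : Subgroup (V ≃ₗ[F] V)} (hM : Max7 Q H P)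
    (f : V →ₗ[F] V →ₗ[F] V →ₗ[F] F) (hf : IsAltForm f) (hf0 : f ≠ 0)
    (hinv : ∀ g ∈ P, ∀ x y z, f (g x) (g y) (g z) = f x y z) :
    Nonempty (P ≃* Cfsg.Lie.G2 F) := by
  have h2 := hM.two_ne
  have hfd := hM.finiteDim
  let e : Basis (Fin 7) F V := Module.finBasisOfFinrankEq F V hM.finrank_eq
  have hP : PHyp P := ⟨hM.perfect, hM.irr, hM.schur⟩
  have N : Nice e f := hP.nice h2 hf hf0 hinv
  obtain ⟨k, n, C⟩ := N.exists_Comp (PHyp.null e f)
  obtain ⟨B, l, hl, hB⟩ := C.normal_form
  obtain ⟨i1⟩ := Mf_equiv f B hl hB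
  obtain ⟨i2⟩ := Cfsg.Agent.H856.G2M.m0_iso (F := F) h2
  have i := i1.trans i2
  have hMp : ⁅Mf f, Mf f⁆ = Mf f := perfect_of_equiv i (g2_perfect h2)
  -- the form `Q` is proportional to `Qf e f`
  have hPO : P ≤ O Q := hM.PH.trans hM.H_le_O
  obtain ⟨c, hc⟩ := hP.form_eq N hinv (polarBilin Q) (fun g hg x y => by
    change polar Q (g x) (g y) = polar Q x y
    exact hM.pol (hM.PH hg) x y)
  have hcp : ∀ x y, polar Q x y = c * bb e f x y := hc
  have hc0 : c ≠ 0 := by
    rintro rfl
    exact e.ne_zero 0 (hM.nondeg (e 0) fun y => by rw [hcp, zero_mul])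
  have hQc : ∀ x, Q x = c * Qf e f x := by
    intro x
    have h1 := hcp x x
    rw [QuadraticMap.polar_self, bb_self, two_smul] at h1
    exact mul_left_cancel₀ h2 (by linear_combination h1)
  -- `Mf f ≤ E Q`
  have hMO : Mf f ≤ O Q := by
    intro g hg
    rw [mem_O]
    intro x
    rw [hQc, hQc, qf_inv hf hg.2 hg.1]
  have hME : Mf f ≤ E Q := by
    rw [← hMp, ← hM.comm_eq]
    exact Subgroup.commutator_mono hMO hMO
  -- the stabiliser of the line spanned by `f`
  let S : Subgroup (V ≃ₗ[F] V) :=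
    { carrier := {g | g ∈ E Q ∧ ∃ t : F, t ≠ 0 ∧ ∀ x y z, f (g x) (g y) (g z) = t * f x y z}
      mul_mem' := by
        rintro a b ⟨ha, s, hs, hsa⟩ ⟨hb, t, ht, htb⟩
        refine ⟨(E Q).mul_mem ha hb, s * t, mul_ne_zero hs ht, fun x y z => ?_⟩
        change f (a (b x)) (a (b y)) (a (b z)) = _
        rw [hsa, htb, mul_assoc]
      one_mem' := ⟨(E Q).one_mem, 1, one_ne_zero, fun x y z => (one_mul _).symm⟩
      inv_mem' := by
        rintro a ⟨ha, s, hs, hsa⟩
        refine ⟨(E Q).inv_mem ha, s⁻¹, inv_ne_zero hs, fun x y z => ?_⟩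
        have := hsa (a⁻¹ x) (a⁻¹ y) (a⁻¹ z)
        rw [show a (a⁻¹ x) = x from a.apply_symm_apply x, show a (a⁻¹ y) = y from a.apply_symm_apply y,
          show a (a⁻¹ z) = z from a.apply_symm_apply z] at this
        rw [this, ← mul_assoc, inv_mul_cancel₀ hs, one_mul] }
  have hHS : H ≤ S := by
    intro h hh
    refine ⟨hM.le hh, ?_⟩
    -- the transformed form
    let fh : V →ₗ[F] V →ₗ[F] V →ₗ[F] F :=
      ((f.compl₁₂ (h : V →ₗ[F] V) (h : V →ₗ[F] V)).compr₂ ((h : V →ₗ[F] V).lcomp F F))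
    have hfh : ∀ x y z, fh x y z = f (h x) (h y) (h z) := fun x y z => rfl
    have hfhA : IsAltForm fh := ⟨fun x y => by rw [hfh, hf.self], fun x y => by rw [hfh, hf.z23]⟩
    obtain ⟨t, ht⟩ := hP.uniq h2 e hf hf0 hinv hfhA (by
      intro g hg x y z
      rw [hfh, hfh]
      have h3 := hM.normal h hh g hg
      have h4 : ∀ v, h (g v) = (h * g * h⁻¹) (h v) := by
        intro v
        change h (g v) = h (g (h.symm (h v)))
        rw [LinearEquiv.symm_apply_apply]
      rw [h4, h4, h4, hinv _ h3])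
    refine ⟨t, ?_, fun x y z => ?_⟩
    · rintro rfl
      apply hf0
      ext x y z
      have := congrArg (fun w : V →ₗ[F] V →ₗ[F] V →ₗ[F] F => w (h.symm x) (h.symm y) (h.symm z)) ht
      simp only [hfh, LinearEquiv.apply_symm_apply, zero_smul, LinearMap.zero_apply] at this
      rw [this]; rfl
    · rw [← hfh, ht]; rfl
  have hSE : S ≤ E Q := fun g hg => hg.1
  have hMS : Mf f ≤ S := fun g hg => ⟨hME hg, 1, one_ne_zero, fun x y z => by
    rw [one_mul]; exact hg.2 x y z⟩
  have hMH : Mf f ≤ H := by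
    rcases hM.max S hHS hSE with h | h
    · rw [← h]; exact hMS
    · exfalso
      -- `E Q` preserves `f`
      have hEperf : ⁅E Q, E Q⁆ = E Q := hM.good.E_perfect
      have hEI : ∀ g ∈ E Q, InvBy f g := by
        let I : Subgroup (V ≃ₗ[F] V) := E Q ⊓ Iv f
        have h3 : ⁅E Q, E Q⁆ ≤ I := by
          rw [Subgroup.commutator_le]
          intro a ha b hb
          refine ⟨Subgroup.commutator_le.1 (le_of_eq hEperf) a ha b hb, ?_⟩
          rw [← h] at ha hb
          obtain ⟨-, s, hs, hsa⟩ := ha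
          obtain ⟨-, t, ht, htb⟩ := hb
          change InvBy f (a * b * a⁻¹ * b⁻¹)
          intro x y z
          have e1 : ∀ v, (a * b * a⁻¹ * b⁻¹) v = a (b (a.symm (b.symm v))) := fun v => rfl
          rw [e1, e1, e1, hsa, htb]
          have h5 := hsa (a.symm (b.symm x)) (a.symm (b.symm y)) (a.symm (b.symm z))
          have h6 := htb (b.symm x) (b.symm y) (b.symm z)
          simp only [LinearEquiv.apply_symm_apply] at h5 h6
          rw [h6, h5]; ring
        rw [hEperf] at h3
        exact fun g hg => (h3 hg).2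
      exact C.not_inv hc0 hcp hEI
  have hPM : P ≤ Mf f := fun g hg => ⟨hP.det_one hg, hinv g hg⟩
  -- `P` is normal in the simple group `Mf f`
  have hs2 := g2_simple (F := F) h2
  have : IsSimpleGroup (Mf f) := i.isSimpleGroup
  have hnorm : (P.subgroupOf (Mf f)).Normal := by
    constructor
    intro x hx g
    exact hM.normal g (hMH g.2) x hx
  rcases hnorm.eq_bot_or_eq_top with h | h
  · exfalso
    rw [Subgroup.subgroupOf_eq_bot, disjoint_iff, inf_eq_left.2 hPM] at h
    have := hM.simple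
    rw [h] at this
    exact (not_subsingleton_iff_nontrivial.2 this.toNontrivial) inferInstance
  · rw [Subgroup.subgroupOf_eq_top] at h
    have : P = Mf f := le_antisymm hPM h
    rw [this]
    exact ⟨i⟩

end Cfsg.Agent.H179.G2
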