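import Cfsg.Agent.H179.G2Inv
import Cfsg.Agent.LieClassical.OrthFinite

/-!
# Siegel elements preserving an alternating 3-form in dimension 7
-/

set_option autoImplicit false

namespace Cfsg.Agent.H179.G2

open QuadraticMap Module Cfsg.Agent.LieClassical.OrthCore

variable {F V : Type*} [Field F] [AddCommGroup V] [Module F V]

/-- **no_siegel**: a Siegel element `siegel v w` of `O_7(q)` which belongs to an absolutely irreducible
perfect group preserving an alternating 3-form has `Q w = 0`. -/
theorem no_siegel [Finite F] {Q : QuadraticForm F V} {P : Subgroup (V ≃ₗ[F] V)} (h2 : (2 : F) ≠ 0)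
    (h7 : finrank F V = 7) (hQ : Nondeg Q) (hP : PHyp P) (hPO : P ≤ O Q)
    {f : V →ₗ[F] V →ₗ[F] V →ₗ[F] F} (hf : IsAltForm f) (hf0 : f ≠ 0)
    (hinv : ∀ g ∈ P, ∀ x y z, f (g x) (g y) (g z) = f x y z) {v w : V} (hv0 : v ≠ 0) (hv : Q v = 0)
    (hw : polar Q v w = 0) (hs : siegel Q v w hv hw ∈ P) : Q w = 0 := by
  have hfd : FiniteDimensional F V := FiniteDimensional.of_finrank_pos (by rw [h7]; norm_num)
  let e : Basis (Fin 7) F V := Module.finBasisOfFinrankEq F V h7
  have N : Nice e f := hP.nice h2 hf hf0 hinv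
  obtain ⟨c, hc⟩ := hP.form_eq N hinv (polarBilin Q) (fun g hg x y => polar_map (hPO hg) x y)
  have hcp : ∀ x y, polar Q x y = c * bb e f x y := hc
  have hc0 : c ≠ 0 := by
    rintro rfl
    exact hv0 (hQ v fun y => by rw [hcp, zero_mul])
  have hQc : ∀ x, Q x = c * Qf e f x := by
    intro x
    have h1 := hcp x x
    rw [QuadraticMap.polar_self, bb_self, two_smul] at h1
    exact mul_left_cancel₀ h2 (by linear_combination h1)
  by_contra hQw
  have hvf : Qf e f v = 0 := by
    have := hQc v
    rw [hv] at this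
    exact (mul_eq_zero.1 this.symm).resolve_left hc0
  have hwf : Qf e f w ≠ 0 := by
    intro h
    apply hQw
    rw [hQc, h, mul_zero]
  obtain ⟨k, hk0, hk⟩ := N.null_cross hv0 hvf
  set g := siegel Q v w hv hw with hg
  have hga : ∀ x, g x = x + polar Q v x • w - polar Q w x • v - (Q w * polar Q v x) • v := fun x =>
    siegel_apply hv hw x
  have hcr : ∀ x y, N.cr (g x) (g y) = g (N.cr x y) := by
    intro x y
    apply N.ext
    intro z
    obtain ⟨z, rfl⟩ := g.surjective z
    have h3 := polar_map (hPO hs) (N.cr x y) z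
    rw [hcp, hcp] at h3
    rw [N.bb_cr, hinv g hs, mul_left_cancel₀ hc0 h3, N.bb_cr]
  -- the five-dimensional space
  have key : ∀ y, bb e f v y = 0 → bb e f w y = 0 → f v y = 0 := by
    intro y hvy hwy
    have hy : g y = y := by
      rw [hga, hcp, hcp, hvy, hwy]
      simp
    have hgw : g w = w - (2 * Q w) • v := by
      rw [hga, hw, polar_self']
      simp
    have h4 := hcr w y
    rw [hy, hgw, hga, map_sub, LinearMap.sub_apply, map_smul, LinearMap.smul_apply] at h4
    have h5 : polar Q w (N.cr w y) = 0 := by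
      rw [hcp, N.bb_cr_right, N.alt.z13, mul_zero]
    set t := polar Q v (N.cr w y) with ht
    rw [h5, zero_smul, sub_zero] at h4
    have h6 : (2 * Q w) • N.cr v y = (Q w * t) • v - t • w := by
      linear_combination (norm := module) (-1 : F) • h4
    have h7 := congrArg (N.cr v) h6
    rw [map_smul, hk, hvy, mul_zero, zero_smul, smul_zero, map_sub, map_smul, map_smul, N.cr_self, smul_zero,
      zero_sub] at h7
    have h8 : t • N.cr v w = 0 := neg_eq_zero.1 h7.symm
    rcases smul_eq_zero.1 h8 with h9 | h9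
    · rw [h9, mul_zero, zero_smul, zero_smul, sub_zero] at h6
      exact N.cr_eq_zero.1 ((smul_eq_zero.1 h6).resolve_left (mul_ne_zero h2 hQw))
    · exact absurd (N.null_of_ker hv0 hvf (N.cr_eq_zero.1 h9)) hwf
  let L : V →ₗ[F] F × F := (bb e f v).prod (bb e f w)
  have hle : LinearMap.ker L ≤ LinearMap.ker (f v) := by
    intro y hy
    have hy' : (bb e f v y, bb e f w y) = (0, 0) := hy
    exact key y (congrArg Prod.fst hy') (congrArg Prod.snd hy')
  have h9 := Submodule.finrank_mono hle
  have h10 := LinearMap.finrank_range_add_finrank_ker L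
  have h11 : finrank F (LinearMap.range L) ≤ 2 := by
    have := Submodule.finrank_le (LinearMap.range L)
    rwa [Module.finrank_prod, Module.finrank_self] at this
  have h12 := N.ker_le hv0 hvf
  omega

end Cfsg.Agent.H179.G2
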