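import Cfsg.Agent.H179.G2Oct

/-!
# The eigenspaces of the multiplication by a vector of suitable norm
-/

namespace Cfsg.Agent.H179.G2

open QuadraticMap Module

variable {F V : Type*} [Field F] [AddCommGroup V] [Module F V]
variable {e : Basis (Fin 7) F V} {f : V →ₗ[F] V →ₗ[F] V →ₗ[F] F}

theorem exists_li (U : Submodule F V) [FiniteDimensional F U] {m : ℕ} (h : finrank F U = m) :
    ∃ E : Fin m → V, LinearIndependent F E ∧ ∀ i, E i ∈ U := by
  let b : Basis (Fin m) F U := Module.finBasisOfFinrankEq F U h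
  exact ⟨fun i => U.subtype (b i), b.linearIndependent.map' _ U.ker_subtype, fun i => (b i).2⟩

/-- a vector with prescribed products with linearly independent vectors -/
theorem Nice.exists_pre (N : Nice e f) {m : ℕ} (x : Fin m → V) (hx : LinearIndependent F x)
    (c : Fin m → F) : ∃ v : V, ∀ i, bb e f (x i) v = c i := by
  have : FiniteDimensional F V := e.finiteDimensional_of_finite
  let T : V →ₗ[F] (Fin m → F) := LinearMap.pi fun i => bb e f (x i)
  have hker : LinearMap.ker T =
      LinearMap.BilinForm.orthogonal (bb e f) (Submodule.span F (Set.range x)) := by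
    ext v
    constructor
    · intro hv y hy
      change bb e f y v = 0
      induction hy using Submodule.span_induction with
      | mem y hy => obtain ⟨i, rfl⟩ := hy; exact congrFun hv i
      | zero => simp
      | add y z _ _ h1 h2 => rw [map_add, LinearMap.add_apply, h1, h2, add_zero]
      | smul a y _ h1 => rw [map_smul, LinearMap.smul_apply, h1, smul_zero]
    · intro hv
      rw [LinearMap.mem_ker]
      funext i
      exact hv (x i) (Submodule.subset_span ⟨i, rfl⟩)
  have h1 := LinearMap.finrank_range_add_finrank_ker T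
  have h2 := Submodule.finrank_le (Submodule.span F (Set.range x))
  rw [hker, LinearMap.BilinForm.finrank_orthogonal N.nondeg] at h1
  rw [finrank_span_eq_card hx, Fintype.card_fin] at h1 h2
  have hT : LinearMap.range T = ⊤ := by
    apply Submodule.eq_top_of_finrank_eq
    rw [Module.finrank_fin_fun]
    omega
  obtain ⟨v, hv⟩ := LinearMap.range_eq_top.1 hT c
  exact ⟨v, fun i => congrFun hv i⟩

/-- the composition identity together with a vector `n` with `k * b(n, n) = -1` -/
structure Comp (N : Nice e f) (k : F) (n : V) : Prop where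
  k0 : k ≠ 0
  id : ∀ u v y, N.cr u (N.cr v y) + N.cr v (N.cr u y) =
      k • (bb e f u y • v + bb e f v y • u - (2 * bb e f u v) • y)
  hn : k * bb e f n n = -1

theorem Nice.exists_Comp (N : Nice e f) (h : ∃ u, u ≠ 0 ∧ Qf e f u = 0) :
    ∃ k n, Comp N k n := by
  obtain ⟨k, hk, hid⟩ := N.exists_comp h
  obtain ⟨u, hu0, hu⟩ := h
  obtain ⟨v, hv⟩ := N.exists_bb_one hu0
  refine ⟨k, v + (-(1 / (2 * k)) - Qf e f v) • u, hk, hid, ?_⟩
  have h2 := N.two
  simp only [map_add, LinearMap.add_apply, map_smul, LinearMap.smul_apply, smul_eq_mul, bb_self,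
    hu, bb_comm v u, hv]
  field_simp
  ring

namespace Comp

variable {N : Nice e f} {k : F} {n : V} (C : Comp N k n)

include C

theorem nn : bb e f n n ≠ 0 := by
  intro h; have := C.hn; rw [h, mul_zero] at this
  exact one_ne_zero (α := F) (by linear_combination this)

theorem sq (y : V) : N.cr n (N.cr n y) = y + (k * bb e f n y) • n := by
  have h := C.id n n y
  have h1 : (2 : F) • (N.cr n (N.cr n y)) = (2 : F) • (y + (k * bb e f n y) • n) := by
    have e1 : (2 : F) • (N.cr n (N.cr n y)) = N.cr n (N.cr n y) + N.cr n (N.cr n y) := by module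
    rw [e1, h]
    have e2 : k • (2 * bb e f n n) • y = (-2 : F) • y := by
      rw [smul_smul]; congr 1; linear_combination 2 * C.hn
    rw [smul_sub, e2]; module
  exact smul_right_injective V N.two h1

/-- the eigenspace for `1` -/
noncomputable def Up (_ : Comp N k n) : Submodule F V := LinearMap.ker (N.cr n - LinearMap.id)

/-- the eigenspace for `-1` -/
noncomputable def Um (_ : Comp N k n) : Submodule F V := LinearMap.ker (N.cr n + LinearMap.id)

omit C in
theorem mem_Up (C : Comp N k n) {x : V} : x ∈ C.Up ↔ N.cr n x = x := by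
  rw [Up, LinearMap.mem_ker, LinearMap.sub_apply, LinearMap.id_apply, sub_eq_zero]

omit C in
theorem mem_Um (C : Comp N k n) {x : V} : x ∈ C.Um ↔ N.cr n x = -x := by
  rw [Um, LinearMap.mem_ker, LinearMap.add_apply, LinearMap.id_apply, add_eq_zero_iff_eq_neg]

omit C in
theorem bb_n_cr (N : Nice e f) (n x : V) : bb e f n (N.cr n x) = 0 := by
  rw [N.bb_cr_right, N.alt.z13]

theorem n_Up {x : V} (hx : x ∈ C.Up) : bb e f n x = 0 := by
  rw [← C.mem_Up.1 hx, bb_n_cr]

theorem n_Um {x : V} (hx : x ∈ C.Um) : bb e f n x = 0 := by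
  have := bb_n_cr N n x
  rw [C.mem_Um.1 hx, map_neg, neg_eq_zero] at this
  exact this

theorem Up_Up {x y : V} (hx : x ∈ C.Up) (hy : y ∈ C.Up) : bb e f x y = 0 := by
  have h := N.bb_cr_skew n x (N.cr n y)
  rw [C.sq, C.n_Up hy, mul_zero, zero_smul, add_zero, C.mem_Up.1 hx, C.mem_Up.1 hy] at h
  have : 2 * bb e f x y = 0 := by linear_combination h
  exact (mul_eq_zero.1 this).resolve_left N.two

theorem Um_Um {x y : V} (hx : x ∈ C.Um) (hy : y ∈ C.Um) : bb e f x y = 0 := by
  have h := N.bb_cr_skew n x (N.cr n y)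
  rw [C.sq, C.n_Um hy, mul_zero, zero_smul, add_zero, C.mem_Um.1 hx, C.mem_Um.1 hy] at h
  simp only [map_neg, LinearMap.neg_apply, neg_neg] at h
  have : 2 * bb e f x y = 0 := by linear_combination h
  exact (mul_eq_zero.1 this).resolve_left N.two

/-- every vector is a sum of three components -/
theorem decomp (y : V) : ∃ a ∈ C.Up, ∃ b ∈ C.Um, ∃ c : F, y = a + b + c • n := by
  set z := y + (k * bb e f n y) • n with hz
  have hzn : bb e f n z = 0 := by
    rw [hz, map_add, map_smul, smul_eq_mul]; linear_combination bb e f n y * C.hn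
  have hsq : N.cr n (N.cr n z) = z := by rw [C.sq, hzn]; simp
  refine ⟨(2 : F)⁻¹ • (z + N.cr n z), ?_, (2 : F)⁻¹ • (z - N.cr n z), ?_, -(k * bb e f n y), ?_⟩
  · rw [C.mem_Up, map_smul, map_add, hsq, add_comm]
  · rw [C.mem_Um, map_smul, map_sub, hsq]; module
  · have h2 := N.two
    have : (2 : F)⁻¹ • (z + N.cr n z) + (2 : F)⁻¹ • (z - N.cr n z) = z := by
      have e1 : (2 : F)⁻¹ • (z + N.cr n z) + (2 : F)⁻¹ • (z - N.cr n z) =
        ((2 : F)⁻¹ * 2) • z := by module
      rw [e1, inv_mul_cancel₀ h2, one_smul]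
    rw [this, hz]; module

omit C in
theorem finrank_sing (N : Nice e f) (U : Submodule F V) (h : ∀ x ∈ U, ∀ y ∈ U, bb e f x y = 0) :
    finrank F U ≤ 3 := by
  have : FiniteDimensional F V := e.finiteDimensional_of_finite
  have h1 : U ≤ LinearMap.BilinForm.orthogonal (bb e f) U := fun x hx y hy => h y hy x hx
  have h2 := Submodule.finrank_mono h1
  rw [LinearMap.BilinForm.finrank_orthogonal N.nondeg, Nice.finrank_eq e] at h2
  omega

theorem finrank_Up : finrank F C.Up = 3 := by
  have : FiniteDimensional F V := e.finiteDimensional_of_finite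
  have h1 := finrank_sing N C.Up fun x hx y hy => C.Up_Up hx hy
  have h2 := finrank_sing N C.Um fun x hx y hy => C.Um_Um hx hy
  have h3 : C.Up ⊔ C.Um ⊔ F ∙ n = ⊤ := by
    rw [eq_top_iff]
    intro y _
    obtain ⟨a, ha, b, hb, c, rfl⟩ := C.decomp y
    exact Submodule.add_mem_sup (Submodule.add_mem_sup ha hb)
      (Submodule.smul_mem _ _ (Submodule.mem_span_singleton_self n))
  have h4 := Submodule.finrank_add_le_finrank_add_finrank (C.Up ⊔ C.Um) (F ∙ n)
  have h5 := Submodule.finrank_add_le_finrank_add_finrank C.Up C.Um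
  have h6 := finrank_span_le_card (R := F) ({n} : Set V)
  rw [h3, finrank_top, Nice.finrank_eq e] at h4
  simp only [Set.toFinset_singleton, Finset.card_singleton] at h6
  omega

/-- products of vectors from different eigenspaces -/
theorem cr_Up_Um {x y : V} (hx : x ∈ C.Up) (hy : y ∈ C.Um) :
    N.cr x y = (-(k * bb e f x y)) • n := by
  set u := N.cr x y with hu
  have e1 : N.cr n u = u + (k * bb e f x y) • n := by
    have h := C.id n x y
    rw [C.n_Um hy, C.n_Up hx, C.mem_Um.1 hy, map_neg, ← hu] at h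
    linear_combination (norm := module) h
  have e2 : N.cr n u = -u + (-(k * bb e f x y)) • n := by
    have h := C.id n y x
    rw [C.n_Up hx, C.n_Um hy, C.mem_Up.1 hx, N.cr_anti y x, map_neg, ← hu, bb_comm y x] at h
    linear_combination (norm := module) -h
  have e3 : (2 : F) • u = (2 : F) • ((-(k * bb e f x y)) • n) := by
    linear_combination (norm := module) e2 - e1
  exact smul_right_injective V N.two e3

theorem cr_Up_Up {x y : V} (hx : x ∈ C.Up) (hy : y ∈ C.Up) : N.cr x y ∈ C.Um := by
  rw [C.mem_Um]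
  have h := C.id n x y
  rw [C.n_Up hy, C.n_Up hx, C.mem_Up.1 hy, C.Up_Up hx hy] at h
  linear_combination (norm := module) h

theorem cr_Um_Um {x y : V} (hx : x ∈ C.Um) (hy : y ∈ C.Um) : N.cr x y ∈ C.Up := by
  rw [C.mem_Up]
  have h := C.id n x y
  rw [C.n_Um hy, C.n_Um hx, C.mem_Um.1 hy, C.Um_Um hx hy, map_neg] at h
  linear_combination (norm := module) h

theorem cr_cr {w x y : V} (hw : w ∈ C.Um) (hx : x ∈ C.Up) (hy : y ∈ C.Up) :
    N.cr w (N.cr x y) = (2 * k) • (bb e f w y • x - bb e f w x • y) := by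
  have h := C.id w x y
  have h1 : N.cr w y = (k * bb e f w y) • n := by
    rw [N.cr_anti, C.cr_Up_Um hy hw, bb_comm y w]; module
  have h2 : N.cr x n = -x := by rw [N.cr_anti, C.mem_Up.1 hx]
  rw [h1, map_smul, h2, C.Up_Up hx hy] at h
  linear_combination (norm := module) h

/-- a hyperbolic system adapted to the eigenspaces -/
theorem exists_sys : ∃ E G : Fin 3 → V, (∀ i, E i ∈ C.Up) ∧ (∀ i, G i ∈ C.Um) ∧
    ∀ i j, bb e f (E i) (G j) = if i = j then 1 else 0 := by
  have : FiniteDimensional F V := e.finiteDimensional_of_finite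
  obtain ⟨E, hli, hE⟩ := exists_li C.Up C.finrank_Up
  have hpre : ∀ j : Fin 3, ∃ v : V, ∀ i, bb e f (E i) v = (fun i => if i = j then (1 : F) else 0) i :=
    fun j => N.exists_pre E hli _
  choose v hv using hpre
  choose a ha c hc t ht using fun j => C.decomp (v j)
  refine ⟨E, c, hE, hc, fun i j => ?_⟩
  have h1 := hv j i
  rw [ht j, map_add, map_add, map_smul, C.Up_Up (hE i) (ha j), bb_comm _ n, C.n_Up (hE i)] at h1
  simpa using h1

end Comp

end Cfsg.Agent.H179.G2
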