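import Cfsg.Agent.H179.G2H

/-!
# Null vectors of the quadratic form of an alternating 3-form in dimension 7
-/

namespace Cfsg.Agent.H179.G2

open QuadraticMap Module

variable {F V : Type*} [Field F] [AddCommGroup V] [Module F V]

section pol

variable (e : Basis (Fin 7) F V) {f : V →ₗ[F] V →ₗ[F] V →ₗ[F] F}

/-- polarised form of the fundamental identity -/
theorem pf21_eq (h : IsAltForm f) (h2 : (2 : F) ≠ 0) (x z : V) (c : Fin 6 → V) :
    pf21 (fun u v => f x u v) (fun u v => f z u v) (c 0) (c 1) (c 2) (c 3) (c 4) (c 5) =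
      polar (Qf e f) x z * e.det (Matrix.vecCons x c) + Qf e f x * e.det (Matrix.vecCons z c) := by
  have h1 := pf6_eq e h (x + z) c
  have h3 := pf6_eq e h (x + -z) c
  have h4 := pf6_eq e h x c
  have h5 := pf6_eq e h z c
  rw [AlternatingMap.map_vecCons_add, QuadraticMap.map_add (Qf e f)] at h1
  rw [AlternatingMap.map_vecCons_add, QuadraticMap.map_add (Qf e f), QuadraticMap.map_neg,
    QuadraticMap.polar_neg_right, ← neg_one_smul F z, AlternatingMap.map_vecCons_smul] at h3
  simp only [map_add, LinearMap.add_apply, smul_eq_mul, pf6, pf4, neg_mul, one_mul, map_neg, LinearMap.neg_apply, neg_smul, one_smul]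
    at h1 h3 h4 h5
  simp only [pf21, pf4]
  have key : (2 : F) * (pf21 (fun u v => f x u v) (fun u v => f z u v) (c 0) (c 1) (c 2) (c 3) (c 4)
      (c 5)) = 2 * (polar (Qf e f) x z * e.det (Matrix.vecCons x c) +
        Qf e f x * e.det (Matrix.vecCons z c)) := by
    simp only [pf21, pf4]
    linear_combination h1 - h3 - 2 * h5
  have := mul_left_cancel₀ h2 key
  simpa only [pf21, pf4] using this

/-- a linearly independent family extends to seven vectors with nonzero determinant -/
theorem exists_ext (m : ℕ) : ∀ (k : ℕ) (_ : k + m = 7) (v : Fin k → V), LinearIndependent F v →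
    ∃ w : Fin 7 → V, e.det w ≠ 0 ∧ ∀ (i : ℕ) (hi : i < k) (hi7 : i < 7), w ⟨i, hi7⟩ = v ⟨i, hi⟩ := by
  have hfr : finrank F V = 7 := by rw [finrank_eq_card_basis e, Fintype.card_fin]
  induction m with
  | zero =>
    intro k hk v hv
    obtain rfl : k = 7 := hk
    refine ⟨v, ?_, fun i hi _ => rfl⟩
    have hs := hv.span_eq_top_of_card_eq_finrank (by rw [hfr, Fintype.card_fin])
    exact ((Module.Basis.is_basis_iff_det e).1 ⟨hv, hs⟩).ne_zero
  | succ m ih =>
    intro k hk v hv
    obtain ⟨x, hx⟩ := exists_linearIndependent_snoc_of_lt_finrank hv (by omega)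
    obtain ⟨w, hw, hwi⟩ := ih (k + 1) (by omega) _ hx
    refine ⟨w, hw, fun i hi hi7 => ?_⟩
    rw [hwi i (by omega) hi7]
    exact Fin.snoc_castSucc (α := fun _ => V) x v ⟨i, hi⟩

theorem exists_in {K : Submodule F V} [FiniteDimensional F K] {x : V} (hx : x ∈ K) (hx0 : x ≠ 0)
    (m : ℕ) (hm : m + 1 ≤ finrank F K) :
    ∃ v : Fin (m + 1) → V, LinearIndependent F v ∧ v 0 = x ∧ ∀ i, v i ∈ K := by
  have key : ∃ v : Fin (m + 1) → K, LinearIndependent F v ∧ v 0 = ⟨x, hx⟩ := by
    induction m with
    | zero =>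
      refine ⟨fun _ => ⟨x, hx⟩, ?_, rfl⟩
      change LinearIndependent F (fun _ : Fin 1 => (⟨x, hx⟩ : K))
      rw [linearIndependent_unique_iff]
      intro h; exact hx0 (congrArg Subtype.val h)
    | succ m ih =>
      obtain ⟨v, hv, hv0⟩ := ih (by omega)
      obtain ⟨y, hy⟩ := exists_linearIndependent_snoc_of_lt_finrank hv (by omega)
      refine ⟨_, hy, ?_⟩
      rw [← hv0]
      exact Fin.snoc_castSucc (α := fun _ => K) y v 0
  obtain ⟨v, hv, hv0⟩ := key
  exact ⟨fun i => v i, hv.map' K.subtype K.ker_subtype, by simp [hv0], fun i => (v i).2⟩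

end pol

section ker

/-- an alternating form on a 7-space all of whose Pfaffians of size six vanish has a radical of
dimension at least three -/
theorem ker_ge (hfr : finrank F V = 7) (w : V →ₗ[F] V →ₗ[F] F) (h : ∀ u, w u u = 0)
    (hp : ∀ c : Fin 6 → V, pf6 (fun u v => w u v) (c 0) (c 1) (c 2) (c 3) (c 4) (c 5) = 0) :
    3 ≤ finrank F (LinearMap.ker w) := by
  have : FiniteDimensional F V := Module.finite_of_finrank_pos (by omega)
  have hs : ∀ u v, w u v = - w v u := by
    intro u v
    have := h (u + v)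
    simp only [map_add, LinearMap.add_apply, h, zero_add, add_zero] at this
    exact eq_neg_of_add_eq_zero_right this
  -- reduction to the orthogonal complement of a hyperbolic pair
  have hred : ∀ a b : V, w a b ≠ 0 → ∀ v : V, ∃ v' : V, w a v' = 0 ∧ w b v' = 0 ∧
      (∀ u, w u a = 0 → w u b = 0 → w u v' = w u v) := by
    intro a b hab v
    refine ⟨v - (w a v / w a b) • b + (w b v / w a b) • a, ?_, ?_, ?_⟩
    · simp only [map_add, map_sub, map_smul, smul_eq_mul, h]; field_simp; ring
    · simp only [map_add, map_sub, map_smul, smul_eq_mul, h, hs b a]; field_simp; ring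
    · intro u h1 h2
      simp only [map_add, map_sub, map_smul, smul_eq_mul, h1, h2]; ring
  by_cases h0 : ∃ a b, w a b ≠ 0
  swap
  · have : w = 0 := by
      push Not at h0
      ext a b; exact h0 a b
    rw [this, LinearMap.ker_zero, finrank_top, hfr]; norm_num
  obtain ⟨a, b, hab⟩ := h0
  by_cases h1 : ∃ c d, w a c = 0 ∧ w b c = 0 ∧ w a d = 0 ∧ w b d = 0 ∧ w c d ≠ 0
  · obtain ⟨c, d, hac, hbc, had, hbd, hcd⟩ := h1
    let l : V →ₗ[F] (Fin 4 → F) := LinearMap.pi ![w a, w b, w c, w d]
    have hl := LinearMap.finrank_range_add_finrank_ker l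
    have hr : finrank F (LinearMap.range l) ≤ 4 := by
      have := Submodule.finrank_le (LinearMap.range l)
      simpa using this
    have hle : LinearMap.ker l ≤ LinearMap.ker w := by
      intro u hu
      have hu' : ∀ i, (![w a, w b, w c, w d] i) u = 0 := fun i => congrFun hu i
      have ua : w a u = 0 := hu' 0
      have ub : w b u = 0 := hu' 1
      have uc : w c u = 0 := hu' 2
      have ud : w d u = 0 := hu' 3
      rw [LinearMap.mem_ker]
      ext v
      obtain ⟨v', va, vb, hv⟩ := hred a b hab v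
      obtain ⟨v'', vc, vd, hv'⟩ := hred c d hcd v'
      have e1 : w u v'' = w u v := by
        rw [hv' u (by rw [hs, uc, neg_zero]) (by rw [hs, ud, neg_zero]),
          hv u (by rw [hs, ua, neg_zero]) (by rw [hs, ub, neg_zero])]
      have e2 : w a v'' = 0 := by rw [hv' a hac had, va]
      have e3 : w b v'' = 0 := by rw [hv' b hbc hbd, vb]
      have := hp ![a, b, c, d, u, v'']
      simp only [Matrix.cons_val, pf6, pf4, hac, had, ua, e2, uc, vc, zero_mul,
        mul_zero, sub_zero, add_zero] at this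
      rw [LinearMap.zero_apply, ← e1]
      rcases mul_eq_zero.1 this with h | h
      · exact absurd h hab
      · have h' : w c d = 0 ∨ w u v'' = 0 := by simpa [ud, vd] using h
        exact h'.resolve_left hcd
    have := Submodule.finrank_mono hle
    omega
  · push Not at h1
    let l : V →ₗ[F] (Fin 2 → F) := LinearMap.pi ![w a, w b]
    have hl := LinearMap.finrank_range_add_finrank_ker l
    have hr : finrank F (LinearMap.range l) ≤ 2 := by
      have := Submodule.finrank_le (LinearMap.range l)
      simpa using this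
    have hle : LinearMap.ker l ≤ LinearMap.ker w := by
      intro u hu
      have hu' : ∀ i, (![w a, w b] i) u = 0 := fun i => congrFun hu i
      have ua : w a u = 0 := hu' 0
      have ub : w b u = 0 := hu' 1
      rw [LinearMap.mem_ker]
      ext v
      obtain ⟨v', va, vb, hv⟩ := hred a b hab v
      rw [← hv u (by rw [hs, ua, neg_zero]) (by rw [hs, ub, neg_zero])]
      exact h1 u v' ua ub va vb
    have := Submodule.finrank_mono hle
    omega

end ker

variable {e : Basis (Fin 7) F V} {f : V →ₗ[F] V →ₗ[F] V →ₗ[F] F}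

/-- `f` is an alternating 3-form whose quadratic form is non-degenerate -/
structure Nice (e : Basis (Fin 7) F V) (f : V →ₗ[F] V →ₗ[F] V →ₗ[F] F) : Prop where
  alt : IsAltForm f
  two : (2 : F) ≠ 0
  nd : ∀ x, (∀ y, polar (Qf e f) x y = 0) → x = 0

namespace Nice

theorem finrank_eq (e : Basis (Fin 7) F V) : finrank F V = 7 := by
  rw [finrank_eq_card_basis e, Fintype.card_fin]

omit [AddCommGroup V] in
theorem vecCons_eq (w : Fin 7 → V) : Matrix.vecCons (w 0) (fun i => w i.succ) = w := by
  funext i
  refine Fin.cases rfl (fun j => rfl) i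

/-- the radical of `f x` for a nonsingular vector `x` -/
theorem rad_nonsing (N : Nice e f) {x y : V} (hx : Qf e f x ≠ 0) (hy : f x y = 0) :
    ∃ c : F, c • x = y := by
  by_contra hc
  push Not at hc
  have hx0 : x ≠ 0 := fun h => hx (by rw [h, QuadraticMap.map_zero])
  have hli : LinearIndependent F ![x, y] := (LinearIndependent.pair_iff' hx0).2 hc
  obtain ⟨w, hw, hwi⟩ := exists_ext e 5 2 rfl _ hli
  have w0 : w 0 = x := by have := hwi 0 (by norm_num) (by norm_num); exact this
  have w1 : w 1 = y := by have := hwi 1 (by norm_num) (by norm_num); exact this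
  have := pf6_eq e N.alt x (fun i => w i.succ)
  rw [← w0, vecCons_eq, w0] at this
  have e1 : pf6 (fun u v => f x u v) (w (Fin.succ 0)) (w (Fin.succ 1)) (w (Fin.succ 2))
      (w (Fin.succ 3)) (w (Fin.succ 4)) (w (Fin.succ 5)) = 0 := by
    change pf6 (fun u v => f x u v) (w 1) (w 2) (w 3) (w 4) (w 5) (w 6) = 0
    simp only [pf6, w1, hy, LinearMap.zero_apply]; ring
  rw [e1] at this
  exact mul_ne_zero hx hw this.symm

theorem ker_le (N : Nice e f) {x : V} (hx0 : x ≠ 0) (hx : Qf e f x = 0) :
    finrank F (LinearMap.ker (f x)) ≤ 3 := by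
  have : FiniteDimensional F V := e.finiteDimensional_of_finite
  by_contra hc
  push Not at hc
  have hxk : x ∈ LinearMap.ker (f x) := by
    rw [LinearMap.mem_ker]; ext v; exact N.alt.self x v
  obtain ⟨v, hv, hv0, hvk⟩ := exists_in hxk hx0 3 hc
  obtain ⟨w, hw, hwi⟩ := exists_ext e 3 4 rfl _ hv
  have w0 : w 0 = x := (hwi 0 (by norm_num) (by norm_num)).trans hv0
  have w1 : f x (w 1) = 0 := by rw [show w 1 = v 1 from hwi 1 (by norm_num) (by norm_num)]; exact hvk 1
  have w2 : f x (w 2) = 0 := by rw [show w 2 = v 2 from hwi 2 (by norm_num) (by norm_num)]; exact hvk 2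
  have w3 : f x (w 3) = 0 := by rw [show w 3 = v 3 from hwi 3 (by norm_num) (by norm_num)]; exact hvk 3
  apply hx0
  apply N.nd
  intro z
  have := pf21_eq e N.alt N.two x z (fun i => w i.succ)
  rw [hx, zero_mul, add_zero, ← w0, vecCons_eq, w0] at this
  have e1 : pf21 (fun u v => f x u v) (fun u v => f z u v) (w (Fin.succ 0)) (w (Fin.succ 1))
      (w (Fin.succ 2)) (w (Fin.succ 3)) (w (Fin.succ 4)) (w (Fin.succ 5)) = 0 := by
    change pf21 (fun u v => f x u v) (fun u v => f z u v) (w 1) (w 2) (w 3) (w 4) (w 5) (w 6) = 0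
    simp only [pf21, pf4, w1, w2, w3, LinearMap.zero_apply]; ring
  rw [e1] at this
  exact (mul_eq_zero.1 this.symm).resolve_right hw

theorem ker_eq (N : Nice e f) {x : V} (hx0 : x ≠ 0) (hx : Qf e f x = 0) :
    finrank F (LinearMap.ker (f x)) = 3 := by
  refine le_antisymm (N.ker_le hx0 hx) (ker_ge (finrank_eq e) (f x) (N.alt.z23 x) fun c => ?_)
  rw [pf6_eq e N.alt, hx, zero_mul]

/-- the vectors of the radical of a null vector are null -/
theorem null_of_ker (N : Nice e f) {x y : V} (hx0 : x ≠ 0) (hx : Qf e f x = 0) (hy : f x y = 0) :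
    Qf e f y = 0 := by
  by_contra hq
  have hyx : f y x = 0 := by
    ext v
    rw [N.alt.swap12, hy]; simp
  obtain ⟨c, rfl⟩ := N.rad_nonsing hq hyx
  rw [QuadraticMap.map_smul] at hx
  rcases mul_eq_zero.1 hx with h | h
  · rcases mul_eq_zero.1 h with h | h <;> exact hx0 (by rw [h, zero_smul])
  · exact hq h

/-- two vectors in the radical of the null vector `x` have a product proportional to `x` -/
theorem exists_lam (N : Nice e f) {x r s : V} (hx : Qf e f x = 0) (hr : f x r = 0)
    (hs : f x s = 0) (hli : LinearIndependent F ![x, r, s]) :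
    ∃ l : F, l ≠ 0 ∧ ∀ z, f z r s = l * polar (Qf e f) x z := by
  have hx0 : x ≠ 0 := hli.ne_zero 0
  obtain ⟨w, hw, hwi⟩ := exists_ext e 4 3 rfl _ hli
  have w0 : w 0 = x := by have := hwi 0 (by norm_num) (by norm_num); exact this
  have w1 : w 1 = r := by have := hwi 1 (by norm_num) (by norm_num); exact this
  have w2 : w 2 = s := by have := hwi 2 (by norm_num) (by norm_num); exact this
  have key : ∀ z, f z r s * pf4 (fun u v => f x u v) (w 3) (w 4) (w 5) (w 6) =
      polar (Qf e f) x z * e.det w := by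
    intro z
    have := pf21_eq e N.alt N.two x z (fun i => w i.succ)
    rw [hx, zero_mul, add_zero, ← w0, vecCons_eq, w0] at this
    rw [← this]
    change _ = pf21 (fun u v => f x u v) (fun u v => f z u v) (w 1) (w 2) (w 3) (w 4) (w 5) (w 6)
    simp only [pf21, pf4, w1, w2, hr, hs, LinearMap.zero_apply]; ring
  obtain ⟨z0, hz0⟩ : ∃ z, polar (Qf e f) x z ≠ 0 := by
    by_contra h
    push Not at h
    exact hx0 (N.nd x h)
  have hp : pf4 (fun u v => f x u v) (w 3) (w 4) (w 5) (w 6) ≠ 0 := by
    intro h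
    have := key z0
    rw [h, mul_zero] at this
    exact mul_ne_zero hz0 hw this.symm
  refine ⟨e.det w / pf4 (fun u v => f x u v) (w 3) (w 4) (w 5) (w 6), div_ne_zero hw hp, ?_⟩
  intro z
  have := key z
  field_simp
  rw [this]; ring

end Nice

end Cfsg.Agent.H179.G2
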