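import Cfsg.Agent.H179.G2Cross

/-!
# The composition identity of a non-degenerate alternating 3-form in dimension 7
-/

namespace Cfsg.Agent.H179.G2

open QuadraticMap Module

variable {F V : Type*} [Field F] [AddCommGroup V] [Module F V]
variable {e : Basis (Fin 7) F V} {f : V →ₗ[F] V →ₗ[F] V →ₗ[F] F}

namespace Nice

theorem exists_bb_ne (N : Nice e f) {x : V} (hx : x ≠ 0) : ∃ z, bb e f x z ≠ 0 := by
  by_contra h
  push Not at h
  exact hx (N.nd x h)

theorem exists_bb_one (N : Nice e f) {x : V} (hx : x ≠ 0) : ∃ z, bb e f x z = 1 := by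
  obtain ⟨z, hz⟩ := N.exists_bb_ne hx
  exact ⟨(bb e f x z)⁻¹ • z, by rw [map_smul, smul_eq_mul, inv_mul_cancel₀ hz]⟩

theorem exists_pair (N : Nice e f) {x y : V} (hx : ∀ c : F, c • y ≠ x) :
    ∃ z, bb e f x z = 1 ∧ bb e f y z = 0 := by
  by_cases hy0 : y = 0
  · subst hy0
    have hx0 : x ≠ 0 := fun h => hx 0 (by rw [h, zero_smul])
    obtain ⟨z, hz⟩ := N.exists_bb_one hx0
    exact ⟨z, hz, by simp⟩
  by_contra hc
  push Not at hc
  obtain ⟨z0, hz0⟩ := N.exists_bb_one hy0
  have h1 : ∀ z, bb e f y z = 0 → bb e f x z = 0 := by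
    intro z hz
    by_contra hxz
    refine hc ((bb e f x z)⁻¹ • z) ?_ ?_
    · rw [map_smul, smul_eq_mul, inv_mul_cancel₀ hxz]
    · rw [map_smul, hz, smul_zero]
  apply hx (bb e f x z0)
  apply N.ext
  intro z
  have := h1 (z - bb e f y z • z0) (by simp [hz0])
  simp only [map_sub, map_smul, smul_eq_mul, LinearMap.smul_apply] at this ⊢
  linear_combination -this

theorem lin_zero {x y : V} (hy : ∀ c : F, c • x ≠ y) (hx : x ≠ 0) {a b : F}
    (h : a • x + b • y = 0) : a = 0 ∧ b = 0 := by
  have hb : b = 0 := by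
    by_contra hb
    apply hy (-(b⁻¹ * a))
    have : y = b⁻¹ • (b • y) := by rw [smul_smul, inv_mul_cancel₀ hb, one_smul]
    rw [this, eq_neg_of_add_eq_zero_right h]
    module
  refine ⟨?_, hb⟩
  rw [hb, zero_smul, add_zero] at h
  exact (smul_eq_zero.1 h).resolve_right hx

/-- orthogonal null vectors have the same constant -/
theorem kap_orth (N : Nice e f) {x y : V} (hx0 : x ≠ 0) (hx : Qf e f x = 0)
    (hy : Qf e f y = 0) (hxy : bb e f x y = 0) (hli : ∀ c : F, c • x ≠ y)
    {kx ky : F} (hkx : ∀ z, N.cr x (N.cr x z) = (kx * bb e f x z) • x)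
    (hky : ∀ z, N.cr y (N.cr y z) = (ky * bb e f y z) • y) : kx = ky := by
  have hy0 : y ≠ 0 := fun h => hli 0 (by rw [h, zero_smul])
  have hli' : ∀ c : F, c • y ≠ x := by
    intro c hc
    have hc0 : c ≠ 0 := by
      rintro rfl
      exact hx0 (by rw [← hc, zero_smul])
    exact hli c⁻¹ (by rw [← hc, smul_smul, inv_mul_cancel₀ hc0, one_smul])
  have hu0 : x + y ≠ 0 := fun h => hli (-1) (by rw [neg_one_smul]; exact (eq_neg_of_add_eq_zero_right h).symm)
  have hv0 : x - y ≠ 0 := fun h => hli 1 (by rw [one_smul]; exact sub_eq_zero.1 h)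
  have hu : Qf e f (x + y) = 0 := by rw [Qf_add, hx, hy, hxy]; simp
  have hv : Qf e f (x - y) = 0 := by
    rw [sub_eq_add_neg, Qf_add, hx, QuadraticMap.map_neg, hy, map_neg, hxy]; simp
  obtain ⟨ku, -, hku⟩ := N.null_cross hu0 hu
  obtain ⟨kv, -, hkv⟩ := N.null_cross hv0 hv
  have key : ∀ z, (2 : F) • ((kx * bb e f x z) • x + (ky * bb e f y z) • y) =
      (ku * (bb e f x z + bb e f y z)) • (x + y) + (kv * (bb e f x z - bb e f y z)) • (x - y) := by
    intro z
    have h1 := hku z
    have h2 := hkv z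
    simp only [map_add, map_sub, LinearMap.add_apply, LinearMap.sub_apply, hkx z, hky z] at h1 h2
    rw [← h1, ← h2]
    module
  obtain ⟨z1, h11, h12⟩ := N.exists_pair hli'
  obtain ⟨z2, h21, h22⟩ := N.exists_pair hli
  have e1 := key z1
  have e2 := key z2
  rw [h11, h12] at e1
  rw [h21, h22] at e2
  have e1' : (2 * kx - ku - kv) • x + (kv - ku) • y = 0 := by
    linear_combination (norm := module) e1
  have e2' : (kv - ku) • x + (2 * ky - ku - kv) • y = 0 := by
    linear_combination (norm := module) e2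
  obtain ⟨a1, a2⟩ := lin_zero hli hx0 e1'
  obtain ⟨b1, b2⟩ := lin_zero hli hx0 e2'
  have : 2 * (kx - ky) = 0 := by linear_combination a1 - b2
  exact sub_eq_zero.1 ((mul_eq_zero.1 this).resolve_left N.two)

/-- all null vectors have the same constant -/
theorem kap_const (N : Nice e f) {x y : V} (hx0 : x ≠ 0) (hx : Qf e f x = 0) (hy0 : y ≠ 0)
    (hy : Qf e f y = 0) {kx ky : F} (hkx : ∀ z, N.cr x (N.cr x z) = (kx * bb e f x z) • x)
    (hky : ∀ z, N.cr y (N.cr y z) = (ky * bb e f y z) • y) : kx = ky := by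
  have : FiniteDimensional F V := e.finiteDimensional_of_finite
  by_cases hli : ∀ c : F, c • x ≠ y
  · by_cases hxy : bb e f x y = 0
    · exact N.kap_orth hx0 hx hy hxy hli hkx hky
    · have hyx : bb e f y x ≠ 0 := by rwa [bb_comm]
      have hxk : x ∈ LinearMap.ker (f x) := by
        rw [LinearMap.mem_ker]; ext v; exact N.alt.self x v
      obtain ⟨v, hv, hv0, hvk⟩ := exists_in hxk hx0 1 (by rw [N.ker_eq hx0 hx]; norm_num)
      have hv2 : LinearIndependent F ![x, v 1] := by
        have : v = ![x, v 1] := by funext i; fin_cases i; exacts [hv0, rfl]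
        rwa [this] at hv
      rw [LinearIndependent.pair_iff' hx0] at hv2
      set r := v 1 with hr
      have hrk : f x r = 0 := hvk 1
      set z := r - (bb e f y r / bb e f y x) • x with hz
      have hzx : ∀ c : F, c • x ≠ z := by
        intro c hc
        apply hv2 (c + bb e f y r / bb e f y x)
        rw [add_smul, hc, hz]; abel
      have hz0 : z ≠ 0 := fun h => hzx 0 (by rw [h, zero_smul])
      have hzk : f x z = 0 := by
        rw [hz, map_sub, map_smul, hrk, show f x x = 0 from hxk]; simp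
      have hzq : Qf e f z = 0 := N.null_of_ker hx0 hx hzk
      have hyz : bb e f y z = 0 := by
        rw [hz, map_sub, map_smul, smul_eq_mul]; field_simp; ring
      have hxz : bb e f x z = 0 := by
        have h1 : f x (x + z) = 0 := by rw [map_add, hzk, show f x x = 0 from hxk, add_zero]
        have h2 := N.null_of_ker hx0 hx h1
        rw [Qf_add, hx, hzq] at h2
        simpa using h2
      obtain ⟨kz, -, hkz⟩ := N.null_cross hz0 hzq
      have e1 : kx = kz := N.kap_orth hx0 hx hzq hxz hzx hkx hkz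
      have e2 : ky = kz := by
        refine N.kap_orth hy0 hy hzq hyz ?_ hky hkz
        intro c hc
        rw [← hc, map_smul, smul_eq_mul] at hxz
        rcases mul_eq_zero.1 hxz with h | h
        · exact hz0 (by rw [← hc, h, zero_smul])
        · exact hxy h
      rw [e1, e2]
  · push Not at hli
    obtain ⟨c, rfl⟩ := hli
    obtain ⟨z, hz⟩ := N.exists_bb_one hx0
    have hc0 : c ≠ 0 := by rintro rfl; exact hy0 (zero_smul _ _)
    have h1 := hky z
    simp only [map_smul, LinearMap.smul_apply, hkx z, hz, smul_eq_mul, smul_smul] at h1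
    have h2 : (c ^ 2 * (kx - ky)) • x = 0 := by
      linear_combination (norm := module) h1
    have h3 := (smul_eq_zero.1 h2).resolve_right hx0
    exact sub_eq_zero.1 ((mul_eq_zero.1 h3).resolve_left (pow_ne_zero 2 hc0))

/-- the common constant of the null vectors -/
theorem exists_kappa (N : Nice e f) (h : ∃ u, u ≠ 0 ∧ Qf e f u = 0) :
    ∃ k : F, k ≠ 0 ∧ ∀ x, Qf e f x = 0 → ∀ y, N.cr x (N.cr x y) = (k * bb e f x y) • x := by
  obtain ⟨u, hu0, hu⟩ := h
  obtain ⟨k, hk, hku⟩ := N.null_cross hu0 hu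
  refine ⟨k, hk, fun x hx y => ?_⟩
  by_cases hx0 : x = 0
  · subst hx0; simp
  · obtain ⟨k', -, hk'⟩ := N.null_cross hx0 hx
    rw [N.kap_const hu0 hu hx0 hx hku hk']
    exact hk' y

/-- the defect of the linearised composition identity -/
noncomputable def Psi (N : Nice e f) (k : F) (u v y : V) : V :=
  N.cr u (N.cr v y) + N.cr v (N.cr u y) -
    k • (bb e f u y • v + bb e f v y • u - (2 * bb e f u v) • y)

variable (N : Nice e f) (k : F)

theorem Psi_add (u v v' y : V) : N.Psi k u (v + v') y = N.Psi k u v y + N.Psi k u v' y := by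
  simp only [Psi, map_add, LinearMap.add_apply]
  module

theorem Psi_smul (c : F) (u v y : V) : N.Psi k u (c • v) y = c • N.Psi k u v y := by
  simp only [Psi, map_smul, LinearMap.smul_apply, smul_eq_mul]
  module

theorem Psi_comm (u v y : V) : N.Psi k u v y = N.Psi k v u y := by
  simp only [Psi, bb_comm v u]
  module

theorem Psi_add' (u v y y' : V) : N.Psi k u v (y + y') = N.Psi k u v y + N.Psi k u v y' := by
  simp only [Psi, map_add]
  module

theorem Psi_smul' (c : F) (u v y : V) : N.Psi k u v (c • y) = c • N.Psi k u v y := by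
  simp only [Psi, map_smul, smul_eq_mul]
  module

theorem Psi_addl (u u' v y : V) : N.Psi k (u + u') v y = N.Psi k u v y + N.Psi k u' v y := by
  simp only [Psi, map_add, LinearMap.add_apply]
  module

theorem Psi_smull (c : F) (u v y : V) : N.Psi k (c • u) v y = c • N.Psi k u v y := by
  simp only [Psi, map_smul, LinearMap.smul_apply, smul_eq_mul]
  module

theorem Psi_self (x : V) : N.Psi k x x x = 0 := by
  simp only [Psi, N.cr_self, map_zero, add_zero]
  module

variable {k}
variable (hk : ∀ x, Qf e f x = 0 → ∀ y, N.cr x (N.cr x y) = (k * bb e f x y) • x)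
include hk

theorem Psi_null {x : V} (hx : Qf e f x = 0) (y : V) : N.Psi k x x y = 0 := by
  simp only [Psi, hk x hx y, (N.null_iff x).2 hx]
  module

omit hk in
theorem smul_two (N : Nice e f) {v : V} (h : (2 : F) • v = 0) : v = 0 :=
  (smul_eq_zero.1 h).resolve_left N.two

theorem Psi_orth {u v : V} (hu : Qf e f u = 0) (hv : Qf e f v = 0) (huv : bb e f u v = 0)
    (y : V) : N.Psi k u v y = 0 := by
  have h1 : Qf e f (u + v) = 0 := by rw [Qf_add, hu, hv, huv]; simp
  have h2 := N.Psi_null hk h1 y
  rw [Psi_add, Psi_comm, N.Psi_comm k (u + v) v, Psi_add, Psi_add, N.Psi_null hk hu,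
    N.Psi_null hk hv, N.Psi_comm k v u] at h2
  apply N.smul_two
  rw [← h2]; module

/-- `Psi u w` vanishes for a null vector `u` and a vector `w` orthogonal to `u` -/
theorem Psi_perp {u w : V} (hu0 : u ≠ 0) (hu : Qf e f u = 0) (huw : bb e f u w = 0) (y : V) :
    N.Psi k u w y = 0 := by
  have : FiniteDimensional F V := e.finiteDimensional_of_finite
  by_cases hw : Qf e f w = 0
  · exact N.Psi_orth hk hu hw huw y
  have hwu : bb e f w u = 0 := by rw [bb_comm, huw]
  have huk : u ∈ LinearMap.ker (f u) := by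
    rw [LinearMap.mem_ker]; ext v; exact N.alt.self u v
  -- a vector `r` in the radical of `u`, orthogonal to `w`
  obtain ⟨r, hrk, hwr, hru⟩ : ∃ r, f u r = 0 ∧ bb e f w r = 0 ∧ ∀ c : F, c • u ≠ r := by
    obtain ⟨v, hv, hv0, hvk⟩ := exists_in huk hu0 2 (by rw [N.ker_eq hu0 hu])
    have hv01 : ∀ c : F, c • u ≠ v 1 := by
      intro c hc
      have := hv.comp ![(0 : Fin 3), 1] (by decide)
      have h3 : v ∘ ![(0 : Fin 3), 1] = ![u, v 1] := by
        funext i; fin_cases i; exacts [hv0, rfl]
      rw [h3, LinearIndependent.pair_iff' hu0] at this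
      exact this c hc
    by_cases h1 : bb e f w (v 1) = 0
    · exact ⟨v 1, hvk 1, h1, hv01⟩
    · refine ⟨v 2 - (bb e f w (v 2) / bb e f w (v 1)) • v 1, ?_, ?_, ?_⟩
      · rw [map_sub, map_smul, show f u (v 2) = 0 from hvk 2, show f u (v 1) = 0 from hvk 1]; simp
      · rw [map_sub, map_smul, smul_eq_mul]; field_simp; ring
      · intro c hc
        have h2 : ∑ i, (![c, bb e f w (v 2) / bb e f w (v 1), -1] : Fin 3 → F) i • v i = 0 := by
          rw [Fin.sum_univ_three]
          simp only [Matrix.cons_val]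
          rw [hv0, hc]; module
        have := (Fintype.linearIndependent_iff.1 hv) _ h2 2
        simp at this
  have hrq : Qf e f r = 0 := N.null_of_ker hu0 hu hrk
  have hur : bb e f u r = 0 := by
    have h1 : f u (u + r) = 0 := by rw [map_add, hrk, show f u u = 0 from huk, add_zero]
    have h2 := N.null_of_ker hu0 hu h1
    rw [Qf_add, hu, hrq] at h2
    simpa using h2
  -- a vector `y0` orthogonal to `u` and `w` but not to `r`
  obtain ⟨y0, hy1, hy2, hy3⟩ : ∃ y0, bb e f u y0 = 0 ∧ bb e f w y0 = 0 ∧ bb e f r y0 = 1 := by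
    obtain ⟨y0, hy1, hy2, hy3⟩ : ∃ y0, bb e f u y0 = 0 ∧ bb e f w y0 = 0 ∧ bb e f r y0 ≠ 0 := by
      by_contra h
      push Not at h
      have h1 : r ∈ LinearMap.BilinForm.orthogonal (bb e f)
          (LinearMap.BilinForm.orthogonal (bb e f) (Submodule.span F {u, w})) := by
        intro v hv
        change bb e f v r = 0
        rw [bb_comm]
        refine h v ?_ ?_
        · exact hv u (Submodule.subset_span (by simp))
        · exact hv w (Submodule.subset_span (by simp))
      rw [LinearMap.BilinForm.orthogonal_orthogonal N.nondeg (isRefl e f),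
        Submodule.mem_span_pair] at h1
      obtain ⟨a, b, hab⟩ := h1
      rw [← hab, map_add, map_smul, map_smul, hwu, bb_self, smul_zero, zero_add, smul_eq_mul] at hwr
      have hb : b = 0 := by
        rcases mul_eq_zero.1 hwr with h | h
        · exact h
        · exact absurd h (mul_ne_zero N.two hw)
      exact hru a (by rw [← hab, hb, zero_smul, add_zero])
    refine ⟨(bb e f r y0)⁻¹ • y0, by rw [map_smul, hy1, smul_zero],
      by rw [map_smul, hy2, smul_zero], by rw [map_smul, smul_eq_mul, inv_mul_cancel₀ hy3]⟩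
  set rs := y0 - Qf e f y0 • r with hrs
  have hyr : bb e f y0 r = 1 := by rw [bb_comm, hy3]
  have hrs0 : Qf e f rs = 0 := by
    rw [← N.null_iff, hrs]
    simp only [map_sub, LinearMap.sub_apply, map_smul, LinearMap.smul_apply, smul_eq_mul,
      bb_self, hrq, hyr, hy3]
    ring
  have hurs : bb e f u rs = 0 := by rw [hrs, map_sub, map_smul, hy1, hur]; simp
  have hwrs : bb e f w rs = 0 := by rw [hrs, map_sub, map_smul, hy2, hwr]; simp
  have hrrs : bb e f r rs = 1 := by
    rw [hrs, map_sub, map_smul, hy3, bb_self, hrq]; simp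
  have ht0 : Qf e f (w + rs + (-Qf e f w) • r) = 0 := by
    rw [← N.null_iff]
    simp only [map_add, LinearMap.add_apply, map_smul, LinearMap.smul_apply, smul_eq_mul, hwrs,
      hwr, bb_comm rs w, bb_comm r w, bb_comm rs r, hrrs, bb_self, hrs0, hrq]
    ring
  have hut : bb e f u (w + rs + (-Qf e f w) • r) = 0 := by
    simp only [map_add, map_smul, huw, hurs, hur]; simp
  have h1 := N.Psi_orth hk hu ht0 hut y
  rw [Psi_add, Psi_add, Psi_smul, N.Psi_orth hk hu hrs0 hurs y, N.Psi_orth hk hu hrq hur y] at h1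
  simpa using h1

/-- `Psi u v` vanishes for a null vector `u` -/
theorem Psi_null_left {u : V} (hu0 : u ≠ 0) (hu : Qf e f u = 0) (x y : V) : N.Psi k u x y = 0 := by
  -- a null vector `v` with `b(u, v) = 1`
  obtain ⟨v0, hv0⟩ := N.exists_bb_one hu0
  have hlin : ∀ v, bb e f u v = 1 → ∀ x y, N.Psi k u x y = bb e f u x • N.Psi k u v y := by
    intro v hv x y
    have h1 := N.Psi_perp hk hu0 hu (w := x + (-bb e f u x) • v) (by
      rw [map_add, map_smul, hv, smul_eq_mul]; ring) y
    rw [Psi_add, Psi_smul] at h1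
    linear_combination (norm := module) h1
  have hE : ∀ v, Qf e f v = 0 → bb e f u v = 1 → N.Psi k u v u = 0 ∧ N.Psi k u v v = 0 := by
    intro v hv huv
    have h1 := N.Psi_self k (u + v)
    have h2 := N.Psi_self k (u + (-1 : F) • v)
    simp only [Psi_add, Psi_add', Psi_addl, Psi_smul, Psi_smul', Psi_smull, N.Psi_null hk hu,
      N.Psi_null hk hv, N.Psi_comm k v u] at h1 h2
    constructor
    · apply N.smul_two; apply N.smul_two
      linear_combination (norm := module) h1 - h2
    · apply N.smul_two; apply N.smul_two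
      linear_combination (norm := module) h1 + h2
  set v := v0 + (-Qf e f v0) • u with hv
  have hvq : Qf e f v = 0 := by
    rw [← N.null_iff, hv]
    simp only [map_add, LinearMap.add_apply, map_smul, LinearMap.smul_apply, smul_eq_mul, bb_self,
      hu, bb_comm v0 u, hv0]
    ring
  have huv : bb e f u v = 1 := by
    rw [hv, map_add, map_smul, hv0, bb_self, hu]; simp
  obtain ⟨hEu, hEv⟩ := hE v hvq huv
  have hy1 : ∀ y, bb e f u y ≠ 0 → N.Psi k u v y = 0 := by
    intro y hy
    set t := y + (-(Qf e f y / bb e f u y)) • u with ht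
    have htq : Qf e f t = 0 := by
      rw [← N.null_iff, ht]
      simp only [map_add, LinearMap.add_apply, map_smul, LinearMap.smul_apply, smul_eq_mul, bb_self,
        hu, bb_comm y u]
      field_simp
      ring
    have hut : bb e f u t = bb e f u y := by
      rw [ht, map_add, map_smul, bb_self, hu]; simp
    have h1 := (hE ((bb e f u y)⁻¹ • t) (by rw [Qf_smul, htq, mul_zero])
      (by rw [map_smul, hut, smul_eq_mul, inv_mul_cancel₀ hy])).2
    rw [Psi_smul, Psi_smul', smul_smul, hlin v huv t] at h1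
    have h2 : N.Psi k u v t = 0 := by
      rw [smul_smul] at h1
      refine (smul_eq_zero.1 h1).resolve_left (mul_ne_zero (mul_ne_zero ?_ ?_) ?_)
      · exact inv_ne_zero hy
      · exact inv_ne_zero hy
      · rwa [hut]
    rw [ht, Psi_add', Psi_smul', hEu, smul_zero, add_zero] at h2
    exact h2
  have hy2 : ∀ y, N.Psi k u v y = 0 := by
    intro y
    by_cases hy : bb e f u y = 0
    · have h1 := hy1 (y + v) (by rw [map_add, hy, huv, zero_add]; exact one_ne_zero)
      rwa [Psi_add', hEv, add_zero] at h1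
    · exact hy1 y hy
  rw [hlin v huv x y, hy2, smul_zero]

/-- **the linearised composition identity** -/
theorem Psi_zero (h : ∃ u, u ≠ 0 ∧ Qf e f u = 0) (x z y : V) : N.Psi k x z y = 0 := by
  obtain ⟨u, hu0, hu⟩ := h
  have h0 : ∀ t, Qf e f t = 0 → N.Psi k t z y = 0 := by
    intro t ht
    by_cases ht0 : t = 0
    · subst ht0
      have := N.Psi_smul k (0 : F) z 0 y
      rw [Psi_comm, zero_smul, zero_smul] at this
      simpa using this
    · exact N.Psi_null_left hk ht0 ht z y
  have h1 : ∀ x, bb e f u x ≠ 0 → N.Psi k x z y = 0 := by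
    intro x hx
    have e1 : x = (x + (-(Qf e f x / bb e f u x)) • u) + (Qf e f x / bb e f u x) • u := by module
    have htq : Qf e f (x + (-(Qf e f x / bb e f u x)) • u) = 0 := by
      rw [← N.null_iff]
      simp only [map_add, LinearMap.add_apply, map_smul, LinearMap.smul_apply, smul_eq_mul, bb_self,
        hu, bb_comm x u]
      field_simp
      ring
    rw [e1, Psi_comm, Psi_add, Psi_smul, N.Psi_comm k z, N.Psi_comm k z, h0 _ htq, h0 _ hu]
    simp
  by_cases hx : bb e f u x = 0
  · obtain ⟨v, hv⟩ := N.exists_bb_one hu0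
    have e1 := h1 (x + v) (by rw [map_add, hx, hv, zero_add]; exact one_ne_zero)
    have e2 := h1 v (by rw [hv]; exact one_ne_zero)
    rw [Psi_comm, Psi_add, N.Psi_comm k z v, e2, add_zero, Psi_comm] at e1
    exact e1
  · exact h1 x hx

omit hk in
/-- the composition identity -/
theorem exists_comp (N : Nice e f) (h : ∃ u, u ≠ 0 ∧ Qf e f u = 0) :
    ∃ k : F, k ≠ 0 ∧ ∀ u v y, N.cr u (N.cr v y) + N.cr v (N.cr u y) =
      k • (bb e f u y • v + bb e f v y • u - (2 * bb e f u v) • y) := by
  obtain ⟨k, hk0, hk⟩ := N.exists_kappa h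
  exact ⟨k, hk0, fun u v y => sub_eq_zero.1 (N.Psi_zero hk h u v y)⟩

end Nice

end Cfsg.Agent.H179.G2
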