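import Mathlib

/-!
# Pfaffians of small size and trilinear alternating forms in seven variables

`pf4`, `pf6` are the Pfaffians of a function `A : α → α → R` on 4 and 6 arguments; `pf21 A B` is
the part of `pf6 (A + B)` which is quadratic in `A` and linear in `B`.  If `φ` is an alternating
function of three indices in `Fin 7`, the Pfaffian of the matrix `∑ l, x l * φ l i j` with row and
column `k` omitted is `(-1)^k * x k * qf φ x`, `qf φ x` a quadratic form in `x`.
-/

namespace Cfsg.Agent.H179.G2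

variable {α R : Type*} [CommRing R]

/-- the Pfaffian on four arguments -/
def pf4 (A : α → α → R) (a b c d : α) : R := A a b * A c d - A a c * A b d + A a d * A b c

/-- the Pfaffian on six arguments -/
def pf6 (A : α → α → R) (a b c d e f : α) : R :=
  A a b * pf4 A c d e f - A a c * pf4 A b d e f + A a d * pf4 A b c e f
    - A a e * pf4 A b c d f + A a f * pf4 A b c d e

/-- the part of `pf6 (A + B)` quadratic in `A` and linear in `B` -/
def pf21 (A B : α → α → R) (a b c d e f : α) : R :=
  B a b * pf4 A c d e f - B a c * pf4 A b d e f + B a d * pf4 A b c e f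
    - B a e * pf4 A b c d f + B a f * pf4 A b c d e
    + B b c * pf4 A a d e f - B b d * pf4 A a c e f + B b e * pf4 A a c d f
    - B b f * pf4 A a c d e
    + B c d * pf4 A a b e f - B c e * pf4 A a b d f + B c f * pf4 A a b d e
    + B d e * pf4 A a b c f - B d f * pf4 A a b c e
    + B e f * pf4 A a b c d

theorem pf6_add (A B : α → α → R) (a b c d e f : α) :
    pf6 (fun i j => A i j + B i j) a b c d e f =
      pf6 A a b c d e f + pf21 A B a b c d e f + pf21 B A a b c d e f + pf6 B a b c d e f := by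
  simp only [pf6, pf21, pf4]; ring

theorem pf6_smul (t : R) (A : α → α → R) (a b c d e f : α) :
    pf6 (fun i j => t * A i j) a b c d e f = t ^ 3 * pf6 A a b c d e f := by
  simp only [pf6, pf4]; ring

/-- the Pfaffian of the generic 6 by 6 matrix `∑ l, u l * φ l i j` vanishes -/
theorem pf6_generic (p012 p013 p014 p015 p023 p024 p025 p034 p035 p045 p123 p124 p125 p134 p135
    p145 p234 p235 p245 p345 u0 u1 u2 u3 u4 u5 : R) (A : Fin 6 → Fin 6 → R)
    (h01 : A 0 1 = u2 * p012 + u3 * p013 + u4 * p014 + u5 * p015)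
    (h02 : A 0 2 = - u1 * p012 + u3 * p023 + u4 * p024 + u5 * p025)
    (h03 : A 0 3 = - u1 * p013 - u2 * p023 + u4 * p034 + u5 * p035)
    (h04 : A 0 4 = - u1 * p014 - u2 * p024 - u3 * p034 + u5 * p045)
    (h05 : A 0 5 = - u1 * p015 - u2 * p025 - u3 * p035 - u4 * p045)
    (h12 : A 1 2 = u0 * p012 + u3 * p123 + u4 * p124 + u5 * p125)
    (h13 : A 1 3 = u0 * p013 - u2 * p123 + u4 * p134 + u5 * p135)
    (h14 : A 1 4 = u0 * p014 - u2 * p124 - u3 * p134 + u5 * p145)
    (h15 : A 1 5 = u0 * p015 - u2 * p125 - u3 * p135 - u4 * p145)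
    (h23 : A 2 3 = u0 * p023 + u1 * p123 + u4 * p234 + u5 * p235)
    (h24 : A 2 4 = u0 * p024 + u1 * p124 - u3 * p234 + u5 * p245)
    (h25 : A 2 5 = u0 * p025 + u1 * p125 - u3 * p235 - u4 * p245)
    (h34 : A 3 4 = u0 * p034 + u1 * p134 + u2 * p234 + u5 * p345)
    (h35 : A 3 5 = u0 * p035 + u1 * p135 + u2 * p235 - u4 * p345)
    (h45 : A 4 5 = u0 * p045 + u1 * p145 + u2 * p245 + u3 * p345) :
    pf6 A 0 1 2 3 4 5 = 0 := by
  simp only [pf6, pf4, h01, h02, h03, h04, h05, h12, h13, h14, h15, h23, h24, h25, h34, h35, h45]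
  ring

end Cfsg.Agent.H179.G2
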