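import Cfsg.Agent.H179.G2Pf

/-!
# The quadratic form of an alternating function of three indices in `Fin 7`

`pf6_omit`: the Pfaffian of `MM φ x` with row and column `k` omitted is `(-1)^k * x k * qf φ x`.
-/

namespace Cfsg.Agent.H179.G2

variable {R : Type*} [CommRing R] {φ : Fin 7 → Fin 7 → Fin 7 → R}

/-- `φ` is an alternating function of three indices -/
structure IsAlt (φ : Fin 7 → Fin 7 → Fin 7 → R) : Prop where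
  self : ∀ i j, φ i i j = 0
  z23 : ∀ i j, φ i j j = 0
  swap12 : ∀ i j k, φ i j k = - φ j i k
  swap23 : ∀ i j k, φ i j k = - φ i k j

theorem IsAlt.z13 (h : IsAlt φ) (i j : Fin 7) : φ i j i = 0 := by
  rw [h.swap23, h.self, neg_zero]

theorem IsAlt.rot (h : IsAlt φ) (i j k : Fin 7) : φ i j k = φ j k i := by
  rw [h.swap12, h.swap23 j i k, neg_neg]

/-- the matrix of the 2-form `φ x` -/
def MM (φ : Fin 7 → Fin 7 → Fin 7 → R) (x : Fin 7 → R) (i j : Fin 7) : R := ∑ l, x l * φ l i j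

/-- the part of `MM φ x` without `x 0` -/
def Phi (φ : Fin 7 → Fin 7 → Fin 7 → R) (x : Fin 7 → R) (i j : Fin 7) : R :=
  ∑ l : Fin 6, x l.succ * φ l.succ i j

/-- the quadratic form of `φ` -/
def qf (φ : Fin 7 → Fin 7 → Fin 7 → R) (x : Fin 7 → R) : R :=
  x 0 ^ 2 * pf6 (φ 0) 1 2 3 4 5 6 + x 0 * pf21 (φ 0) (Phi φ x) 1 2 3 4 5 6
    + pf21 (Phi φ x) (φ 0) 1 2 3 4 5 6

theorem MM_apply (x : Fin 7 → R) (i j : Fin 7) : MM φ x i j =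
    x 0 * φ 0 i j + x 1 * φ 1 i j + x 2 * φ 2 i j + x 3 * φ 3 i j + x 4 * φ 4 i j
      + x 5 * φ 5 i j + x 6 * φ 6 i j := by
  simp only [MM, Fin.sum_univ_succ, Fin.sum_univ_zero]
  change x 0 * φ 0 i j + (x 1 * φ 1 i j + (x 2 * φ 2 i j + (x 3 * φ 3 i j + (x 4 * φ 4 i j
      + (x 5 * φ 5 i j + (x 6 * φ 6 i j + 0)))))) = _
  ring

theorem Phi_apply (x : Fin 7 → R) (i j : Fin 7) : Phi φ x i j =
    x 1 * φ 1 i j + x 2 * φ 2 i j + x 3 * φ 3 i j + x 4 * φ 4 i j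
      + x 5 * φ 5 i j + x 6 * φ 6 i j := by
  simp only [Phi, Fin.sum_univ_succ, Fin.sum_univ_zero]
  change (x 1 * φ 1 i j + (x 2 * φ 2 i j + (x 3 * φ 3 i j + (x 4 * φ 4 i j
      + (x 5 * φ 5 i j + (x 6 * φ 6 i j + 0)))))) = _
  ring

theorem MM01 (h : IsAlt φ) (x : Fin 7 → R) :
    MM φ x 0 1 = x 2 * φ 0 1 2 + x 3 * φ 0 1 3 + x 4 * φ 0 1 4 + x 5 * φ 0 1 5 + x 6 * φ 0 1 6 := by
  rw [MM_apply, h.self 0 1, h.z13 1 0, h.rot 2 0 1, h.rot 3 0 1, h.rot 4 0 1, h.rot 5 0 1, h.rot 6 0 1]; ring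

theorem MM02 (h : IsAlt φ) (x : Fin 7 → R) :
    MM φ x 0 2 = - x 1 * φ 0 1 2 + x 3 * φ 0 2 3 + x 4 * φ 0 2 4 + x 5 * φ 0 2 5 + x 6 * φ 0 2 6 := by
  rw [MM_apply, h.self 0 2, h.swap12 1 0 2, h.z13 2 0, h.rot 3 0 2, h.rot 4 0 2, h.rot 5 0 2, h.rot 6 0 2]; ring

theorem MM03 (h : IsAlt φ) (x : Fin 7 → R) :
    MM φ x 0 3 = - x 1 * φ 0 1 3 - x 2 * φ 0 2 3 + x 4 * φ 0 3 4 + x 5 * φ 0 3 5 + x 6 * φ 0 3 6 := by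
  rw [MM_apply, h.self 0 3, h.swap12 1 0 3, h.swap12 2 0 3, h.z13 3 0, h.rot 4 0 3, h.rot 5 0 3, h.rot 6 0 3]; ring

theorem MM04 (h : IsAlt φ) (x : Fin 7 → R) :
    MM φ x 0 4 = - x 1 * φ 0 1 4 - x 2 * φ 0 2 4 - x 3 * φ 0 3 4 + x 5 * φ 0 4 5 + x 6 * φ 0 4 6 := by
  rw [MM_apply, h.self 0 4, h.swap12 1 0 4, h.swap12 2 0 4, h.swap12 3 0 4, h.z13 4 0, h.rot 5 0 4, h.rot 6 0 4]; ring

theorem MM05 (h : IsAlt φ) (x : Fin 7 → R) :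
    MM φ x 0 5 = - x 1 * φ 0 1 5 - x 2 * φ 0 2 5 - x 3 * φ 0 3 5 - x 4 * φ 0 4 5 + x 6 * φ 0 5 6 := by
  rw [MM_apply, h.self 0 5, h.swap12 1 0 5, h.swap12 2 0 5, h.swap12 3 0 5, h.swap12 4 0 5, h.z13 5 0, h.rot 6 0 5]; ring

theorem MM06 (h : IsAlt φ) (x : Fin 7 → R) :
    MM φ x 0 6 = - x 1 * φ 0 1 6 - x 2 * φ 0 2 6 - x 3 * φ 0 3 6 - x 4 * φ 0 4 6 - x 5 * φ 0 5 6 := by
  rw [MM_apply, h.self 0 6, h.swap12 1 0 6, h.swap12 2 0 6, h.swap12 3 0 6, h.swap12 4 0 6, h.swap12 5 0 6, h.z13 6 0]; ring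

theorem MM12 (h : IsAlt φ) (x : Fin 7 → R) :
    MM φ x 1 2 = x 0 * φ 0 1 2 + x 3 * φ 1 2 3 + x 4 * φ 1 2 4 + x 5 * φ 1 2 5 + x 6 * φ 1 2 6 := by
  rw [MM_apply, h.self 1 2, h.z13 2 1, h.rot 3 1 2, h.rot 4 1 2, h.rot 5 1 2, h.rot 6 1 2]; ring

theorem MM13 (h : IsAlt φ) (x : Fin 7 → R) :
    MM φ x 1 3 = x 0 * φ 0 1 3 - x 2 * φ 1 2 3 + x 4 * φ 1 3 4 + x 5 * φ 1 3 5 + x 6 * φ 1 3 6 := by
  rw [MM_apply, h.self 1 3, h.swap12 2 1 3, h.z13 3 1, h.rot 4 1 3, h.rot 5 1 3, h.rot 6 1 3]; ring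

theorem MM14 (h : IsAlt φ) (x : Fin 7 → R) :
    MM φ x 1 4 = x 0 * φ 0 1 4 - x 2 * φ 1 2 4 - x 3 * φ 1 3 4 + x 5 * φ 1 4 5 + x 6 * φ 1 4 6 := by
  rw [MM_apply, h.self 1 4, h.swap12 2 1 4, h.swap12 3 1 4, h.z13 4 1, h.rot 5 1 4, h.rot 6 1 4]; ring

theorem MM15 (h : IsAlt φ) (x : Fin 7 → R) :
    MM φ x 1 5 = x 0 * φ 0 1 5 - x 2 * φ 1 2 5 - x 3 * φ 1 3 5 - x 4 * φ 1 4 5 + x 6 * φ 1 5 6 := by
  rw [MM_apply, h.self 1 5, h.swap12 2 1 5, h.swap12 3 1 5, h.swap12 4 1 5, h.z13 5 1, h.rot 6 1 5]; ring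

theorem MM16 (h : IsAlt φ) (x : Fin 7 → R) :
    MM φ x 1 6 = x 0 * φ 0 1 6 - x 2 * φ 1 2 6 - x 3 * φ 1 3 6 - x 4 * φ 1 4 6 - x 5 * φ 1 5 6 := by
  rw [MM_apply, h.self 1 6, h.swap12 2 1 6, h.swap12 3 1 6, h.swap12 4 1 6, h.swap12 5 1 6, h.z13 6 1]; ring

theorem MM23 (h : IsAlt φ) (x : Fin 7 → R) :
    MM φ x 2 3 = x 0 * φ 0 2 3 + x 1 * φ 1 2 3 + x 4 * φ 2 3 4 + x 5 * φ 2 3 5 + x 6 * φ 2 3 6 := by
  rw [MM_apply, h.self 2 3, h.z13 3 2, h.rot 4 2 3, h.rot 5 2 3, h.rot 6 2 3]; ring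

theorem MM24 (h : IsAlt φ) (x : Fin 7 → R) :
    MM φ x 2 4 = x 0 * φ 0 2 4 + x 1 * φ 1 2 4 - x 3 * φ 2 3 4 + x 5 * φ 2 4 5 + x 6 * φ 2 4 6 := by
  rw [MM_apply, h.self 2 4, h.swap12 3 2 4, h.z13 4 2, h.rot 5 2 4, h.rot 6 2 4]; ring

theorem MM25 (h : IsAlt φ) (x : Fin 7 → R) :
    MM φ x 2 5 = x 0 * φ 0 2 5 + x 1 * φ 1 2 5 - x 3 * φ 2 3 5 - x 4 * φ 2 4 5 + x 6 * φ 2 5 6 := by
  rw [MM_apply, h.self 2 5, h.swap12 3 2 5, h.swap12 4 2 5, h.z13 5 2, h.rot 6 2 5]; ring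

theorem MM26 (h : IsAlt φ) (x : Fin 7 → R) :
    MM φ x 2 6 = x 0 * φ 0 2 6 + x 1 * φ 1 2 6 - x 3 * φ 2 3 6 - x 4 * φ 2 4 6 - x 5 * φ 2 5 6 := by
  rw [MM_apply, h.self 2 6, h.swap12 3 2 6, h.swap12 4 2 6, h.swap12 5 2 6, h.z13 6 2]; ring

theorem MM34 (h : IsAlt φ) (x : Fin 7 → R) :
    MM φ x 3 4 = x 0 * φ 0 3 4 + x 1 * φ 1 3 4 + x 2 * φ 2 3 4 + x 5 * φ 3 4 5 + x 6 * φ 3 4 6 := by
  rw [MM_apply, h.self 3 4, h.z13 4 3, h.rot 5 3 4, h.rot 6 3 4]; ring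

theorem MM35 (h : IsAlt φ) (x : Fin 7 → R) :
    MM φ x 3 5 = x 0 * φ 0 3 5 + x 1 * φ 1 3 5 + x 2 * φ 2 3 5 - x 4 * φ 3 4 5 + x 6 * φ 3 5 6 := by
  rw [MM_apply, h.self 3 5, h.swap12 4 3 5, h.z13 5 3, h.rot 6 3 5]; ring

theorem MM36 (h : IsAlt φ) (x : Fin 7 → R) :
    MM φ x 3 6 = x 0 * φ 0 3 6 + x 1 * φ 1 3 6 + x 2 * φ 2 3 6 - x 4 * φ 3 4 6 - x 5 * φ 3 5 6 := by
  rw [MM_apply, h.self 3 6, h.swap12 4 3 6, h.swap12 5 3 6, h.z13 6 3]; ring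

theorem MM45 (h : IsAlt φ) (x : Fin 7 → R) :
    MM φ x 4 5 = x 0 * φ 0 4 5 + x 1 * φ 1 4 5 + x 2 * φ 2 4 5 + x 3 * φ 3 4 5 + x 6 * φ 4 5 6 := by
  rw [MM_apply, h.self 4 5, h.z13 5 4, h.rot 6 4 5]; ring

theorem MM46 (h : IsAlt φ) (x : Fin 7 → R) :
    MM φ x 4 6 = x 0 * φ 0 4 6 + x 1 * φ 1 4 6 + x 2 * φ 2 4 6 + x 3 * φ 3 4 6 - x 5 * φ 4 5 6 := by
  rw [MM_apply, h.self 4 6, h.swap12 5 4 6, h.z13 6 4]; ring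

theorem MM56 (h : IsAlt φ) (x : Fin 7 → R) :
    MM φ x 5 6 = x 0 * φ 0 5 6 + x 1 * φ 1 5 6 + x 2 * φ 2 5 6 + x 3 * φ 3 5 6 + x 4 * φ 4 5 6 := by
  rw [MM_apply, h.self 5 6, h.z13 6 5]; ring

theorem Phi12 (h : IsAlt φ) (x : Fin 7 → R) :
    Phi φ x 1 2 = x 3 * φ 1 2 3 + x 4 * φ 1 2 4 + x 5 * φ 1 2 5 + x 6 * φ 1 2 6 := by
  rw [Phi_apply, h.self 1 2, h.z13 2 1, h.rot 3 1 2, h.rot 4 1 2, h.rot 5 1 2, h.rot 6 1 2]; ring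

theorem Phi13 (h : IsAlt φ) (x : Fin 7 → R) :
    Phi φ x 1 3 = - x 2 * φ 1 2 3 + x 4 * φ 1 3 4 + x 5 * φ 1 3 5 + x 6 * φ 1 3 6 := by
  rw [Phi_apply, h.self 1 3, h.swap12 2 1 3, h.z13 3 1, h.rot 4 1 3, h.rot 5 1 3, h.rot 6 1 3]; ring

theorem Phi14 (h : IsAlt φ) (x : Fin 7 → R) :
    Phi φ x 1 4 = - x 2 * φ 1 2 4 - x 3 * φ 1 3 4 + x 5 * φ 1 4 5 + x 6 * φ 1 4 6 := by
  rw [Phi_apply, h.self 1 4, h.swap12 2 1 4, h.swap12 3 1 4, h.z13 4 1, h.rot 5 1 4, h.rot 6 1 4]; ring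

theorem Phi15 (h : IsAlt φ) (x : Fin 7 → R) :
    Phi φ x 1 5 = - x 2 * φ 1 2 5 - x 3 * φ 1 3 5 - x 4 * φ 1 4 5 + x 6 * φ 1 5 6 := by
  rw [Phi_apply, h.self 1 5, h.swap12 2 1 5, h.swap12 3 1 5, h.swap12 4 1 5, h.z13 5 1, h.rot 6 1 5]; ring

theorem Phi16 (h : IsAlt φ) (x : Fin 7 → R) :
    Phi φ x 1 6 = - x 2 * φ 1 2 6 - x 3 * φ 1 3 6 - x 4 * φ 1 4 6 - x 5 * φ 1 5 6 := by
  rw [Phi_apply, h.self 1 6, h.swap12 2 1 6, h.swap12 3 1 6, h.swap12 4 1 6, h.swap12 5 1 6, h.z13 6 1]; ring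

theorem Phi23 (h : IsAlt φ) (x : Fin 7 → R) :
    Phi φ x 2 3 = x 1 * φ 1 2 3 + x 4 * φ 2 3 4 + x 5 * φ 2 3 5 + x 6 * φ 2 3 6 := by
  rw [Phi_apply, h.self 2 3, h.z13 3 2, h.rot 4 2 3, h.rot 5 2 3, h.rot 6 2 3]; ring

theorem Phi24 (h : IsAlt φ) (x : Fin 7 → R) :
    Phi φ x 2 4 = x 1 * φ 1 2 4 - x 3 * φ 2 3 4 + x 5 * φ 2 4 5 + x 6 * φ 2 4 6 := by
  rw [Phi_apply, h.self 2 4, h.swap12 3 2 4, h.z13 4 2, h.rot 5 2 4, h.rot 6 2 4]; ring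

theorem Phi25 (h : IsAlt φ) (x : Fin 7 → R) :
    Phi φ x 2 5 = x 1 * φ 1 2 5 - x 3 * φ 2 3 5 - x 4 * φ 2 4 5 + x 6 * φ 2 5 6 := by
  rw [Phi_apply, h.self 2 5, h.swap12 3 2 5, h.swap12 4 2 5, h.z13 5 2, h.rot 6 2 5]; ring

theorem Phi26 (h : IsAlt φ) (x : Fin 7 → R) :
    Phi φ x 2 6 = x 1 * φ 1 2 6 - x 3 * φ 2 3 6 - x 4 * φ 2 4 6 - x 5 * φ 2 5 6 := by
  rw [Phi_apply, h.self 2 6, h.swap12 3 2 6, h.swap12 4 2 6, h.swap12 5 2 6, h.z13 6 2]; ring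

theorem Phi34 (h : IsAlt φ) (x : Fin 7 → R) :
    Phi φ x 3 4 = x 1 * φ 1 3 4 + x 2 * φ 2 3 4 + x 5 * φ 3 4 5 + x 6 * φ 3 4 6 := by
  rw [Phi_apply, h.self 3 4, h.z13 4 3, h.rot 5 3 4, h.rot 6 3 4]; ring

theorem Phi35 (h : IsAlt φ) (x : Fin 7 → R) :
    Phi φ x 3 5 = x 1 * φ 1 3 5 + x 2 * φ 2 3 5 - x 4 * φ 3 4 5 + x 6 * φ 3 5 6 := by
  rw [Phi_apply, h.self 3 5, h.swap12 4 3 5, h.z13 5 3, h.rot 6 3 5]; ring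

theorem Phi36 (h : IsAlt φ) (x : Fin 7 → R) :
    Phi φ x 3 6 = x 1 * φ 1 3 6 + x 2 * φ 2 3 6 - x 4 * φ 3 4 6 - x 5 * φ 3 5 6 := by
  rw [Phi_apply, h.self 3 6, h.swap12 4 3 6, h.swap12 5 3 6, h.z13 6 3]; ring

theorem Phi45 (h : IsAlt φ) (x : Fin 7 → R) :
    Phi φ x 4 5 = x 1 * φ 1 4 5 + x 2 * φ 2 4 5 + x 3 * φ 3 4 5 + x 6 * φ 4 5 6 := by
  rw [Phi_apply, h.self 4 5, h.z13 5 4, h.rot 6 4 5]; ring

theorem Phi46 (h : IsAlt φ) (x : Fin 7 → R) :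
    Phi φ x 4 6 = x 1 * φ 1 4 6 + x 2 * φ 2 4 6 + x 3 * φ 3 4 6 - x 5 * φ 4 5 6 := by
  rw [Phi_apply, h.self 4 6, h.swap12 5 4 6, h.z13 6 4]; ring

theorem Phi56 (h : IsAlt φ) (x : Fin 7 → R) :
    Phi φ x 5 6 = x 1 * φ 1 5 6 + x 2 * φ 2 5 6 + x 3 * φ 3 5 6 + x 4 * φ 4 5 6 := by
  rw [Phi_apply, h.self 5 6, h.z13 6 5]; ring

theorem omit1 (h : IsAlt φ) (x : Fin 7 → R) :
    pf6 (MM φ x) 0 2 3 4 5 6 = -(x 1 * qf φ x) := by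
  simp only [qf, pf21, pf6, pf4, MM02 h, MM03 h, MM04 h, MM05 h, MM06 h, MM23 h, MM24 h, MM25 h, MM26 h, MM34 h, MM35 h, MM36 h, MM45 h, MM46 h, MM56 h,
    Phi12 h, Phi13 h, Phi14 h, Phi15 h, Phi16 h, Phi23 h, Phi24 h, Phi25 h, Phi26 h, Phi34 h, Phi35 h, Phi36 h, Phi45 h, Phi46 h, Phi56 h]
  ring

theorem omit2 (h : IsAlt φ) (x : Fin 7 → R) :
    pf6 (MM φ x) 0 1 3 4 5 6 = (x 2 * qf φ x) := by
  simp only [qf, pf21, pf6, pf4, MM01 h, MM03 h, MM04 h, MM05 h, MM06 h, MM13 h, MM14 h, MM15 h, MM16 h, MM34 h, MM35 h, MM36 h, MM45 h, MM46 h, MM56 h,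
    Phi12 h, Phi13 h, Phi14 h, Phi15 h, Phi16 h, Phi23 h, Phi24 h, Phi25 h, Phi26 h, Phi34 h, Phi35 h, Phi36 h, Phi45 h, Phi46 h, Phi56 h]
  ring

theorem omit3 (h : IsAlt φ) (x : Fin 7 → R) :
    pf6 (MM φ x) 0 1 2 4 5 6 = -(x 3 * qf φ x) := by
  simp only [qf, pf21, pf6, pf4, MM01 h, MM02 h, MM04 h, MM05 h, MM06 h, MM12 h, MM14 h, MM15 h, MM16 h, MM24 h, MM25 h, MM26 h, MM45 h, MM46 h, MM56 h,
    Phi12 h, Phi13 h, Phi14 h, Phi15 h, Phi16 h, Phi23 h, Phi24 h, Phi25 h, Phi26 h, Phi34 h, Phi35 h, Phi36 h, Phi45 h, Phi46 h, Phi56 h]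
  ring

theorem omit4 (h : IsAlt φ) (x : Fin 7 → R) :
    pf6 (MM φ x) 0 1 2 3 5 6 = (x 4 * qf φ x) := by
  simp only [qf, pf21, pf6, pf4, MM01 h, MM02 h, MM03 h, MM05 h, MM06 h, MM12 h, MM13 h, MM15 h, MM16 h, MM23 h, MM25 h, MM26 h, MM35 h, MM36 h, MM56 h,
    Phi12 h, Phi13 h, Phi14 h, Phi15 h, Phi16 h, Phi23 h, Phi24 h, Phi25 h, Phi26 h, Phi34 h, Phi35 h, Phi36 h, Phi45 h, Phi46 h, Phi56 h]
  ring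

theorem omit5 (h : IsAlt φ) (x : Fin 7 → R) :
    pf6 (MM φ x) 0 1 2 3 4 6 = -(x 5 * qf φ x) := by
  simp only [qf, pf21, pf6, pf4, MM01 h, MM02 h, MM03 h, MM04 h, MM06 h, MM12 h, MM13 h, MM14 h, MM16 h, MM23 h, MM24 h, MM26 h, MM34 h, MM36 h, MM46 h,
    Phi12 h, Phi13 h, Phi14 h, Phi15 h, Phi16 h, Phi23 h, Phi24 h, Phi25 h, Phi26 h, Phi34 h, Phi35 h, Phi36 h, Phi45 h, Phi46 h, Phi56 h]
  ring

theorem omit6 (h : IsAlt φ) (x : Fin 7 → R) :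
    pf6 (MM φ x) 0 1 2 3 4 5 = (x 6 * qf φ x) := by
  simp only [qf, pf21, pf6, pf4, MM01 h, MM02 h, MM03 h, MM04 h, MM05 h, MM12 h, MM13 h, MM14 h, MM15 h, MM23 h, MM24 h, MM25 h, MM34 h, MM35 h, MM45 h,
    Phi12 h, Phi13 h, Phi14 h, Phi15 h, Phi16 h, Phi23 h, Phi24 h, Phi25 h, Phi26 h, Phi34 h, Phi35 h, Phi36 h, Phi45 h, Phi46 h, Phi56 h]
  ring

theorem MM_eq (x : Fin 7 → R) (i j : Fin 7) : MM φ x i j = x 0 * φ 0 i j + Phi φ x i j := by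
  rw [MM_apply, Phi_apply]; ring

theorem pf6_Phi (h : IsAlt φ) (x : Fin 7 → R) : pf6 (Phi φ x) 1 2 3 4 5 6 = 0 := by
  simp only [pf6, pf4, Phi12 h, Phi13 h, Phi14 h, Phi15 h, Phi16 h, Phi23 h, Phi24 h, Phi25 h,
    Phi26 h, Phi34 h, Phi35 h, Phi36 h, Phi45 h, Phi46 h, Phi56 h]
  ring

theorem omit0 (h : IsAlt φ) (x : Fin 7 → R) :
    pf6 (MM φ x) 1 2 3 4 5 6 = x 0 * qf φ x := by
  have e : MM φ x = fun i j => x 0 * φ 0 i j + Phi φ x i j := by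
    ext i j; exact MM_eq x i j
  rw [e, pf6_add (fun i j => x 0 * φ 0 i j), pf6_Phi h, pf6_smul, qf]
  simp only [pf21, pf4]
  ring

/-- the Pfaffian of `MM φ x` with row and column `k` omitted -/
theorem pf6_omit (h : IsAlt φ) (x : Fin 7 → R) (k : Fin 7) :
    pf6 (MM φ x) (k.succAbove 0) (k.succAbove 1) (k.succAbove 2) (k.succAbove 3)
      (k.succAbove 4) (k.succAbove 5) = (-1) ^ (k : ℕ) * (x k * qf φ x) := by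
  fin_cases k
  · exact (omit0 h x).trans (show x 0 * qf φ x = (-1) ^ 0 * (x 0 * qf φ x) by ring)
  · exact (omit1 h x).trans (show -(x 1 * qf φ x) = (-1) ^ 1 * (x 1 * qf φ x) by ring)
  · exact (omit2 h x).trans (show x 2 * qf φ x = (-1) ^ 2 * (x 2 * qf φ x) by ring)
  · exact (omit3 h x).trans (show -(x 3 * qf φ x) = (-1) ^ 3 * (x 3 * qf φ x) by ring)
  · exact (omit4 h x).trans (show x 4 * qf φ x = (-1) ^ 4 * (x 4 * qf φ x) by ring)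
  · exact (omit5 h x).trans (show -(x 5 * qf φ x) = (-1) ^ 5 * (x 5 * qf φ x) by ring)
  · exact (omit6 h x).trans (show x 6 * qf φ x = (-1) ^ 6 * (x 6 * qf φ x) by ring)

theorem Phi_add (x y : Fin 7 → R) (i j : Fin 7) : Phi φ (x + y) i j = Phi φ x i j + Phi φ y i j := by
  simp only [Phi_apply, Pi.add_apply]; ring

theorem Phi_smul (t : R) (x : Fin 7 → R) (i j : Fin 7) : Phi φ (t • x) i j = t * Phi φ x i j := by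
  simp only [Phi_apply, Pi.smul_apply, smul_eq_mul]; ring

/-- the quadratic form of an alternating function of three indices -/
def qform (φ : Fin 7 → Fin 7 → Fin 7 → R) : QuadraticForm R (Fin 7 → R) :=
  QuadraticMap.ofPolar (qf φ)
    (fun t x => by
      simp only [qf, pf21, pf4, Phi_smul, Pi.smul_apply, smul_eq_mul]; ring)
    (fun x x' y => by
      simp only [QuadraticMap.polar, qf, pf21, pf4, Phi_add, Pi.add_apply]; ring)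
    (fun t x y => by
      simp only [QuadraticMap.polar, qf, pf21, pf4, Phi_add, Phi_smul, Pi.add_apply, Pi.smul_apply,
        smul_eq_mul]; ring)

@[simp] theorem qform_apply (x : Fin 7 → R) : qform φ x = qf φ x := rfl

end Cfsg.Agent.H179.G2
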