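import Cfsg.Agent.H179.G2Null

/-!
# An alternating 3-form in dimension 7 without radical has a nonzero quadratic form (finite fields)
-/

namespace Cfsg.Agent.H179.G2

open QuadraticMap Module

variable {F V : Type*} [Field F] [AddCommGroup V] [Module F V]

/-- the mixed part of `pf4` -/
def mix4 (A B : V → V → F) (a b c d : V) : F :=
  A a b * B c d - A a c * B b d + A a d * B b c + B a b * A c d - B a c * A b d + B a d * A b c

omit [AddCommGroup V] [Module F V] in
theorem pf4_add (A B : V → V → F) (t : F) (a b c d : V) :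
    pf4 (fun u v => A u v + t * B u v) a b c d =
      pf4 A a b c d + t * mix4 A B a b c d + t ^ 2 * pf4 B a b c d := by
  simp only [pf4, mix4]; ring

/-- a form with a nonzero Pfaffian of size four has a radical of codimension at least four -/
theorem ker_le_of_pf4 (w : V →ₗ[F] V →ₗ[F] F) (h : ∀ u, w u u = 0) (hfr : finrank F V = 7)
    {a b c d : V} (hp : pf4 (fun u v => w u v) a b c d ≠ 0) : finrank F (LinearMap.ker w) ≤ 3 := by
  have : FiniteDimensional F V := Module.finite_of_finrank_pos (by omega)
  have hs : ∀ u v, w u v = - w v u := by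
    intro u v
    have := h (u + v)
    simp only [map_add, LinearMap.add_apply, h, zero_add, add_zero] at this
    exact eq_neg_of_add_eq_zero_right this
  let T : V →ₗ[F] (Fin 4 → F) := LinearMap.pi ![w.flip a, w.flip b, w.flip c, w.flip d]
  have hle : LinearMap.ker w ≤ LinearMap.ker T := by
    intro u hu
    have hu' : w u = 0 := hu
    rw [LinearMap.mem_ker]
    funext i
    fin_cases i
    · change w u a = 0; rw [hu']; rfl
    · change w u b = 0; rw [hu']; rfl
    · change w u c = 0; rw [hu']; rfl
    · change w u d = 0; rw [hu']; rfl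
  have hsurj : LinearMap.range T = ⊤ := by
    have hli : LinearIndependent F ![T a, T b, T c, T d] := by
      rw [Fintype.linearIndependent_iff]
      intro g hg
      simp only [Fin.sum_univ_succ, Fin.sum_univ_zero, Matrix.cons_val_zero, Matrix.cons_val_succ,
        add_zero] at hg
      have e0 : g 0 * w a a + (g 1 * w b a + (g 2 * w c a + g 3 * w d a)) = 0 := congrFun hg 0
      have e1 : g 0 * w a b + (g 1 * w b b + (g 2 * w c b + g 3 * w d b)) = 0 := congrFun hg 1
      have e2 : g 0 * w a c + (g 1 * w b c + (g 2 * w c c + g 3 * w d c)) = 0 := congrFun hg 2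
      have e3 : g 0 * w a d + (g 1 * w b d + (g 2 * w c d + g 3 * w d d)) = 0 := congrFun hg 3
      rw [h, hs b a, hs c a, hs d a] at e0
      rw [h, hs c b, hs d b] at e1
      rw [h, hs d c] at e2
      rw [h] at e3
      simp only [pf4] at hp
      have k0 : g 0 = 0 := by
        refine (mul_eq_zero.1 (?_ : g 0 * (w a b * w c d - w a c * w b d + w a d * w b c) = 0)).resolve_right hp
        linear_combination w c d * e1 - w b d * e2 + w b c * e3
      have k1 : g 1 = 0 := by
        refine (mul_eq_zero.1 (?_ : g 1 * (w a b * w c d - w a c * w b d + w a d * w b c) = 0)).resolve_right hp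
        linear_combination -w c d * e0 + w a d * e2 - w a c * e3
      have k2 : g 2 = 0 := by
        refine (mul_eq_zero.1 (?_ : g 2 * (w a b * w c d - w a c * w b d + w a d * w b c) = 0)).resolve_right hp
        linear_combination w b d * e0 - w a d * e1 + w a b * e3
      have k3 : g 3 = 0 := by
        refine (mul_eq_zero.1 (?_ : g 3 * (w a b * w c d - w a c * w b d + w a d * w b c) = 0)).resolve_right hp
        linear_combination -w b c * e0 + w a c * e1 - w a b * e2
      intro i
      fin_cases i
      exacts [k0, k1, k2, k3]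
    rw [eq_top_iff, ← hli.span_eq_top_of_card_eq_finrank (by simp), Submodule.span_le]
    rintro _ ⟨i, rfl⟩
    fin_cases i
    exacts [⟨a, rfl⟩, ⟨b, rfl⟩, ⟨c, rfl⟩, ⟨d, rfl⟩]
  have h1 := LinearMap.finrank_range_add_finrank_ker T
  rw [hsurj, finrank_top, Module.finrank_fin_fun] at h1
  have h2 := Submodule.finrank_mono hle
  omega

/-- a nonzero alternating form has a radical of codimension at least two -/
theorem ker_le_of_ne (w : V →ₗ[F] V →ₗ[F] F) (h : ∀ u, w u u = 0) (hfr : finrank F V = 7)
    (hw : w ≠ 0) : finrank F (LinearMap.ker w) ≤ 5 := by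
  have : FiniteDimensional F V := Module.finite_of_finrank_pos (by omega)
  have hs : ∀ u v, w u v = - w v u := by
    intro u v
    have := h (u + v)
    simp only [map_add, LinearMap.add_apply, h, zero_add, add_zero] at this
    exact eq_neg_of_add_eq_zero_right this
  obtain ⟨a, b, hab⟩ : ∃ a b, w a b ≠ 0 := by
    by_contra hc
    push Not at hc
    exact hw (by ext a b; exact hc a b)
  let T : V →ₗ[F] (Fin 2 → F) := LinearMap.pi ![w.flip a, w.flip b]
  have hle : LinearMap.ker w ≤ LinearMap.ker T := by
    intro u hu
    have hu' : w u = 0 := hu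
    rw [LinearMap.mem_ker]
    funext i
    fin_cases i
    · change w u a = 0; rw [hu']; rfl
    · change w u b = 0; rw [hu']; rfl
  have hsurj : LinearMap.range T = ⊤ := by
    have hli : LinearIndependent F ![T a, T b] := by
      rw [Fintype.linearIndependent_iff]
      intro g hg
      simp only [Fin.sum_univ_succ, Fin.sum_univ_zero, Matrix.cons_val_zero, Matrix.cons_val_succ,
        add_zero] at hg
      have e0 : g 0 * w a a + g 1 * w b a = 0 := congrFun hg 0
      have e1 : g 0 * w a b + g 1 * w b b = 0 := congrFun hg 1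
      rw [h, hs b a] at e0
      rw [h] at e1
      have k0 : g 0 = 0 := (mul_eq_zero.1 (by linear_combination e1 : g 0 * w a b = 0)).resolve_right hab
      have k1 : g 1 = 0 := (mul_eq_zero.1 (by linear_combination -e0 : g 1 * w a b = 0)).resolve_right hab
      intro i
      fin_cases i
      exacts [k0, k1]
    rw [eq_top_iff, ← hli.span_eq_top_of_card_eq_finrank (by simp), Submodule.span_le]
    rintro _ ⟨i, rfl⟩
    fin_cases i
    exacts [⟨a, rfl⟩, ⟨b, rfl⟩]
  have h1 := LinearMap.finrank_range_add_finrank_ker T
  rw [hsurj, finrank_top, Module.finrank_fin_fun] at h1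
  have h2 := Submodule.finrank_mono hle
  omega

open Finset in
/-- the counting argument -/
theorem count_aux [Fintype F] [Fintype V] [DecidableEq V] [DecidableEq F] (hfr : finrank F V = 7)
    (h2 : (2 : F) ≠ 0) (f : V →ₗ[F] V →ₗ[F] V →ₗ[F] F) (hz : ∀ x u, f x u u = 0)
    (hrad : ∀ x, f x = 0 → x = 0) (K : Submodule F V) (hK : finrank F K = 3)
    (b : Basis (Fin 3) F K) (p : V → F) (hp0 : p (b 0) ≠ 0)
    (hpb : ∀ y : V, ∃ m : F, ∀ t : F, p (y + t • (b 0 : V)) = p y + t * m + t ^ 2 * p (b 0))
    (hker : ∀ y ∈ K, p y ≠ 0 → LinearMap.ker (f y) = K) (hle : ∀ y ∈ K, K ≤ LinearMap.ker (f y))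
    (hdet : ∀ z, ∃ y ∈ K, y ≠ 0 ∧ f y z = 0) : False := by
  classical
  have : FiniteDimensional F V := Module.finite_of_finrank_pos (by omega)
  set q := Fintype.card F with hq
  have hq3 : 3 ≤ q := by
    have h1 : 1 < q := Fintype.one_lt_card
    have h3 : q ≠ 2 := by
      intro h
      apply h2
      have := Nat.cast_card_eq_zero F
      rw [← hq, h] at this
      exact_mod_cast this
    omega
  have hcard : ∀ W : Submodule F V, #{z : V | z ∈ W} = q ^ finrank F W := by
    intro W
    rw [hq, ← Module.card_eq_pow_finrank (K := F) (V := W), Fintype.card_subtype]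
  have hpne : ∀ z ∉ K, ∀ y ∈ K, f y z = 0 → p y = 0 := by
    intro z hz y hy hyz
    by_contra h
    apply hz
    rw [← hker y hy h]
    exact hyz
  set S : Finset V := {z : V | z ∉ K} with hS
  have hScard : #S + q ^ 3 = q ^ 7 := by
    have h1 := Finset.card_filter_add_card_filter_not (s := (Finset.univ : Finset V)) (fun z => z ∈ K)
    rw [hcard K, hK, Finset.card_univ, Module.card_eq_pow_finrank (K := F) (V := V), hfr, ← hq] at h1
    rw [hS]; omega
  set t : Finset K := {y : K | y ≠ 0 ∧ p y = 0} with ht
  -- bound for `t`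
  have htcard : #t ≤ 2 * q ^ 2 := by
    let g : K → F × F := fun y => (b.repr y 1, b.repr y 2)
    have h1 := Finset.card_le_mul_card_image (f := g) t 2 (by
      intro c _
      by_contra hc
      push Not at hc
      obtain ⟨y, y', y'', hy, hy', hy'', n1, n2, n3⟩ := Finset.two_lt_card_iff.1 hc
      simp only [ht, Finset.mem_filter, Finset.mem_univ, true_and, g] at hy hy' hy''
      have hdiff : ∀ u v : K, (b.repr u 1, b.repr u 2) = c → (b.repr v 1, b.repr v 2) = c →
          (v : V) = (u : V) + (b.repr v 0 - b.repr u 0) • (b 0 : V) := by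
        intro u v hu hv
        have hu1 := congrArg Prod.fst (hu.trans hv.symm)
        have hu2 := congrArg Prod.snd (hu.trans hv.symm)
        simp only at hu1 hu2
        have e1 := b.sum_repr u
        have e2 := b.sum_repr v
        rw [Fin.sum_univ_three] at e1 e2
        rw [hu1, hu2] at e1
        have e3 : v = u + (b.repr v 0 - b.repr u 0) • b 0 := by
          conv_lhs => rw [← e2]
          conv_rhs => rw [← e1]
          simp only [map_add, map_smul, Finsupp.add_apply, Finsupp.smul_apply, Basis.repr_self,
            smul_eq_mul]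
          simp [sub_smul]
          abel
        have e4 := congrArg Subtype.val e3
        exact e4
      obtain ⟨m, hm⟩ := hpb y
      have e1 := hdiff y y' hy.2 hy'.2
      have e2 := hdiff y y'' hy.2 hy''.2
      have f1 := hm (b.repr y' 0 - b.repr y 0)
      have f2 := hm (b.repr y'' 0 - b.repr y 0)
      rw [← e1, hy'.1.2, hy.1.2, zero_add] at f1
      rw [← e2, hy''.1.2, hy.1.2, zero_add] at f2
      have s1 : b.repr y' 0 - b.repr y 0 ≠ 0 := by
        intro h
        rw [h, zero_smul, add_zero] at e1
        exact n1 (Subtype.ext e1.symm)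
      have s2 : b.repr y'' 0 - b.repr y 0 ≠ 0 := by
        intro h
        rw [h, zero_smul, add_zero] at e2
        exact n2 (Subtype.ext e2.symm)
      have g1 : m + (b.repr y' 0 - b.repr y 0) * p (b 0) = 0 :=
        (mul_eq_zero.1 (by linear_combination -f1 :
          (b.repr y' 0 - b.repr y 0) * (m + (b.repr y' 0 - b.repr y 0) * p (b 0)) = 0)).resolve_left s1
      have g2 : m + (b.repr y'' 0 - b.repr y 0) * p (b 0) = 0 :=
        (mul_eq_zero.1 (by linear_combination -f2 :
          (b.repr y'' 0 - b.repr y 0) * (m + (b.repr y'' 0 - b.repr y 0) * p (b 0)) = 0)).resolve_left s2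
      have g3 : (b.repr y' 0 - b.repr y 0) = (b.repr y'' 0 - b.repr y 0) :=
        mul_right_cancel₀ hp0 (by linear_combination g1 - g2)
      apply n3
      apply Subtype.ext
      rw [e1, e2, g3])
    refine h1.trans ?_
    have h2' := Finset.card_le_univ (t.image g)
    rw [Fintype.card_prod, ← hq] at h2'
    calc 2 * #(t.image g) ≤ 2 * (q * q) := Nat.mul_le_mul_left 2 h2'
      _ = 2 * q ^ 2 := by ring
  -- double counting
  have hmain : #S * (q - 1) ≤ #t * (q ^ 5 - q ^ 3) := by
    refine Finset.card_mul_le_card_mul (fun z (y : K) => f (y : V) z = 0) ?_ ?_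
    · intro z hz
      have hzK : z ∉ K := by simpa [hS] using hz
      obtain ⟨y0, hy0K, hy0, hy0z⟩ := hdet z
      have h1 : #({c : F | c ≠ 0} : Finset F) = q - 1 := by
        rw [Finset.filter_ne' (s := (Finset.univ : Finset F)) 0, Finset.card_erase_of_mem (Finset.mem_univ _),
          Finset.card_univ]
      rw [← h1]
      refine Finset.card_le_card_of_injOn (fun c => c • (⟨y0, hy0K⟩ : K)) ?_ ?_
      · intro c hc
        have hc0 : c ≠ 0 := by simpa using hc
        have hfz : f (c • y0) z = 0 := by rw [map_smul, LinearMap.smul_apply, hy0z, smul_zero]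
        rw [Finset.mem_coe, Finset.bipartiteAbove, Finset.mem_filter, ht, Finset.mem_filter]
        refine ⟨⟨Finset.mem_univ _, ?_, ?_⟩, hfz⟩
        · intro h
          have := congrArg Subtype.val h
          exact smul_ne_zero hc0 hy0 this
        · exact hpne z hzK _ (K.smul_mem c hy0K) hfz
      · intro c _ c' _ hcc
        have := congrArg Subtype.val hcc
        exact smul_left_injective F hy0 this
    · intro y hy
      have hy' : y ≠ 0 ∧ p y = 0 := by simpa [ht] using hy
      have hfy : f (y : V) ≠ 0 := fun h => hy'.1 (Subtype.ext (hrad _ h))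
      have h5 := ker_le_of_ne (f (y : V)) (hz y) hfr hfy
      have h6 := hcard (LinearMap.ker (f (y : V)))
      have h7 : q ^ finrank F (LinearMap.ker (f (y : V))) ≤ q ^ 5 := Nat.pow_le_pow_right (by omega) h5
      have h8 : #(S.bipartiteBelow (fun z (y : K) => f (y : V) z = 0) y) + #{z : V | z ∈ K} =
          #{z : V | z ∈ LinearMap.ker (f (y : V))} := by
        rw [← Finset.card_union_of_disjoint]
        · congr 1
          ext z
          simp only [Finset.bipartiteBelow, hS, Finset.mem_union, Finset.mem_filter, Finset.mem_univ,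
            true_and, LinearMap.mem_ker]
          constructor
          · rintro (h | h)
            · exact h.2
            · exact hle y y.2 h
          · intro h
            by_cases hzK : z ∈ K
            · exact Or.inr hzK
            · exact Or.inl ⟨hzK, h⟩
        · rw [Finset.disjoint_left]
          intro z h1 h2
          simp only [Finset.bipartiteBelow, hS, Finset.mem_filter, Finset.mem_univ, true_and] at h1 h2
          exact h1.1 h2
      rw [hcard K, hK, h6] at h8
      omega
  have h9 := hmain.trans (Nat.mul_le_mul_right _ htcard)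
  obtain ⟨u, hu⟩ : ∃ u, q = u + 3 := ⟨q - 3, by omega⟩
  have h10 : #S = (u + 3) ^ 7 - (u + 3) ^ 3 := by rw [← hu]; omega
  have h35 : (u + 3) ^ 3 ≤ (u + 3) ^ 5 := Nat.pow_le_pow_right (by omega) (by norm_num)
  have h37 : (u + 3) ^ 3 ≤ (u + 3) ^ 7 := Nat.pow_le_pow_right (by omega) (by norm_num)
  rw [h10, hu] at h9
  have h11 : u + 3 - 1 = u + 2 := by omega
  rw [h11] at h9
  zify [h35, h37] at h9
  nlinarith [pow_pos (show (0 : ℤ) < u + 3 by positivity) 3, sq_nonneg ((u : ℤ)), h9,
    show (0 : ℤ) ≤ u by positivity, show (0 : ℤ) ≤ (u : ℤ) ^ 2 by positivity,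
    show (0 : ℤ) ≤ (u : ℤ) ^ 3 by positivity, show (0 : ℤ) ≤ (u : ℤ) ^ 4 by positivity,
    show (0 : ℤ) ≤ (u : ℤ) ^ 5 by positivity, show (0 : ℤ) ≤ (u : ℤ) ^ 6 by positivity,
    show (0 : ℤ) ≤ (u : ℤ) ^ 7 by positivity, show (0 : ℤ) ≤ (u : ℤ) ^ 8 by positivity]

variable {e : Basis (Fin 7) F V} {f : V →ₗ[F] V →ₗ[F] V →ₗ[F] F}

/-- an alternating 3-form in dimension 7 over a finite field of odd characteristic whose radical is
zero has a nonzero quadratic form -/
theorem qf_ne [Finite F] (h : IsAltForm f) (h2 : (2 : F) ≠ 0) (hrad : ∀ x, f x = 0 → x = 0) :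
    ∃ x, Qf e f x ≠ 0 := by
  classical
  have hfd : FiniteDimensional F V := e.finiteDimensional_of_finite
  have hfr : finrank F V = 7 := by rw [finrank_eq_card_basis e, Fintype.card_fin]
  by_contra hq
  push Not at hq
  have hpol : ∀ x z, polar (Qf e f) x z = 0 := fun x z => by simp [polar, hq]
  have h6 : ∀ x (c : Fin 6 → V),
      pf6 (fun u v => f x u v) (c 0) (c 1) (c 2) (c 3) (c 4) (c 5) = 0 := fun x c => by
    rw [pf6_eq e h, hq, zero_mul]
  have h21 : ∀ x z (c : Fin 6 → V),
      pf21 (fun u v => f x u v) (fun u v => f z u v) (c 0) (c 1) (c 2) (c 3) (c 4) (c 5) = 0 :=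
    fun x z c => by rw [pf21_eq e h h2, hq, hpol, zero_mul, zero_mul, add_zero]
  by_cases hA : ∃ x0 a b c d, pf4 (fun u v => f x0 u v) a b c d ≠ 0
  · obtain ⟨x0, c1, c2, c3, c4, hp0⟩ := hA
    set K := LinearMap.ker (f x0) with hKdef
    have hK : finrank F K = 3 :=
      le_antisymm (ker_le_of_pf4 (f x0) (h.z23 x0) hfr hp0) (ker_ge hfr (f x0) (h.z23 x0) (h6 x0))
    have hKK : ∀ r ∈ K, ∀ s ∈ K, ∀ z, f z r s = 0 := by
      intro r hr s hs z
      have hr' : f x0 r = 0 := hr
      have hs' : f x0 s = 0 := hs
      have := h21 x0 z ![r, s, c1, c2, c3, c4]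
      simp only [Matrix.cons_val, pf21] at this
      simp only [pf4, hr', hs', LinearMap.zero_apply] at this hp0
      refine (mul_eq_zero.1 (?_ : f z r s * _ = 0)).resolve_right hp0
      linear_combination this
    have hle : ∀ y ∈ K, K ≤ LinearMap.ker (f y) := by
      intro y hy s hs
      rw [LinearMap.mem_ker]
      ext v
      rw [h.rot, h.rot, hKK y hy s hs v]; rfl
    have hx0 : x0 ≠ 0 := by
      rintro rfl
      apply hp0
      simp [pf4]
    have hx0K : x0 ∈ K := by rw [hKdef, LinearMap.mem_ker]; ext v; exact h.self x0 v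
    obtain ⟨v, hv, hv0, hvK⟩ := exists_in hx0K hx0 2 (by rw [hK])
    -- a basis of `K` starting with `x0`
    have hvli : LinearIndependent F (fun i => (⟨v i, hvK i⟩ : K)) := by
      apply LinearIndependent.of_comp K.subtype
      exact hv
    let b : Basis (Fin 3) F K :=
      basisOfLinearIndependentOfCardEqFinrank hvli (by rw [hK, Fintype.card_fin])
    have hb : ∀ i, (b i : V) = v i := by
      intro i
      have : b i = ⟨v i, hvK i⟩ := by
        have := coe_basisOfLinearIndependentOfCardEqFinrank hvli (by rw [hK, Fintype.card_fin])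
        exact congrFun this i
      rw [this]
    have hb0 : (b 0 : V) = x0 := by rw [hb, hv0]
    have hdet : ∀ z, ∃ y ∈ K, y ≠ 0 ∧ f y z = 0 := by
      intro z
      let T : V →ₗ[F] (Fin 3 → F) := LinearMap.pi fun i => f (v i) z
      by_cases hT : LinearMap.range T = ⊤
      · exfalso
        have hex : ∀ j : Fin 3, ∃ w, T w = Pi.single j 1 := fun j =>
          LinearMap.range_eq_top.1 hT _
        choose w hw using hex
        have hval : ∀ i j, f (v i) z (w j) = if i = j then 1 else 0 := by
          intro i j
          have := congrFun (hw j) i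
          rw [Pi.single_apply] at this
          exact this
        have h66 := h6 (x0 + z) ![v 0, v 1, v 2, w 0, w 1, w 2]
        have hv1 : ∀ i, f x0 (v i) = 0 := hvK
        have hv2 : ∀ i j, f z (v i) (v j) = 0 := fun i j => hKK _ (hvK i) _ (hvK j) z
        have hv3 : ∀ i j, f z (v i) (w j) = - if i = j then 1 else 0 := fun i j => by
          rw [h.swap12, hval]
        simp only [Matrix.cons_val, pf6, pf4, map_add, LinearMap.add_apply, hv1, hv2, hv3,
          LinearMap.zero_apply] at h66
        have h01 : ((0 : Fin 3) = 1) = False := by simp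
        have h02 : ((0 : Fin 3) = 2) = False := by simp
        have h10 : ((1 : Fin 3) = 0) = False := by simp
        have h12 : ((1 : Fin 3) = 2) = False := by simp
        have h20 : ((2 : Fin 3) = 0) = False := by simp
        have h21' : ((2 : Fin 3) = 1) = False := by simp
        simp only [h01, h02, h10, h12, h20, h21', if_true, if_false] at h66
        norm_num at h66
      · obtain ⟨φ, hφ, hφr⟩ := Submodule.exists_dual_map_eq_bot_of_lt_top (lt_top_iff_ne_top.2 hT)
          inferInstance
        have h0 : ∀ u, φ (T u) = 0 := by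
          intro u
          have : φ (T u) ∈ (LinearMap.range T).map φ := ⟨_, ⟨u, rfl⟩, rfl⟩
          rw [hφr] at this
          exact (Submodule.mem_bot _).1 this
        refine ⟨∑ i, φ (Pi.single i 1) • v i, K.sum_mem fun i _ => K.smul_mem _ (hvK i), ?_, ?_⟩
        · intro hs
          have h4 := (Fintype.linearIndependent_iff.1 hv) _ hs
          apply hφ
          refine LinearMap.pi_ext' fun i => ?_
          ext
          simpa using h4 i
        · ext u
          rw [map_sum, LinearMap.sum_apply, LinearMap.sum_apply, LinearMap.zero_apply, ← h0 u]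
          have h3 : T u = ∑ i, f (v i) z u • (Pi.single i 1 : Fin 3 → F) := by
            ext j
            simp [T, Finset.sum_apply, Pi.single_apply]
          rw [h3, map_sum]
          refine Finset.sum_congr rfl fun i _ => ?_
          rw [map_smul, map_smul, LinearMap.smul_apply, LinearMap.smul_apply, smul_eq_mul,
            smul_eq_mul, mul_comm]
    cases nonempty_fintype F
    have : Finite V := Module.finite_of_finite F
    cases nonempty_fintype V
    refine count_aux hfr h2 f h.z23 hrad K hK b (fun y => pf4 (fun u v => f y u v) c1 c2 c3 c4)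
      (by rw [hb0]; exact hp0) ?_ ?_ hle hdet
    · intro y
      refine ⟨mix4 (fun u v => f y u v) (fun u v => f x0 u v) c1 c2 c3 c4, fun t => ?_⟩
      rw [hb0, ← pf4_add]
      simp only [map_add, map_smul, LinearMap.add_apply, LinearMap.smul_apply, smul_eq_mul]
    · intro y hy hpy
      have h3 := ker_le_of_pf4 (f y) (h.z23 y) hfr hpy
      exact (Submodule.eq_of_le_of_finrank_le (hle y hy) (by rw [hK]; exact h3)).symm
  · push Not at hA
    obtain ⟨x0, hx0⟩ : ∃ x0, f x0 ≠ 0 := by
      by_contra hc
      push Not at hc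
      exact (e.ne_zero 0) (hrad _ (hc (e 0)))
    obtain ⟨a, b, hab⟩ : ∃ a b, f x0 a b ≠ 0 := by
      by_contra hc
      push Not at hc
      exact hx0 (by ext a b; exact hc a b)
    have hKK : ∀ r, f x0 r = 0 → ∀ s, f x0 s = 0 → ∀ z, f z r s = 0 := by
      intro r hr s hs z
      have h1 := hA (x0 + z) r s a b
      have h3 := hA z r s a b
      simp only [pf4, map_add, LinearMap.add_apply, hr, hs, LinearMap.zero_apply] at h1 h3
      refine (mul_eq_zero.1 (?_ : f z r s * f x0 a b = 0)).resolve_right hab
      linear_combination h1 - h3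
    have hW : ∀ u, f x0 a u = 0 → f x0 b u = 0 → f x0 u = 0 := by
      intro u ha hb
      ext v
      have h1 := hA x0 a b u v
      simp only [pf4, ha, hb] at h1
      refine (mul_eq_zero.1 (?_ : f x0 a b * f x0 u v = 0)).resolve_left hab
      linear_combination h1
    -- a vector in `K` killed by `f · a b`
    let T : V →ₗ[F] (Fin 3 → F) := LinearMap.pi ![f x0 a, f x0 b, f a b]
    have hT := LinearMap.finrank_range_add_finrank_ker T
    have hT2 : finrank F (LinearMap.range T) ≤ 3 := by
      have := Submodule.finrank_le (LinearMap.range T)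
      simpa using this
    have hpos : 0 < finrank F (LinearMap.ker T) := by omega
    obtain ⟨u, hu⟩ := Module.finrank_pos_iff_exists_ne_zero.1 hpos
    obtain ⟨u, huT⟩ := u
    have hu0 : u ≠ 0 := fun h => hu (Subtype.ext h)
    have hua : f x0 a u = 0 := congrFun huT 0
    have hub : f x0 b u = 0 := congrFun huT 1
    have huab : f a b u = 0 := congrFun huT 2
    have huK : f x0 u = 0 := hW u hua hub
    apply hu0
    apply hrad
    have hw : ∀ w, f x0 w = 0 → f u w = 0 := by
      intro w hw
      ext z
      rw [h.rot, h.rot, hKK u huK w hw]; rfl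
    have hab' : f u a b = 0 := by rw [h.rot, huab]
    have hs : f x0 b a = - f x0 a b := h.swap23 _ _ _
    have hdec : ∀ v, ∃ α β : F, ∃ w, f x0 w = 0 ∧ v = α • a + β • b + w := by
      intro v
      refine ⟨-(f x0 b v / f x0 a b), f x0 a v / f x0 a b,
        v - (-(f x0 b v / f x0 a b)) • a - (f x0 a v / f x0 a b) • b, hW _ ?_ ?_, by abel⟩
      · simp only [map_sub, map_smul, smul_eq_mul, h.z23]; field_simp; ring
      · simp only [map_sub, map_smul, smul_eq_mul, h.z23, hs]; field_simp; ring
    ext v v'
    obtain ⟨α, β, w, hwK, rfl⟩ := hdec v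
    obtain ⟨α', β', w', hwK', rfl⟩ := hdec v'
    have e1 : f u a w' = 0 := by rw [h.swap23, hw w' hwK']; simp
    have e2 : f u b w' = 0 := by rw [h.swap23, hw w' hwK']; simp
    have e3 : f u b a = 0 := by rw [h.swap23, hab', neg_zero]
    simp only [map_add, map_smul, LinearMap.add_apply, LinearMap.smul_apply, hw w hwK, e1, e2, e3,
      hab', h.z23, LinearMap.zero_apply, smul_zero, add_zero]

end Cfsg.Agent.H179.G2
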