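import Cfsg.Agent.H179.G2Std

/-!
# The invariant alternating 3-form on binary sextics

`f7` is trilinear on `F^7` and `f7 (P a) (P b) (P c) = 600 [ab]³[bc]³[ca]³`, where `P a` is the
coordinate vector of the sixth power of the linear form with coefficients `a`.
-/

namespace Cfsg.Agent.H179.G2

variable {F : Type*} [Field F]

/-- the 3-form on binary sextics -/
def f7 (x y z : Fin 7 → F) : F :=
  -30 * d3 0 3 6 x y z + 20 * d3 0 4 5 x y z + 20 * d3 1 2 6 x y z - 5 * d3 1 3 5 x y z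
    + 2 * d3 2 3 4 x y z

/-- the 3-form on binary sextics as a trilinear map -/
def f7L (F : Type*) [Field F] : (Fin 7 → F) →ₗ[F] (Fin 7 → F) →ₗ[F] (Fin 7 → F) →ₗ[F] F where
  toFun x := LinearMap.mk₂ F (fun y z => f7 x y z)
    (fun y y' z => by simp only [f7, d3, Pi.add_apply]; ring)
    (fun c y z => by simp only [f7, d3, Pi.smul_apply, smul_eq_mul]; ring)
    (fun y z z' => by simp only [f7, d3, Pi.add_apply]; ring)
    (fun c y z => by simp only [f7, d3, Pi.smul_apply, smul_eq_mul]; ring)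
  map_add' x x' := by
    ext y z
    simp only [LinearMap.mk₂_apply, LinearMap.add_apply, LinearMap.comp_apply, f7, d3, Pi.add_apply]
    ring
  map_smul' c x := by
    ext y z
    simp only [LinearMap.mk₂_apply, LinearMap.smul_apply, LinearMap.comp_apply, f7, d3,
      Pi.smul_apply, smul_eq_mul, RingHom.id_apply]
    ring

@[simp] theorem f7L_apply (x y z : Fin 7 → F) : f7L F x y z = f7 x y z := rfl

theorem f7L_isAlt : IsAltForm (f7L F) :=
  ⟨fun x z => by simp only [f7L_apply, f7, d3]; ring, fun x z => by simp only [f7L_apply, f7, d3]; ring⟩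

/-- the coordinates of the sixth power of a linear form -/
def pc (a b : F) : Fin 7 → F :=
  ![a ^ 6, 6 * a ^ 5 * b, 15 * a ^ 4 * b ^ 2, 20 * a ^ 3 * b ^ 3, 15 * a ^ 2 * b ^ 4,
    6 * a * b ^ 5, b ^ 6]

theorem f7_pc (a1 a2 b1 b2 c1 c2 : F) : f7 (pc a1 a2) (pc b1 b2) (pc c1 c2) =
    600 * (a1 * b2 - a2 * b1) ^ 3 * (b1 * c2 - b2 * c1) ^ 3 * (c1 * a2 - c2 * a1) ^ 3 := by
  simp only [f7, d3, pc, Matrix.cons_val]
  ring

theorem f7L_ne (h : (30 : F) ≠ 0) : f7L F ≠ 0 := by
  intro h0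
  have h1 := congrArg (fun w : (Fin 7 → F) →ₗ[F] (Fin 7 → F) →ₗ[F] (Fin 7 → F) →ₗ[F] F =>
    w (Pi.single 0 1) (Pi.single 3 1) (Pi.single 6 1)) h0
  simp only [f7L_apply, LinearMap.zero_apply, f7, d3] at h1
  simp at h1
  exact h h1

end Cfsg.Agent.H179.G2
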