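import Cfsg.Agent.H179.G2Uniq

/-!
# The stabiliser of a non-degenerate alternating 3-form
-/

namespace Cfsg.Agent.H179.G2

open QuadraticMap Module LieClassical.OrthFinite LieClassical.OrthCore
open scoped Matrix

variable {F V : Type*} [Field F] [AddCommGroup V] [Module F V]

/-- transport of automorphisms along a linear equivalence -/
def cj {W : Type*} [AddCommGroup W] [Module F W] (B : V ≃ₗ[F] W) :
    (W ≃ₗ[F] W) ≃* (V ≃ₗ[F] V) where
  toFun g := (B.trans g).trans B.symm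
  invFun g := (B.symm.trans g).trans B
  left_inv g := by ext x; simp
  right_inv g := by ext x; simp
  map_mul' g h := by ext x; simp [LinearEquiv.mul_apply]

theorem cj_apply {W : Type*} [AddCommGroup W] [Module F W] (B : V ≃ₗ[F] W) (g : W ≃ₗ[F] W)
    (x : V) : B (cj B g x) = g (B x) := by
  simp [cj]

/-- the stabiliser of `f` in `SL(V)` -/
def Mf (f : V →ₗ[F] V →ₗ[F] V →ₗ[F] F) : Subgroup (V ≃ₗ[F] V) where
  carrier := {g | LinearMap.det (g : V →ₗ[F] V) = 1 ∧ InvBy f g}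
  mul_mem' {a b} ha hb := by
    refine ⟨?_, fun x y z => ?_⟩
    · have : ((a * b : V ≃ₗ[F] V) : V →ₗ[F] V) = (a : V →ₗ[F] V) ∘ₗ (b : V →ₗ[F] V) := rfl
      rw [this, LinearMap.det_comp, ha.1, hb.1, one_mul]
    · change f (a (b x)) (a (b y)) (a (b z)) = _
      rw [ha.2, hb.2]
  one_mem' := ⟨LinearMap.det_id, fun x y z => rfl⟩
  inv_mem' {a} ha := by
    refine ⟨?_, fun x y z => ?_⟩
    · have h1 : (a : V →ₗ[F] V) ∘ₗ ((a⁻¹ : V ≃ₗ[F] V) : V →ₗ[F] V) = LinearMap.id := by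
        ext x; exact a.apply_symm_apply x
      have h2 := congrArg LinearMap.det h1
      rwa [LinearMap.det_comp, ha.1, one_mul, LinearMap.det_id] at h2
    · have := ha.2 (a⁻¹ x) (a⁻¹ y) (a⁻¹ z)
      rw [show a (a⁻¹ x) = x from a.apply_symm_apply x, show a (a⁻¹ y) = y from a.apply_symm_apply y,
        show a (a⁻¹ z) = z from a.apply_symm_apply z] at this
      exact this.symm

theorem mem_Mf {f : V →ₗ[F] V →ₗ[F] V →ₗ[F] F} {g : V ≃ₗ[F] V} :
    g ∈ Mf f ↔ LinearMap.det (g : V →ₗ[F] V) = 1 ∧ InvBy f g := Iff.rfl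

/-- the stabiliser of a form in standard position -/
theorem Mf_equiv (f : V →ₗ[F] V →ₗ[F] V →ₗ[F] F) (B : Basis (Fin 7) F V) {l : F} (hl : l ≠ 0)
    (h : ∀ x y z, f x y z = l * F0 (B.repr x) (B.repr y) (B.repr z)) :
    Nonempty (Mf f ≃* M0 F) := by
  let Ψ : Matrix.GeneralLinearGroup (Fin 7) F ≃* (V ≃ₗ[F] V) :=
    (glEquiv (Fin 7) F).trans (cj B.equivFun)
  have hΨ : ∀ (A : Matrix.GeneralLinearGroup (Fin 7) F) (x : V),
      (B.repr (Ψ A x) : Fin 7 → F) = (A : Matrix (Fin 7) (Fin 7) F) *ᵥ (B.repr x) := by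
    intro A x
    have h1 := cj_apply B.equivFun (glEquiv (Fin 7) F A) x
    rw [glEquiv_apply] at h1
    exact h1
  have hdet : ∀ A : Matrix.GeneralLinearGroup (Fin 7) F,
      LinearMap.det ((Ψ A : V ≃ₗ[F] V) : V →ₗ[F] V) = (A : Matrix (Fin 7) (Fin 7) F).det := by
    intro A
    have h1 : ((Ψ A : V ≃ₗ[F] V) : V →ₗ[F] V) =
        (B.equivFun.symm : (Fin 7 → F) →ₗ[F] V) ∘ₗ
          (Matrix.toLin' (A : Matrix (Fin 7) (Fin 7) F)) ∘ₗ (B.equivFun : V →ₗ[F] (Fin 7 → F)) := by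
      ext x
      rfl
    rw [h1]
    have h2 := LinearMap.det_conj (Matrix.toLin' (A : Matrix (Fin 7) (Fin 7) F)) B.equivFun.symm
    rw [LinearEquiv.symm_symm] at h2
    rw [h2, LinearMap.det_toLin']
  have hmap : (M0 F).map Ψ.toMonoidHom = Mf f := by
    ext g
    constructor
    · rintro ⟨A, hA, rfl⟩
      refine ⟨(hdet A).trans hA.1, fun x y z => ?_⟩
      change f (Ψ A x) (Ψ A y) (Ψ A z) = _
      rw [h, h, hΨ, hΨ, hΨ, hA.2]
    · intro hg
      refine ⟨Ψ.symm g, ⟨?_, fun x y z => ?_⟩, Ψ.apply_symm_apply g⟩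
      · rw [← hdet, Ψ.apply_symm_apply]; exact hg.1
      · obtain ⟨x, rfl⟩ := B.equivFun.surjective x
        obtain ⟨y, rfl⟩ := B.equivFun.surjective y
        obtain ⟨z, rfl⟩ := B.equivFun.surjective z
        have h1 := hg.2 x y z
        rw [h, h] at h1
        have h2 := mul_left_cancel₀ hl h1
        have h3 : ∀ x, (B.repr (g x) : Fin 7 → F) =
            ((Ψ.symm g : Matrix.GeneralLinearGroup (Fin 7) F) : Matrix (Fin 7) (Fin 7) F) *ᵥ
              (B.repr x) := by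
          intro x
          rw [← hΨ, Ψ.apply_symm_apply]
        rw [h3, h3, h3] at h2
        exact h2
  exact ⟨((M0 F).equivMapOfInjective Ψ.toMonoidHom Ψ.injective |>.trans
    (MulEquiv.subgroupCongr hmap)).symm⟩

variable {e : Basis (Fin 7) F V} {f : V →ₗ[F] V →ₗ[F] V →ₗ[F] F}

/-- the group generated by the Siegel transformations of a form proportional to `bb e f` does not
preserve `f` -/
theorem Comp.not_inv {N : Nice e f} {k : F} {n : V} (C : Comp N k n) {Q : QuadraticForm F V}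
    {c : F} (hc : c ≠ 0) (hQ : ∀ x y, polar Q x y = c * bb e f x y)
    (hinv : ∀ g ∈ E Q, InvBy f g) : False := by
  obtain ⟨E', G, d, hE, hG, hEG, hd, hv⟩ := C.exists_vals
  have hQ2 : ∀ x, 2 * Q x = c * bb e f x x := by
    intro x
    rw [← hQ, QuadraticMap.polar_self, two_smul]; ring
  have hu : Q (E' 1) = 0 := by
    have := hQ2 (E' 1)
    rw [C.Up_Up (hE 1) (hE 1), mul_zero] at this
    exact (mul_eq_zero.1 this).resolve_left N.two
  have hw : polar Q (E' 1) n = 0 := by rw [hQ, bb_comm, C.n_Up (hE 1), mul_zero]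
  have h1 := hinv _ (siegel_mem_E hu hw) (E' 0) (G 1) (G 0)
  rw [siegel_apply, siegel_apply, siegel_apply] at h1
  simp only [hQ, C.Up_Up (hE 1) (hE 0), hEG, C.n_Up (hE 0), C.n_Um (hG 1), C.n_Um (hG 0)] at h1
  have h01 : ((1 : Fin 3) = 0) = False := by simp
  simp only [h01, if_true, if_false, mul_zero, zero_smul, add_zero, sub_zero, mul_one] at h1
  simp only [map_add, map_sub, map_smul, LinearMap.add_apply, LinearMap.sub_apply,
    LinearMap.smul_apply, smul_eq_mul, hv.EGG, hv.EEG, N.alt.swap12 (E' 0) n, hv.nEG, if_true] at h1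
  apply hc
  linear_combination -h1

end Cfsg.Agent.H179.G2
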