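import Cfsg.Agent.H179.G2Six
import Cfsg.Agent.H875.FnIso

/-!
# The invariant alternating 3-form of `SL₂(E)` on the module of binary sextics
-/

namespace Cfsg.Agent.H179.G2

open Cfsg.Agent.H875.Fn Module Matrix

universe u v w

/-- two trilinear forms which agree on a spanning set are equal -/
theorem tri_ext {F V : Type*} [Field F] [AddCommGroup V] [Module F V] {s : Set V}
    (hs : Submodule.span F s = ⊤) {f g : V →ₗ[F] V →ₗ[F] V →ₗ[F] F}
    (h : ∀ x ∈ s, ∀ y ∈ s, ∀ z ∈ s, f x y z = g x y z) : f = g := by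
  refine LinearMap.ext_on hs fun x hx => ?_
  refine LinearMap.ext_on hs fun y hy => ?_
  exact LinearMap.ext_on hs fun z hz => h x hx y hy z hz

/-- pulling back a trilinear form -/
def tri_pull {F V W : Type*} [Field F] [AddCommGroup V] [Module F V] [AddCommGroup W] [Module F W]
    (f : W →ₗ[F] W →ₗ[F] W →ₗ[F] F) (T : V →ₗ[F] W) : V →ₗ[F] V →ₗ[F] V →ₗ[F] F :=
  (f.compl₁₂ T T).compr₂ (T.lcomp F F)

theorem tri_pull_apply {F V W : Type*} [Field F] [AddCommGroup V] [Module F V] [AddCommGroup W]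
    [Module F W] (f : W →ₗ[F] W →ₗ[F] W →ₗ[F] F) (T : V →ₗ[F] W) (x y z : V) :
    tri_pull f T x y z = f (T x) (T y) (T z) := rfl

theorem tri_pull_isAlt {F V W : Type*} [Field F] [AddCommGroup V] [Module F V] [AddCommGroup W]
    [Module F W] {f : W →ₗ[F] W →ₗ[F] W →ₗ[F] F} (h : IsAltForm f) (T : V →ₗ[F] W) :
    IsAltForm (tri_pull f T) :=
  ⟨fun _ _ => h.self _ _, fun _ _ => h.z23 _ _⟩

theorem tri_pull_ne {F V W : Type*} [Field F] [AddCommGroup V] [Module F V] [AddCommGroup W]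
    [Module F W] {f : W →ₗ[F] W →ₗ[F] W →ₗ[F] F} (h : f ≠ 0) {T : V →ₗ[F] W}
    (hT : Function.Surjective T) : tri_pull f T ≠ 0 := by
  intro h0
  apply h
  ext x y z
  obtain ⟨x, rfl⟩ := hT x
  obtain ⟨y, rfl⟩ := hT y
  obtain ⟨z, rfl⟩ := hT z
  rw [← tri_pull_apply, h0]; rfl

variable {E : Type u} [Field E] [Fintype E] {k : Type v} [Field k] {j : E →+* k}
  {V : Type w} [AddCommGroup V] [Module k V] {R : SpecialLinearGroup (Fin 2) E →* Module.End k V}

/-- the span of the monomials of degree six -/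
def Sx (J : E →+* k) : (Fin 7 → k) →ₗ[k] (E × E → k) where
  toFun u := fun v => ∑ i : Fin 7, u i * (J v.1 ^ (6 - (i : ℕ)) * J v.2 ^ (i : ℕ))
  map_add' u u' := by
    funext v
    simp only [Pi.add_apply, add_mul, Finset.sum_add_distrib]
  map_smul' c u := by
    funext v
    simp only [Pi.smul_apply, smul_eq_mul, RingHom.id_apply, Finset.mul_sum, mul_assoc]

omit [Fintype E] in
theorem Sx_pc (J : E →+* k) (c : E × E) (v : E × E) :
    Sx J (pc (J c.1) (J c.2)) v = J (v.1 * c.1 + v.2 * c.2) ^ 6 := by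
  simp only [Sx, LinearMap.coe_mk, AddHom.coe_mk, Fin.sum_univ_succ, Fin.sum_univ_zero, pc,
    map_add, map_mul]
  simp [Fin.succ]
  ring

/-- **the invariant alternating 3-form** -/
theorem sextic_form (p : ℕ) [hp : Fact p.Prime] [CharP k p] (h7 : 7 ≤ p) {t : ℕ}
    {Φ : V →ₗ[k] (E × E → k)} (hV : finrank k V = 7) (hM : IsModel j R (p ^ t * 6) Φ) :
    ∃ f : V →ₗ[k] V →ₗ[k] V →ₗ[k] k, IsAltForm f ∧ f ≠ 0 ∧
      ∀ g x y z, f (R g x) (R g y) (R g z) = f x y z := by
  have hfd : FiniteDimensional k V := Module.finite_of_finrank_pos (by omega)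
  let J : E →+* k := (iterateFrobenius k p t).comp j
  have hJ : ∀ x, J x = j x ^ p ^ t := fun x => by
    simp only [J, RingHom.comp_apply, iterateFrobenius_def]
  have hpw : ∀ c, pw j (p ^ t * 6) c = Sx J (pc (J c.1) (J c.2)) := by
    intro c
    funext v
    rw [Sx_pc, hJ, pw, pow_mul]
  have hle : L j (p ^ t * 6) ≤ LinearMap.range (Sx J) := by
    unfold L
    rw [Submodule.span_le]
    rintro _ ⟨c, rfl⟩
    rw [hpw]
    exact ⟨_, rfl⟩
  have hr1 : finrank k (LinearMap.range Φ) = 7 := by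
    rw [LinearMap.finrank_range_of_inj hM.inj, hV]
  have hr2 := LinearMap.finrank_range_add_finrank_ker (Sx J : (Fin 7 → k) →ₗ[k] (E × E → k))
  rw [Module.finrank_fin_fun] at hr2
  have hr3 : finrank k (LinearMap.range Φ) ≤ finrank k (LinearMap.range (Sx J)) := by
    rw [hM.range]
    exact Submodule.finrank_mono hle
  have hinj : Function.Injective (Sx J : (Fin 7 → k) →ₗ[k] (E × E → k)) := by
    rw [← LinearMap.ker_eq_bot, ← Submodule.finrank_eq_zero (R := k)]
    omega
  -- coordinates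
  let SE : (Fin 7 → k) ≃ₗ[k] LinearMap.range (Sx J) := LinearEquiv.ofInjective (Sx J) hinj
  let Ψ : V →ₗ[k] LinearMap.range (Sx J) := Φ.codRestrict _ fun v => hle (hM.mem v)
  let T : V →ₗ[k] (Fin 7 → k) := SE.symm.toLinearMap ∘ₗ Ψ
  have hT : ∀ v, Sx J (T v) = Φ v := by
    intro v
    have h1 : SE (T v) = Ψ v := SE.apply_symm_apply (Ψ v)
    exact congrArg Subtype.val h1
  have hTinj : Function.Injective T := by
    intro x y hxy
    apply hM.inj
    rw [← hT, ← hT, hxy]
  have hTsurj : Function.Surjective T := by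
    refine (LinearMap.injective_iff_surjective_of_finrank_eq_finrank ?_).1 hTinj
    rw [hV, Module.finrank_fin_fun]
  -- the spanning set
  let s : Set V := {v | ∃ c, Φ v = pw j (p ^ t * 6) c}
  have hTs : ∀ c v, Φ v = pw j (p ^ t * 6) c → T v = pc (J c.1) (J c.2) := by
    intro c v hv
    apply hinj
    rw [hT, hv, hpw]
  have hspan : Submodule.span k s = ⊤ := by
    rw [eq_top_iff]
    intro v _
    have h1 : Φ v ∈ Submodule.span k (Set.range (pw j (p ^ t * 6))) := hM.mem v
    have h2 : (Submodule.span k s).map Φ = Submodule.span k (Set.range (pw j (p ^ t * 6))) := by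
      rw [Submodule.map_span]
      congr 1
      ext f
      constructor
      · rintro ⟨v, ⟨c, hc⟩, rfl⟩
        exact ⟨c, hc.symm⟩
      · rintro ⟨c, rfl⟩
        obtain ⟨v, hv⟩ := hM.exists_vec (f := pw j (p ^ t * 6) c) (Submodule.subset_span ⟨c, rfl⟩)
        exact ⟨v, ⟨c, hv⟩, hv⟩
    rw [← h2] at h1
    obtain ⟨w, hw, hwv⟩ := h1
    rwa [← hM.inj hwv]
  have h30 : (30 : k) ≠ 0 := by
    intro h
    have h1 : ((30 : ℕ) : k) = 0 := by exact_mod_cast h
    rw [CharP.cast_eq_zero_iff k p] at h1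
    have h2 : p ∣ 2 * 3 * 5 := h1
    rcases (Nat.Prime.dvd_mul hp.out).1 h2 with h3 | h3
    · rcases (Nat.Prime.dvd_mul hp.out).1 h3 with h4 | h4
      · have := Nat.le_of_dvd (by norm_num) h4; omega
      · have := Nat.le_of_dvd (by norm_num) h4; omega
    · have := Nat.le_of_dvd (by norm_num) h3; omega
  refine ⟨tri_pull (f7L k) T, tri_pull_isAlt f7L_isAlt T, tri_pull_ne (f7L_ne h30) hTsurj, ?_⟩
  intro g x y z
  have key : tri_pull (tri_pull (f7L k) T) (R g) = tri_pull (f7L k) T := by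
    refine tri_ext hspan ?_
    rintro x ⟨a, ha⟩ y ⟨b, hb⟩ z ⟨c, hc⟩
    have hact : ∀ c v, Φ v = pw j (p ^ t * 6) c → Φ (R g v) = pw j (p ^ t * 6) (mv g c) := by
      intro c v hv
      rw [hM.act, hv, act_pw]
    rw [tri_pull_apply, tri_pull_apply, tri_pull_apply, hTs _ _ (hact a x ha),
      hTs _ _ (hact b y hb), hTs _ _ (hact c z hc), hTs a x ha, hTs b y hb, hTs c z hc, f7L_apply,
      f7L_apply, f7_pc, f7_pc]
    have hdet : g.1 0 0 * g.1 1 1 - g.1 0 1 * g.1 1 0 = 1 := by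
      have := g.2
      rwa [Matrix.det_fin_two] at this
    have hbr : ∀ a b : E × E, J (mv g a).1 * J (mv g b).2 - J (mv g a).2 * J (mv g b).1 =
        J a.1 * J b.2 - J a.2 * J b.1 := by
      intro a b
      rw [← map_mul, ← map_mul, ← map_sub, ← map_mul, ← map_mul, ← map_sub]
      congr 1
      simp only [mv]
      linear_combination (a.1 * b.2 - a.2 * b.1) * hdet
    rw [hbr a b, hbr b c, hbr c a]
  have := congrArg (fun w : V →ₗ[k] V →ₗ[k] V →ₗ[k] k => w x y z) key
  simpa only [tri_pull_apply] using this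

end Cfsg.Agent.H179.G2
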