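import Cfsg.Agent.H179.G2Inv

/-!
# Uniqueness of the invariant alternating 3-form
-/

namespace Cfsg.Agent.H179.G2

open QuadraticMap Module

variable {F V : Type*} [Field F] [AddCommGroup V] [Module F V]
variable {e : Basis (Fin 7) F V} {f : V →ₗ[F] V →ₗ[F] V →ₗ[F] F}

theorem IsAltForm.add {g : V →ₗ[F] V →ₗ[F] V →ₗ[F] F} (hf : IsAltForm f) (hg : IsAltForm g) :
    IsAltForm (f + g) :=
  ⟨fun x y => by simp [hf.self, hg.self], fun x y => by simp [hf.z23, hg.z23]⟩

theorem IsAltForm.smul (hf : IsAltForm f) (c : F) : IsAltForm (c • f) :=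
  ⟨fun x y => by simp [hf.self], fun x y => by simp [hf.z23]⟩

theorem Nice.T_add (N : Nice e f) (g h : V →ₗ[F] V →ₗ[F] V →ₗ[F] F) (x y : V) :
    N.T (g + h) x y = N.T g x y + N.T h x y := by
  apply N.ext; intro z
  simp only [map_add, LinearMap.add_apply, N.bb_T]

theorem Nice.T_smul (N : Nice e f) (c : F) (g : V →ₗ[F] V →ₗ[F] V →ₗ[F] F) (x y : V) :
    N.T (c • g) x y = c • N.T g x y := by
  apply N.ext; intro z
  simp only [map_smul, LinearMap.smul_apply, N.bb_T]

theorem Nice.T_self (N : Nice e f) (x y : V) : N.T f x y = N.cr x y := by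
  apply N.ext; intro z
  rw [N.bb_T, N.bb_cr]

/-- the core of the uniqueness: a form `g` whose cross product anticommutes with the one of `f` -/
theorem no_anti {N : Nice e f} {k : F} {n : V} (C : Comp N k n)
    {g : V →ₗ[F] V →ₗ[F] V →ₗ[F] F} (hg : IsAltForm g) {kg : F} (hkg : kg ≠ 0)
    (hgid : ∀ u v y, N.T g u (N.T g v y) + N.T g v (N.T g u y) = kg • RR e f u v y)
    (hanti : ∀ y, N.cr n (N.T g n y) + N.T g n (N.cr n y) = 0) : False := by
  have : FiniteDimensional F V := e.finiteDimensional_of_finite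
  obtain ⟨E, hli, hE⟩ := exists_li C.Up C.finrank_Up
  -- a vector `u ≠ 0` in the span of `E` with `g n u (E i) = 0` for all `i`
  obtain ⟨u, hu0, huE, hug⟩ : ∃ u, u ≠ 0 ∧ u ∈ C.Up ∧ ∀ i, g n u (E i) = 0 := by
    by_cases h0 : g n (E 1) (E 2) = 0 ∧ g n (E 0) (E 2) = 0 ∧ g n (E 0) (E 1) = 0
    · refine ⟨E 0, hli.ne_zero 0, hE 0, fun i => ?_⟩
      fin_cases i
      · exact hg.z23 _ _
      · exact h0.2.2
      · exact h0.2.1
    · refine ⟨g n (E 1) (E 2) • E 0 - g n (E 0) (E 2) • E 1 + g n (E 0) (E 1) • E 2, ?_, ?_, ?_⟩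
      · intro hz
        apply h0
        have h1 : ∑ i, (![g n (E 1) (E 2), -g n (E 0) (E 2), g n (E 0) (E 1)] : Fin 3 → F) i • E i
            = 0 := by
          rw [Fin.sum_univ_three]
          simp only [Matrix.cons_val]
          rw [← hz]; module
        have h2 := (Fintype.linearIndependent_iff.1 hli) _ h1
        exact ⟨h2 0, neg_eq_zero.1 (h2 1), h2 2⟩
      · exact C.Up.add_mem (C.Up.sub_mem (C.Up.smul_mem _ (hE 0)) (C.Up.smul_mem _ (hE 1)))
          (C.Up.smul_mem _ (hE 2))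
      · intro i
        simp only [map_add, map_sub, map_smul, LinearMap.add_apply, LinearMap.sub_apply,
          LinearMap.smul_apply, smul_eq_mul]
        fin_cases i
        · change g n (E 1) (E 2) * g n (E 0) (E 0) - g n (E 0) (E 2) * g n (E 1) (E 0) +
            g n (E 0) (E 1) * g n (E 2) (E 0) = 0
          rw [hg.z23, hg.swap23 n (E 1) (E 0), hg.swap23 n (E 2) (E 0)]; ring
        · change g n (E 1) (E 2) * g n (E 0) (E 1) - g n (E 0) (E 2) * g n (E 1) (E 1) +
            g n (E 0) (E 1) * g n (E 2) (E 1) = 0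
          rw [hg.z23, hg.swap23 n (E 2) (E 1)]; ring
        · change g n (E 1) (E 2) * g n (E 0) (E 2) - g n (E 0) (E 2) * g n (E 1) (E 2) +
            g n (E 0) (E 1) * g n (E 2) (E 2) = 0
          rw [hg.z23]; ring
  have hspan : ∀ y ∈ C.Up, g n u y = 0 := by
    intro y hy
    have h1 : C.Up = Submodule.span F (Set.range E) := by
      symm
      refine Submodule.eq_of_le_of_finrank_le ?_ ?_
      · rw [Submodule.span_le]; rintro _ ⟨i, rfl⟩; exact hE i
      · rw [C.finrank_Up, finrank_span_eq_card hli, Fintype.card_fin]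
    rw [h1] at hy
    induction hy using Submodule.span_induction with
    | mem y hy => obtain ⟨i, rfl⟩ := hy; exact hug i
    | zero => simp
    | add y z _ _ h1 h2 => rw [map_add, h1, h2, add_zero]
    | smul a y _ h1 => rw [map_smul, h1, smul_zero]
  -- `T_g n u` is in `Um`
  have hTm : N.T g n u ∈ C.Um := by
    rw [C.mem_Um]
    have h1 := hanti u
    rw [C.mem_Up.1 huE] at h1
    exact eq_neg_of_add_eq_zero_left h1
  have hT0 : N.T g n u = 0 := by
    apply N.ext
    intro z
    obtain ⟨a, ha, b, hb, c, rfl⟩ := C.decomp z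
    rw [map_zero, LinearMap.zero_apply, map_add, map_add, map_smul, N.bb_T, hspan a ha,
      C.Um_Um hTm hb, bb_comm _ n, C.n_Um hTm]
    simp
  have h1 := hgid n n u
  rw [hT0, map_zero, RR, C.n_Up huE] at h1
  have h2 : (kg * (2 * bb e f n n)) • u = 0 := by
    linear_combination (norm := module) h1
  rcases smul_eq_zero.1 h2 with h3 | h3
  · exact mul_ne_zero hkg (mul_ne_zero N.two C.nn) h3
  · exact hu0 h3

variable {P : Subgroup (V ≃ₗ[F] V)}

/-- **uniqueness of the invariant 3-form** -/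
theorem PHyp.uniq [Finite F] (hP : PHyp P) (h2 : (2 : F) ≠ 0) (e : Basis (Fin 7) F V)
    {f g : V →ₗ[F] V →ₗ[F] V →ₗ[F] F} (hf : IsAltForm f)
    (hf0 : f ≠ 0) (hinv : ∀ a ∈ P, InvBy f a) (hg : IsAltForm g) (hginv : ∀ a ∈ P, InvBy g a) :
    ∃ c : F, g = c • f := by
  by_contra hc
  push Not at hc
  have N : Nice e f := hP.nice h2 hf hf0 hinv
  obtain ⟨k, n, C⟩ := N.exists_Comp (PHyp.null e f)
  have hg0 : g ≠ 0 := fun h => hc 0 (by rw [h, zero_smul])
  have hinvadd : ∀ (s t : F), ∀ a ∈ P, InvBy (s • f + t • g) a := by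
    intro s t a ha x y z
    simp only [LinearMap.add_apply, LinearMap.smul_apply, hinv a ha x y z, hginv a ha x y z]
  have hne : ∀ (s t : F), t ≠ 0 → s • f + t • g ≠ 0 := by
    intro s t ht h
    apply hc (-(t⁻¹ * s))
    ext x y z
    have h1 := congrArg (fun w : V →ₗ[F] V →ₗ[F] V →ₗ[F] F => w x y z) h
    simp only [LinearMap.add_apply, LinearMap.smul_apply, smul_eq_mul, LinearMap.zero_apply] at h1 ⊢
    field_simp
    linear_combination h1
  have hid : ∀ (s t : F), t ≠ 0 → ∃ k : F, k ≠ 0 ∧ ∀ u v y, N.T (s • f + t • g) u (N.T (s • f + t • g) v y) +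
      N.T (s • f + t • g) v (N.T (s • f + t • g) u y) = k • RR e f u v y := fun s t ht =>
    hP.comp N hinv ((hf.smul s).add (hg.smul t)) (hne s t ht) (hinvadd s t)
  obtain ⟨k1, -, hk1⟩ := hid 1 1 one_ne_zero
  obtain ⟨kg, -, hkg⟩ := hid 0 1 one_ne_zero
  -- the mixed term
  obtain ⟨m, hm⟩ : ∃ m : F, ∀ u v y, N.cr u (N.T g v y) + N.T g u (N.cr v y) + N.cr v (N.T g u y) +
      N.T g v (N.cr u y) = m • RR e f u v y := by
    refine ⟨k1 - k - kg, fun u v y => ?_⟩
    have e1 := hk1 u v y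
    have e2 := hkg u v y
    have e3 := C.id u v y
    simp only [N.T_add, N.T_self, zero_smul, zero_add, one_smul, map_add] at e1 e2
    have e3' : N.cr u (N.cr v y) + N.cr v (N.cr u y) = k • RR e f u v y := e3
    linear_combination (norm := module) e1 - e2 - e3'
  set s : F := -(m / (2 * k)) with hs
  obtain ⟨kh, hkh0, hkh⟩ := hid s 1 one_ne_zero
  refine no_anti C ((hf.smul s).add (hg.smul 1)) hkh0 hkh ?_
  intro y
  have e1 := hm n n y
  have e3 := C.id n n y
  have e3' : N.cr n (N.cr n y) + N.cr n (N.cr n y) = k • RR e f n n y := e3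
  have h2k : (2 : F) * k ≠ 0 := mul_ne_zero h2 C.k0
  have hsk : s * (2 * k) = -m := by rw [hs, neg_mul, div_mul_cancel₀ _ h2k]
  apply N.smul_two
  simp only [N.T_add, N.T_smul, N.T_self, one_smul, map_add, map_smul]
  have e4 : (2 * s) • (N.cr n (N.cr n y) + N.cr n (N.cr n y)) = (-m) • RR e f n n y := by
    rw [e3', smul_smul, ← hsk]; congr 1; ring
  linear_combination (norm := module) e1 + e4

end Cfsg.Agent.H179.G2
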