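import Cfsg.Agent.H413.JOneLocal

/-!
# `J₁`: the monomial frame `2³:7:3` and an involution of `7:6` (helper179)

Elements of the explicit group: `x` (the 7-cycle), `d` (a diagonal involution), `y` (the permutation `i ↦ 2 i`), `w` (an
involution inverting `x`, commuting with `y`), and the relations between them.
-/

set_option autoImplicit false

namespace Cfsg.Agent.H179.JOne

open Cfsg.Agent.SporadicB.J1.Mat Cfsg.Agent.SporadicB.J1.Data Cfsg.Agent.SporadicB.J1.Main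
open Cfsg.Spor (jankoX jankoY J1)

def x : J1 := ev [0]
def d : J1 := ev [0, 0, 1, 0, 3, 2]
def w : J1 := ev [1, 0, 3, 0, 0, 0, 1, 0]
def y : J1 := ev [0, 3, 3, 2, 1, 0, 1, 0, 1, 1, 0, 3, 2, 3, 2, 3]

theorem x_eq : x = X := by
  change X * 1 = X
  rw [mul_one]

/-- words in `x, d, w, x⁻¹, y` -/
def wd : List Nat → List Nat
  | [] => []
  | 0 :: l => [0] ++ wd l
  | 1 :: l => [0, 0, 1, 0, 3, 2] ++ wd l
  | 2 :: l => [1, 0, 3, 0, 0, 0, 1, 0] ++ wd l
  | 3 :: l => [2] ++ wd l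
  | _ :: l => [0, 3, 3, 2, 1, 0, 1, 0, 1, 1, 0, 3, 2, 3, 2, 3] ++ wd l

theorem ev_append (l m : List Nat) : ev (l ++ m) = ev l * ev m := by
  induction l with
  | nil => exact (one_mul _).symm
  | cons a l ih =>
    rw [List.cons_append]
    rcases a with _ | _ | _ | a
    · change X * ev (l ++ m) = X * ev l * ev m
      rw [ih, mul_assoc]
    · change Y * ev (l ++ m) = Y * ev l * ev m
      rw [ih, mul_assoc]
    · change X⁻¹ * ev (l ++ m) = X⁻¹ * ev l * ev m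
      rw [ih, mul_assoc]
    · change Y⁻¹ * ev (l ++ m) = Y⁻¹ * ev l * ev m
      rw [ih, mul_assoc]

/-- evaluation of words in `x, d, w, x⁻¹, y` -/
def ew : List Nat → J1
  | [] => 1
  | 0 :: l => x * ew l
  | 1 :: l => d * ew l
  | 2 :: l => w * ew l
  | 3 :: l => x⁻¹ * ew l
  | _ :: l => y * ew l

theorem ew_eq : ∀ l : List Nat, ew l = ev (wd l)
  | [] => rfl
  | 0 :: l => by
    change x * ew l = ev ([0] ++ wd l)
    rw [ev_append, ew_eq l]
    rfl
  | 1 :: l => by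
    change d * ew l = ev ([0, 0, 1, 0, 3, 2] ++ wd l)
    rw [ev_append, ew_eq l]
    rfl
  | 2 :: l => by
    change w * ew l = ev ([1, 0, 3, 0, 0, 0, 1, 0] ++ wd l)
    rw [ev_append, ew_eq l]
    rfl
  | 3 :: l => by
    change x⁻¹ * ew l = ev ([2] ++ wd l)
    rw [ev_append, ew_eq l, x_eq]
    change X⁻¹ * _ = X⁻¹ * 1 * _
    rw [mul_one]
  | (_ + 4) :: l => by
    change y * ew l = ev ([0, 3, 3, 2, 1, 0, 1, 0, 1, 1, 0, 3, 2, 3, 2, 3] ++ wd l)
    rw [ev_append, ew_eq l]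
    rfl

/-- **checking a relation** -/
theorem ew_rel {l m : List Nat} (h : evC (wd l) = evC (wd m)) : ew l = ew m := by
  rw [ew_eq, ew_eq]
  exact (rep_ev _).eq (rep_ev _) h

theorem ew_ne {l m : List Nat} (h : diffC (evC (wd l)) (evC (wd m)) = true) : ew l ≠ ew m := by
  rw [ew_eq, ew_eq]
  exact (rep_ev _).ne (rep_ev _) h

theorem x7 : ew [0, 0, 0, 0, 0, 0, 0] = ew [] := ew_rel (by decide +kernel)
theorem dd : ew [1, 1] = ew [] := ew_rel (by decide +kernel)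
theorem ww : ew [2, 2] = ew [] := ew_rel (by decide +kernel)
theorem yyy : ew [4, 4, 4] = ew [] := ew_rel (by decide +kernel)
theorem yx : ew [4, 0] = ew [0, 0, 0, 0, 4] := ew_rel (by decide +kernel)
theorem yd : ew [4, 1] = ew [1, 4] := ew_rel (by decide +kernel)
theorem wx : ew [2, 0, 2] = ew [3] := ew_rel (by decide +kernel)
theorem wy : ew [2, 4] = ew [4, 2] := ew_rel (by decide +kernel)
/-- `d₀ d₁ = d₃`, `d_k = x^k d x^-k` -/
theorem d01 : ew [1, 0, 1, 3] = ew [0, 0, 0, 1, 3, 3, 3] := ew_rel (by decide +kernel)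
/-- `d₁ d₀ = d₃` -/
theorem d10 : ew [0, 1, 3, 1] = ew [0, 0, 0, 1, 3, 3, 3] := ew_rel (by decide +kernel)
theorem d03 : ew [1, 0, 0, 0, 1, 3, 3, 3] = ew [0, 1, 3] := ew_rel (by decide +kernel)
/-- **the relation** `w a w b w = b w a w b x²`, `a = x⁻¹ d x`, `b = x d x⁻¹` -/
theorem rel : ew [2, 3, 1, 0, 2, 0, 1, 3, 2] = ew [0, 1, 3, 2, 3, 1, 0, 2, 0, 1, 3, 0, 0] := ew_rel (by decide +kernel)
/-- `Y` -/
theorem Y_eq : ew [0, 1, 3, 1, 3, 2] = Y := by
  rw [ew_eq]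
  have h : Y = ev [1] := by
    change Y = Y * 1
    rw [mul_one]
  rw [h]
  exact (rep_ev _).eq (rep_ev _) (by decide +kernel)

theorem d_ne : ew [1] ≠ ew [] := ew_ne (by decide +kernel)

/-- **generation** -/
theorem closure_eq_top {K : Subgroup J1} (hx : x ∈ K) (hd : d ∈ K) (hw : w ∈ K) : K = ⊤ := by
  have hX : X ∈ K := by rw [← x_eq]; exact hx
  have hY : Y ∈ K := by
    rw [← Y_eq]
    change x * (d * (x⁻¹ * (d * (x⁻¹ * (w * 1))))) ∈ K
    exact mul_mem hx (mul_mem hd (mul_mem (inv_mem hx) (mul_mem hd (mul_mem (inv_mem hx) (mul_mem hw (one_mem _))))))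
  have h1 : (Subgroup.closure {jankoX, jankoY}) ≤ K.map J1.subtype := by
    rw [Subgroup.closure_le]
    rintro g (rfl | rfl)
    · exact ⟨X, hX, rfl⟩
    · exact ⟨Y, hY, rfl⟩
  rw [eq_top_iff]
  rintro ⟨g, hg⟩ -
  obtain ⟨k, hk, hkg⟩ := h1 hg
  have h2 : k = ⟨g, hg⟩ := Subtype.ext hkg
  rwa [← h2]

end Cfsg.Agent.H179.JOne
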