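import Cfsg.Agent.H179.JoneA

/-!
# `J₁`: the frame of `2³` in a representation (helper179)

`R : J₁ →* End V` over a field with `2 ≠ 0`. `V0 R` = fixed vectors of `E = 2³`, `L0 R` = a weight space; `dim V = dim V0 + 7 dim L0`.
-/

set_option autoImplicit false
set_option linter.unusedSectionVars false

namespace Cfsg.Agent.H179.JOne

open Cfsg.Agent.SporadicB.J1.Mat Cfsg.Agent.SporadicB.J1.Data Cfsg.Agent.SporadicB.J1.Main
open Cfsg.Spor (jankoX jankoY J1)

/-- `x ^ k d x ^ -k` as a word -/
def wD (k : ℕ) : List Nat := List.replicate k 0 ++ (1 :: List.replicate k 3)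

/-- the elements of `2³` -/
def D (i : Fin 7) : J1 := ew (wD i.val)

/-- the third point of a line -/
def th (m i : Fin 7) : Fin 7 := m + ![0, 3, 6, 1, 5, 4, 2] (i - m)

theorem ew_append (l m : List Nat) : ew (l ++ m) = ew l * ew m := by
  induction l with
  | nil => exact (one_mul _).symm
  | cons a l ih =>
    rw [List.cons_append]
    rcases a with _ | _ | _ | _ | a
    · change x * ew (l ++ m) = x * ew l * ew m
      rw [ih, mul_assoc]
    · change d * ew (l ++ m) = d * ew l * ew m
      rw [ih, mul_assoc]
    · change w * ew (l ++ m) = w * ew l * ew m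
      rw [ih, mul_assoc]
    · change x⁻¹ * ew (l ++ m) = x⁻¹ * ew l * ew m
      rw [ih, mul_assoc]
    · change y * ew (l ++ m) = y * ew l * ew m
      rw [ih, mul_assoc]

theorem D_mul (m i : Fin 7) (h : i ≠ m) : D m * D i = D (th m i) := by
  rw [D, D, D, ← ew_append]
  apply ew_rel
  revert m i
  decide +kernel

theorem D_sq (m : Fin 7) : D m * D m = 1 := by
  rw [D, ← ew_append]
  change _ = ew []
  apply ew_rel
  revert m
  decide +kernel

theorem x_D (i : Fin 7) : x * D i = D (i + 1) * x := by
  have h1 : x * D i = ew ([0] ++ wD i.val) := by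
    rw [ew_append]
    change _ = x * 1 * _
    rw [mul_one]
    rfl
  have h2 : D (i + 1) * x = ew (wD (i + 1).val ++ [0]) := by
    rw [ew_append]
    change _ = _ * (x * 1)
    rw [mul_one]
    rfl
  rw [h1, h2]
  apply ew_rel
  revert i
  decide +kernel

theorem y_D (i : Fin 7) : y * D (2 * i) = D i * y := by
  have h1 : y * D (2 * i) = ew ([4] ++ wD (2 * i).val) := by
    rw [ew_append]
    change _ = y * 1 * _
    rw [mul_one]
    rfl
  have h2 : D i * y = ew (wD i.val ++ [4]) := by
    rw [ew_append]
    change _ = _ * (y * 1)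
    rw [mul_one]
    rfl
  rw [h1, h2]
  apply ew_rel
  revert i
  decide +kernel

end Cfsg.Agent.H179.JOne
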