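import Cfsg.Agent.H179.JoneB

/-!
# `J₁`: weight spaces of `2³` (helper179)
-/

set_option autoImplicit false
set_option linter.unusedSectionVars false

namespace Cfsg.Agent.H179.JOne

open Cfsg.Spor (jankoX jankoY J1)

section
variable {k : Type*} [Field k] {V : Type*} [AddCommGroup V] [Module k V] (R : J1 →* Module.End k V)

/-- the signs -/
def s (k : Type*) [Field k] (i : Fin 7) : k := ![-1, 1, 1, -1, 1, -1, -1] i

/-- fixed vectors of `2³` -/
def V0 : Submodule k V where
  carrier := {v | ∀ i, R (D i) v = v}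
  add_mem' := fun ha hb i => by rw [map_add, ha i, hb i]
  zero_mem' := fun i => map_zero _
  smul_mem' := fun c v hv i => by rw [map_smul, hv i]

/-- the weight space of the `y`-invariant character -/
def L0 : Submodule k V where
  carrier := {v | ∀ i, R (D i) v = s k i • v}
  add_mem' := fun ha hb i => by rw [map_add, ha i, hb i, smul_add]
  zero_mem' := fun i => by rw [map_zero, smul_zero]
  smul_mem' := fun c v hv i => by rw [map_smul, hv i, smul_comm]

variable {R}

theorem mem_V0 {v : V} : v ∈ V0 R ↔ ∀ i, R (D i) v = v := Iff.rfl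
theorem mem_L0 {v : V} : v ∈ L0 R ↔ ∀ i, R (D i) v = s k i • v := Iff.rfl

theorem R_mul (g h : J1) (v : V) : R (g * h) v = R g (R h v) := by rw [map_mul]; rfl

theorem R_inv (g : J1) (v : V) : R g⁻¹ (R g v) = v := by
  rw [← R_mul, inv_mul_cancel, map_one]; rfl

theorem R_inv' (g : J1) (v : V) : R g (R g⁻¹ v) = v := by
  rw [← R_mul, mul_inv_cancel, map_one]; rfl

theorem DD (m i : Fin 7) (h : i ≠ m) (v : V) : R (D m) (R (D i) v) = R (D (th m i)) v := by
  rw [← R_mul, D_mul m i h]

theorem DD' (m : Fin 7) (v : V) : R (D m) (R (D m) v) = v := by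
  rw [← R_mul, D_sq, map_one]; rfl

variable (R)

/-- `8 ×` the projection onto `L0` -/
def A (v : V) : V := v + ∑ i, s k i • R (D i) v

/-- `8 ×` the projection onto `V0` -/
def B (v : V) : V := v + ∑ i, R (D i) v

variable {R}

theorem A_mem (v : V) : A R v ∈ L0 R := by
  intro m
  unfold A
  rw [map_add, map_sum]
  simp only [map_smul]
  fin_cases m <;>
  · simp only [Fin.sum_univ_seven, Fin.isValue, Fin.mk_zero', Fin.mk_one, Fin.reduceFinMk, DD', s]
    repeat rw [DD _ _ (by decide)]
    simp [th]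
    abel

theorem B_mem (v : V) : B R v ∈ V0 R := by
  intro m
  unfold B
  rw [map_add, map_sum]
  fin_cases m <;>
  · simp only [Fin.sum_univ_seven, Fin.isValue, Fin.mk_zero', Fin.mk_one, Fin.reduceFinMk, DD']
    repeat rw [DD _ _ (by decide)]
    simp [th]
    abel

theorem D_x (n : ℕ) (i : Fin 7) : x ^ n * D i = D (i + Fin.ofNat 7 n) * x ^ n := by
  induction n with
  | zero =>
    have h : i + Fin.ofNat 7 0 = i := add_zero i
    rw [h, pow_zero, one_mul, mul_one]
  | succ n ih =>
    have h : i + Fin.ofNat 7 (n + 1) = i + Fin.ofNat 7 n + 1 := by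
      apply Fin.ext
      simp [Fin.val_add, Fin.ofNat]
      omega
    rw [pow_succ', mul_assoc, ih, ← mul_assoc, x_D, mul_assoc, h]

theorem D_xj (j i : Fin 7) : x ^ j.val * D i = D (i + j) * x ^ j.val := by
  have h := D_x j.val i
  have h1 : Fin.ofNat 7 j.val = j := by
    apply Fin.ext
    simp [Fin.ofNat, Nat.mod_eq_of_lt j.2]
  rwa [h1] at h

theorem D_xi (j i : Fin 7) : D i * (x ^ j.val)⁻¹ = (x ^ j.val)⁻¹ * D (i + j) := by
  have h := D_xj j i
  rw [eq_inv_mul_iff_mul_eq, ← mul_assoc, h, mul_assoc, mul_inv_cancel, mul_one]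

theorem D_shift (j i : Fin 7) (v : V) : R (D i) (R (x ^ j.val)⁻¹ v) = R (x ^ j.val)⁻¹ (R (D (i + j)) v) := by
  rw [← R_mul, D_xi, R_mul]

/-- the `j`-th shift of a vector -/
def sh (R : J1 →* Module.End k V) (j : Fin 7) (u : V) : V := R (x ^ j.val)⁻¹ u

theorem D_sh {u : V} (hu : u ∈ L0 R) (i j : Fin 7) : R (D i) (sh R j u) = s k (i + j) • sh R j u := by
  rw [sh, D_shift, hu (i + j), map_smul]

theorem sum_s : (1 : k) + ∑ i, s k i = 0 := by
  simp [Fin.sum_univ_seven, s]

theorem sum_s_shift (i : Fin 7) : ∑ j, s k (i + j) = -1 := by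
  fin_cases i <;> simp [Fin.sum_univ_seven, s]

theorem sum_ss (j : Fin 7) (hj : j ≠ 0) : (1 : k) + ∑ i, s k i * s k (i + j) = 0 := by
  revert hj
  fin_cases j <;> intro hj <;> first | (exfalso; exact hj rfl) | (simp [Fin.sum_univ_seven, s])

theorem sum_sq : (1 : k) + ∑ i, s k i * s k i = 8 := by
  simp [Fin.sum_univ_seven, s]
  norm_num

theorem A_V0 {v : V} (hv : v ∈ V0 R) : A R v = 0 := by
  unfold A
  simp only [mem_V0.1 hv]
  rw [← Finset.sum_smul]
  nth_rewrite 1 [← one_smul k v]
  rw [← add_smul, sum_s, zero_smul]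

theorem A_L0 {v : V} (hv : v ∈ L0 R) : A R v = (8 : k) • v := by
  unfold A
  simp only [mem_L0.1 hv, smul_smul]
  rw [← Finset.sum_smul]
  nth_rewrite 1 [← one_smul k v]
  rw [← add_smul, sum_sq]

theorem A_sh {v : V} (hv : v ∈ L0 R) {j : Fin 7} (hj : j ≠ 0) : A R (sh R j v) = 0 := by
  unfold A
  simp only [D_sh hv, smul_smul]
  rw [← Finset.sum_smul]
  nth_rewrite 1 [← one_smul k (sh R j v)]
  rw [← add_smul, sum_ss j hj, zero_smul]

theorem B_V0 {v : V} (hv : v ∈ V0 R) : B R v = (8 : k) • v := by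
  unfold B
  simp only [mem_V0.1 hv]
  rw [Finset.sum_const, Finset.card_univ, Fintype.card_fin, ← Nat.cast_smul_eq_nsmul k]
  nth_rewrite 1 [← one_smul k v]
  rw [← add_smul]
  norm_num

theorem B_sh {v : V} (hv : v ∈ L0 R) (j : Fin 7) : B R (sh R j v) = 0 := by
  unfold B
  simp only [D_sh hv]
  rw [← Finset.sum_smul]
  nth_rewrite 1 [← one_smul k (sh R j v)]
  have h : ∑ i, s k (i + j) = -1 := by
    rw [← sum_s_shift j]
    exact Finset.sum_congr rfl fun i _ => by rw [add_comm]
  rw [← add_smul, h, add_neg_cancel, zero_smul]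

theorem A_add (v v' : V) : A R (v + v') = A R v + A R v' := by
  unfold A
  simp only [map_add, smul_add, Finset.sum_add_distrib]
  abel

theorem A_smul (c : k) (v : V) : A R (c • v) = c • A R v := by
  unfold A
  simp only [map_smul, smul_add, Finset.smul_sum]
  congr 1
  exact Finset.sum_congr rfl fun i _ => smul_comm _ _ _

theorem B_add (v v' : V) : B R (v + v') = B R v + B R v' := by
  unfold B
  simp only [map_add, Finset.sum_add_distrib]
  abel

theorem B_smul (c : k) (v : V) : B R (c • v) = c • B R v := by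
  unfold B
  simp only [map_smul, smul_add, Finset.smul_sum]

theorem sh_A (j : Fin 7) (v : V) : sh R j (A R (R (x ^ j.val) v)) = v + ∑ i, s k (i + j) • R (D i) v := by
  unfold A sh
  rw [map_add, R_inv, map_sum]
  congr 1
  symm
  refine Fintype.sum_equiv (Equiv.addRight j) _ _ fun i => ?_
  rw [Equiv.coe_addRight, map_smul]
  congr 1
  rw [← D_shift, R_inv]

/-- **the decomposition** -/
theorem decomp (v : V) : (8 : k) • v = B R v + ∑ j, sh R j (A R (R (x ^ j.val) v)) := by
  simp only [sh_A]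
  rw [Finset.sum_add_distrib, Finset.sum_comm]
  simp only [← Finset.sum_smul, sum_s_shift]
  rw [Finset.sum_const, Finset.card_univ, Fintype.card_fin, ← Nat.cast_smul_eq_nsmul k]
  unfold B
  simp only [neg_smul, one_smul, Finset.sum_neg_distrib]
  rw [show (8 : k) = 1 + (7 : ℕ) by norm_num, add_smul, one_smul]
  abel

end
end Cfsg.Agent.H179.JOne
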