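import Cfsg.Agent.H179.JoneC

/-!
# `J₁`: `dim V = dim V0 + 7 dim L0` (helper179)
-/

set_option autoImplicit false
set_option linter.unusedSectionVars false

namespace Cfsg.Agent.H179.JOne

open Cfsg.Spor (jankoX jankoY J1)
open Module

variable {k : Type*} [Field k] {V : Type*} [AddCommGroup V] [Module k V] {R : J1 →* Module.End k V}

theorem x_pow_seven : x ^ 7 = 1 := by
  have h := x7
  change x * (x * (x * (x * (x * (x * (x * 1)))))) = 1 at h
  rw [← h]
  simp only [pow_succ, pow_zero, mul_assoc, mul_one, one_mul]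

theorem x_pow_mod (n : ℕ) : x ^ (n % 7) = x ^ n := by
  conv_rhs => rw [← Nat.mod_add_div n 7, pow_add, pow_mul, x_pow_seven, one_pow, mul_one]

theorem xm_xj (m j : Fin 7) : x ^ m.val * (x ^ j.val)⁻¹ = (x ^ (j - m).val)⁻¹ := by
  rw [mul_inv_eq_iff_eq_mul, eq_comm, inv_mul_eq_iff_eq_mul, ← pow_add, ← x_pow_mod ((j - m).val + m.val)]
  congr 1
  have h : ((j - m) + m).val = j.val := by rw [sub_add_cancel]
  rw [Fin.val_add] at h
  exact h.symm

theorem R_x_sh (m j : Fin 7) (u : V) : R (x ^ m.val) (sh R j u) = sh R (j - m) u := by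
  rw [sh, sh, ← R_mul, xm_xj]

theorem sh_zero (u : V) : sh R 0 u = u := by
  rw [sh]
  simp

theorem sh_map_zero (j : Fin 7) : sh R j (0 : V) = 0 := map_zero _

theorem sh_add (j : Fin 7) (u u' : V) : sh R j (u + u') = sh R j u + sh R j u' := map_add _ _ _
theorem sh_smul (j : Fin 7) (c : k) (u : V) : sh R j (c • u) = c • sh R j u := map_smul _ _ _

theorem A_zero : A R (0 : V) = 0 := by
  have h := A_smul (R := R) (0 : k) (0 : V)
  rwa [zero_smul, zero_smul] at h

theorem B_zero : B R (0 : V) = 0 := by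
  have h := B_smul (R := R) (0 : k) (0 : V)
  rwa [zero_smul, zero_smul] at h

theorem A_sum {ι : Type*} (t : Finset ι) (f : ι → V) : A R (∑ i ∈ t, f i) = ∑ i ∈ t, A R (f i) := by
  classical
  induction t using Finset.induction_on with
  | empty => simpa using A_zero
  | insert a t ha ih => rw [Finset.sum_insert ha, Finset.sum_insert ha, A_add, ih]

theorem B_sum {ι : Type*} (t : Finset ι) (f : ι → V) : B R (∑ i ∈ t, f i) = ∑ i ∈ t, B R (f i) := by
  classical
  induction t using Finset.induction_on with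
  | empty => simpa using B_zero
  | insert a t ha ih => rw [Finset.sum_insert ha, Finset.sum_insert ha, B_add, ih]

/-- the value of `A` on a sum of shifts -/
theorem A_x_sum {c : Fin 7 → V} (hc : ∀ j, c j ∈ L0 R) (m : Fin 7) :
    A R (R (x ^ m.val) (∑ j, sh R j (c j))) = (8 : k) • c m := by
  rw [map_sum, A_sum, Finset.sum_eq_single m]
  · rw [R_x_sh, sub_self, sh_zero, A_L0 (hc m)]
  · intro j _ hj
    rw [R_x_sh, A_sh (hc j) (sub_ne_zero.2 hj)]
  · intro h
    exact absurd (Finset.mem_univ m) h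

theorem eight_ne (h2 : (2 : k) ≠ 0) : (8 : k) ≠ 0 := by
  have h : (8 : k) = 2 ^ 3 := by norm_num
  rw [h]
  exact pow_ne_zero 3 h2

/-- `V0 × L0 ^ 7 → V` -/
def Phi (R : J1 →* Module.End k V) : (V0 R × (Fin 7 → L0 R)) →ₗ[k] V where
  toFun p := p.1.1 + ∑ j, sh R j (p.2 j).1
  map_add' p q := by
    simp only [Prod.fst_add, Prod.snd_add, Pi.add_apply, Submodule.coe_add, sh_add, Finset.sum_add_distrib]
    abel
  map_smul' c p := by
    simp only [Prod.smul_fst, Prod.smul_snd, Pi.smul_apply, Submodule.coe_smul, sh_smul, smul_add, Finset.smul_sum,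
      RingHom.id_apply]

theorem R_x_V0 (m : Fin 7) {v : V} (hv : v ∈ V0 R) : R (x ^ m.val) v ∈ V0 R := by
  intro i
  have h := D_xj m (i - m)
  rw [sub_add_cancel] at h
  rw [← R_mul, ← h, R_mul, hv]

theorem Phi_injective (h2 : (2 : k) ≠ 0) : Function.Injective (Phi R) := by
  rw [injective_iff_map_eq_zero]
  rintro ⟨v, c⟩ h
  change v.1 + ∑ j, sh R j (c j).1 = 0 at h
  have h8 := eight_ne h2
  have hv : v = 0 := by
    have h1 := congrArg (B R) h
    rw [B_add, B_V0 v.2, B_sum, B_zero, Finset.sum_eq_zero (fun j _ => B_sh (c j).2 j), add_zero] at h1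
    exact Subtype.ext ((smul_eq_zero.1 h1).resolve_left h8)
  subst hv
  rw [Submodule.coe_zero, zero_add] at h
  refine Prod.ext rfl ?_
  funext m
  apply Subtype.ext
  have h1 := A_x_sum (R := R) (c := fun j => (c j).1) (fun j => (c j).2) m
  rw [h, map_zero, A_zero] at h1
  exact (smul_eq_zero.1 h1.symm).resolve_left h8

theorem Phi_surjective (h2 : (2 : k) ≠ 0) : Function.Surjective (Phi R) := by
  intro v
  have h8 := eight_ne h2
  refine ⟨(⟨(8 : k)⁻¹ • B R v, (V0 R).smul_mem _ (B_mem v)⟩,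
    fun j => ⟨(8 : k)⁻¹ • A R (R (x ^ j.val) v), (L0 R).smul_mem _ (A_mem _)⟩), ?_⟩
  change (8 : k)⁻¹ • B R v + ∑ j : Fin 7, sh R j ((8 : k)⁻¹ • A R (R (x ^ j.val) v)) = v
  simp only [sh_smul]
  rw [← Finset.smul_sum, ← smul_add, ← decomp, inv_smul_smul₀ h8]

theorem finrank_eq [FiniteDimensional k V] (h2 : (2 : k) ≠ 0) : finrank k V = finrank k (V0 R) + 7 * finrank k (L0 R) := by
  rw [← (LinearEquiv.ofBijective (Phi R) ⟨Phi_injective h2, Phi_surjective h2⟩).finrank_eq, finrank_prod,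
    finrank_pi_fintype, Finset.sum_const, Finset.card_univ, Fintype.card_fin, smul_eq_mul]

/-- if `L0 = 0` then `2³` acts trivially -/
theorem V0_eq_top (h2 : (2 : k) ≠ 0) (h : L0 R = ⊥) : V0 R = ⊤ := by
  rw [eq_top_iff]
  intro v _
  obtain ⟨⟨v0, c⟩, hv⟩ := Phi_surjective (R := R) h2 v
  have hc : ∀ j, (c j).1 = 0 := fun j => (Submodule.mem_bot k).1 (h ▸ (c j).2)
  change v0.1 + ∑ j, sh R j (c j).1 = v at hv
  simp only [hc] at hv
  rw [Finset.sum_eq_zero (fun j _ => sh_map_zero j), add_zero] at hv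
  rw [← hv]
  exact v0.2

end Cfsg.Agent.H179.JOne
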