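import Cfsg.Agent.H179.JoneD

/-!
# `J₁`: the action of `x, y, w` on the frame (helper179)
-/

set_option autoImplicit false
set_option linter.unusedSectionVars false

namespace Cfsg.Agent.H179.JOne

open Cfsg.Spor (jankoX jankoY J1)
open Module

variable {k : Type*} [Field k] {V : Type*} [AddCommGroup V] [Module k V] {R : J1 →* Module.End k V}

theorem ew_cons2 (l : List Nat) : ew (2 :: l) = w * ew l := rfl
theorem ew_nil : ew [] = 1 := rfl

theorem rel_D : w * (D 6 * (w * (D 1 * w))) = D 1 * (w * (D 6 * (w * (D 1 * (x * x))))) := by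
  have h1 : w * (D 6 * (w * (D 1 * w))) = ew ([2] ++ (wD 6 ++ ([2] ++ (wD 1 ++ [2])))) := by
    rw [ew_append, ew_append, ew_append, ew_append]
    change _ = w * 1 * (_ * (w * 1 * (_ * (w * 1))))
    simp only [mul_one]
    rfl
  have h2 : D 1 * (w * (D 6 * (w * (D 1 * (x * x))))) =
      ew (wD 1 ++ ([2] ++ (wD 6 ++ ([2] ++ (wD 1 ++ [0, 0]))))) := by
    rw [ew_append, ew_append, ew_append, ew_append, ew_append]
    change _ = _ * (w * 1 * (_ * (w * 1 * (_ * (x * (x * 1))))))
    simp only [mul_one]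
    rfl
  rw [h1, h2]
  exact ew_rel (by decide +kernel)

theorem w_sq : w * w = 1 := by
  have h := ww
  change w * (w * 1) = 1 at h
  rwa [mul_one] at h

theorem w_inv : w⁻¹ = w := inv_eq_of_mul_eq_one_left w_sq

theorem w_x : w * x⁻¹ = x * w := by
  have h := wx
  change w * (x * (w * 1)) = x⁻¹ * 1 at h
  rw [mul_one, mul_one] at h
  rw [← h, ← mul_assoc, w_sq, one_mul]

theorem w_xj (n : ℕ) : w * (x ^ n)⁻¹ = x ^ n * w := by
  induction n with
  | zero => simp
  | succ n ih => rw [pow_succ, mul_inv_rev, ← mul_assoc, w_x, mul_assoc, ih, ← mul_assoc, ← pow_succ', ← pow_succ]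

theorem w_y : w * y = y * w := by
  have h := wy
  change w * (y * 1) = y * (w * 1) at h
  rwa [mul_one, mul_one] at h

theorem y_x : y * x = x ^ 4 * y := by
  have h := yx
  change y * (x * 1) = x * (x * (x * (x * (y * 1)))) at h
  rw [mul_one, mul_one] at h
  rw [h]
  simp only [pow_succ, pow_zero, one_mul, mul_assoc]

theorem y_xi : y * x⁻¹ = (x ^ 4)⁻¹ * y := by
  rw [eq_inv_mul_iff_mul_eq, ← mul_assoc, ← y_x, mul_assoc, mul_inv_cancel, mul_one]

theorem y_xj (n : ℕ) : y * (x ^ n)⁻¹ = (x ^ (4 * n))⁻¹ * y := by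
  induction n with
  | zero => simp
  | succ n ih =>
    rw [pow_succ', mul_inv_rev, ← mul_assoc, ih, mul_assoc, y_xi, ← mul_assoc, ← mul_inv_rev, ← pow_add]
    congr 3
    ring

theorem y_cube : y * (y * y) = 1 := by
  have h := yyy
  change y * (y * (y * 1)) = 1 at h
  rwa [mul_one] at h

theorem R_x_sh' (j : Fin 7) (u : V) : R x (sh R j u) = sh R (j - 1) u := by
  have h := R_x_sh (R := R) 1 j u
  rwa [show x ^ (1 : Fin 7).val = x from pow_one x] at h

theorem R_y_sh (j : Fin 7) (u : V) : R y (sh R j u) = sh R (4 * j) (R y u) := by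
  rw [sh, sh, ← R_mul, y_xj, R_mul, ← x_pow_mod (4 * j.val)]
  congr 4

theorem R_w_sh (j : Fin 7) (u : V) : R w (sh R j u) = R (x ^ j.val) (R w u) := by
  rw [sh, ← R_mul, w_xj, R_mul]

/-- `y` preserves `L0` -/
theorem y_L0 {u : V} (hu : u ∈ L0 R) : R y u ∈ L0 R := by
  intro i
  rw [← R_mul, ← y_D, R_mul, hu, map_smul]
  congr 1
  fin_cases i <;> rfl

theorem y_V0 {u : V} (hu : u ∈ V0 R) : R y u ∈ V0 R := by
  intro i
  rw [← R_mul, ← y_D, R_mul, hu]

variable (R)
/-- a combination of the shifts of `u` -/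
def vec (u : V) (f : Fin 7 → k) : V := ∑ i, f i • sh R i u
variable {R}

theorem D_vec {u : V} (hu : u ∈ L0 R) (m : Fin 7) (f : Fin 7 → k) :
    R (D m) (vec R u f) = vec R u fun i => s k (m + i) * f i := by
  unfold vec
  rw [map_sum]
  refine Finset.sum_congr rfl fun i _ => ?_
  rw [map_smul, D_sh hu, smul_smul, mul_comm]

theorem x_vec (u : V) (f : Fin 7 → k) : R x (vec R u f) = vec R u fun i => f (i + 1) := by
  unfold vec
  rw [map_sum]
  refine Fintype.sum_equiv (Equiv.subRight 1) _ _ fun i => ?_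
  rw [map_smul, R_x_sh', Equiv.subRight_apply]
  change _ = f (i - 1 + 1) • _
  rw [sub_add_cancel]

theorem xj_vec (u : V) (j : Fin 7) (f : Fin 7 → k) : R (x ^ j.val) (vec R u f) = vec R u fun i => f (i + j) := by
  unfold vec
  rw [map_sum]
  refine Fintype.sum_equiv (Equiv.subRight j) _ _ fun i => ?_
  rw [map_smul, R_x_sh, Equiv.subRight_apply]
  change _ = f (i - j + j) • _
  rw [sub_add_cancel]

theorem xj_fixed {v : V} (hv : R x v = v) (n : ℕ) : R (x ^ n) v = v := by
  induction n with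
  | zero => rw [pow_zero, map_one]; rfl
  | succ n ih => rw [pow_succ, R_mul, hv, ih]

theorem w_vec {u v0 : V} {c : Fin 7 → k} (hw : R w u = v0 + vec R u c) (hv : R x v0 = v0) (f : Fin 7 → k) :
    R w (vec R u f) = (∑ j, f j) • v0 + vec R u fun i => ∑ j, c (i + j) * f j := by
  conv_lhs => unfold vec
  rw [map_sum]
  have h : ∀ j, R w (f j • sh R j u) = f j • v0 + f j • vec R u fun i => c (i + j) := by
    intro j
    rw [map_smul, R_w_sh, hw, map_add, xj_fixed hv, xj_vec, smul_add]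
  simp only [h]
  rw [Finset.sum_add_distrib, ← Finset.sum_smul]
  congr 1
  unfold vec
  simp only [Finset.smul_sum, Finset.sum_smul]
  rw [Finset.sum_comm]
  refine Finset.sum_congr rfl fun i _ => Finset.sum_congr rfl fun j _ => ?_
  rw [smul_smul, mul_comm]

theorem vec_injective (h2 : (2 : k) ≠ 0) {u : V} (hu : u ∈ L0 R) (hu0 : u ≠ 0) {v v' : V} (hv : v ∈ V0 R) (hv' : v' ∈ V0 R)
    {f g : Fin 7 → k} (h : v + vec R u f = v' + vec R u g) : v = v' ∧ f = g := by
  have h1 : Phi R (⟨v, hv⟩, fun j => ⟨f j • u, (L0 R).smul_mem _ hu⟩) =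
      Phi R (⟨v', hv'⟩, fun j => ⟨g j • u, (L0 R).smul_mem _ hu⟩) := by
    change v + ∑ j, sh R j (f j • u) = v' + ∑ j, sh R j (g j • u)
    simp only [sh_smul]
    exact h
  have h3 := Phi_injective h2 h1
  refine ⟨congrArg (fun p => (p.1 : V)) h3, ?_⟩
  funext j
  have h4 : f j • u = g j • u := congrArg (fun p => ((p.2 j : L0 R) : V)) h3
  exact smul_left_injective k hu0 h4

theorem vec_single (u : V) : vec R u (Pi.single 0 1) = u := by
  unfold vec
  rw [Finset.sum_eq_single 0]
  · rw [Pi.single_eq_same, one_smul, sh_zero]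
  · intro i _ hi
    rw [Pi.single_eq_of_ne hi, zero_smul]
  · intro h
    exact absurd (Finset.mem_univ _) h

end Cfsg.Agent.H179.JOne
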