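import Cfsg.Agent.H179.JoneE

/-!
# `J₁`: the 7-dimensional representation in characteristic 11 (helper179)
-/

set_option autoImplicit false
set_option linter.unusedSectionVars false

namespace Cfsg.Agent.H179.JOne

open Cfsg.Spor (jankoX jankoY J1)
open Module

variable {k : Type*} [Field k] {V : Type*} [AddCommGroup V] [Module k V] {R : J1 →* Module.End k V}

/-- the elimination in degree 7 -/
theorem elim7 {a b e : k} (h11 : (11 : k) = 0)
    (hA : a^2 + 3*b^2 + 3*e^2 - 1 = 0)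
    (hB : a*b + a*e + b^2 + 3*b*e + e^2 = 0)
    (h0 : (-1)*a^3 + (-4)*a*b*e + a*b + 2*a*e^2 + (-1)*a*e + (-1)*b^3 + 2*b^2*e + (-1)*b^2 + 2*b*e^2 + (-1)*b*e + e^3 + e^2 = 0)
    (h1 : (-2)*a^2*b + (-1)*a^2*e + (-1)*a*b^2 + 2*a*b*e + (-1)*a*b + a*e + b^3 + (-3)*b^2*e + b^2 + 4*b*e^2 + (-3)*b*e + e^3 + e^2 = 0)
    (h2 : (-2)*a^2*b + a^2*e + (-1)*a*b^2 + (-4)*a*b*e + (-1)*a*b + (-1)*a*e + b^3 + b^2*e + b^2 + 2*b*e^2 + b*e + 3*e^3 + e^2 = 0)
    (h3 : (-1)*a^2*b + (-2)*a^2*e + (-2)*a*b^2 + 2*a*b*e + (-1)*a*b + a*e^2 + a*e + (-1)*b^3 + 4*b^2*e + (-1)*b^2 + (-3)*b*e^2 + b*e + 3*e^3 + (-1)*e^2 = 0) :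
    a = -2 ∧ b = 1 ∧ e = 3 := by
  refine ⟨?_, ?_, ?_⟩
  · linear_combination (b + (3)*e + (2)) * h3 + ((5)*a*e + (2)*a + (-2)*b^2 + b*e + (-4)*b + (-4)*e^2 + (-5)*e + (4)) * hB + ((-2)*a + (3)*b + (-4)*e + (-1)) * h0 + ((-2)*a^2 + (-2)*a*b + (2)*a*e + (-1)*a + (-2)*e^2 + (-2)) * hA + ((-1)*a + (2)*b + (-3)*e + (-1)) * h1 + ((4)*a + (4)*b + (-1)*e + (4)) * h2 + (a^3*b + (-1)*a^3*e + (2)*a^2*b^2 + a^2*b + a^2*e^2 + a*b^3 + a*b^2*e + a*b^2 + (-3)*a*b*e^2 + a*b*e + (-1)*a*e^3 + (-2)*b^2*e^2 + b^2*e + (2)*b*e^3 + (-2)*b*e + e^4) * h11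
  · linear_combination ((-3)*b + (4)*e + (-2)) * h3 + ((-3)*a*b + (2)*a*e + (5)*a + (-1)*b^2 + b*e + (-1)*b + (5)*e^2 + (-4)*e + (-4)) * hB + (a^2 + (2)*a*e + (-1)*b^2 + (5)*b*e + (-1)*b + (-1)*e^2 + (1)) * hA + (a + (2)*e) * h0 + ((5)*b + (3)) * h1 + ((-4)*b + (2)*e + (-5)) * h2 + (a^2*b*e + (-1)*a^2*b + (-1)*a*b^2*e + (-1)*a*b^2 + (-3)*a*b*e + (-2)*a*e^3 + (2)*b^3*e + (-4)*b^2*e^2 + (5)*b^2*e + (-1)*b*e^3 + (3)*b*e + (-2)*e^4 + (2)*e^3) * h11
  · linear_combination ((-3)*b + (-5)*e) * h3 + ((3)*a^2 + a*b + (-2)*a*e + (-2)*b^2 + (-4)*b*e + (-2)*e^2 + (-1)*e + (3)) * hA + ((5)*a*b + (-1)*a*e + (-1)*a + (3)*b^2 + b*e + (3)*b + (-2)*e^2 + e + (-5)) * hB + ((3)*a + (-5)*b + e) * h0 + ((2)*b + (4)) * h1 + ((3)*a + (4)*b + (1)) * h2 + (a^2*b*e + a^2*b + (-2)*a^2*e^2 + a^2*e + (-1)*a*b^3 + (-3)*a*b^2*e + a*b^2 + a*b*e^2 + (-1)*a*b*e + a*b + (-1)*b^4 + (2)*b^3*e + (-2)*b^3 + b^2*e^2 + (-1)*b^2 +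 (-2)*b*e^2 + (2)*b*e + (2)*e^4 + (-1)*e^3 + (-1)*e^2) * h11

theorem two_ne (h11 : (11 : k) = 0) : (2 : k) ≠ 0 := by
  intro h
  have h1 : (1 : k) = 11 - 5 * 2 := by norm_num
  rw [h11, h] at h1
  simp at h1

/-- the `y`-invariance of the coefficients -/
theorem c_four (h2 : (2 : k) ≠ 0) {u v0 : V} (hu : u ∈ L0 R) (hu0 : u ≠ 0) (hv : v0 ∈ V0 R) {c : Fin 7 → k}
    (hw : R w u = v0 + vec R u c) {l : k} (hl0 : l ≠ 0) (hl : R y u = l • u) (i : Fin 7) : c (4 * i) = c i := by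
  have h1 : R y (R w u) = l • R w u := by
    rw [← R_mul, ← w_y, R_mul, hl, map_smul]
  rw [hw, map_add, smul_add] at h1
  have h2' : R y (vec R u c) = vec R u fun i => l * c (2 * i) := by
    unfold vec
    rw [map_sum]
    refine Fintype.sum_bijective (fun i => 4 * i) (by decide) _ _ fun i => ?_
    rw [map_smul, R_y_sh, hl, sh_smul, smul_smul]
    congr 1
    rw [mul_comm]
    congr 2
    revert i
    decide
  have h3 : l • vec R u c = vec R u fun i => l * c i := by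
    unfold vec
    rw [Finset.smul_sum]
    exact Finset.sum_congr rfl fun i _ => smul_smul _ _ _
  rw [h2', h3] at h1
  have h4 := (vec_injective h2 hu hu0 (y_V0 hv) ((V0 R).smul_mem l hv) h1).2
  have h5 := congrFun h4 (4 * i)
  have h6 := mul_left_cancel₀ hl0 h5
  rw [← h6]
  congr 1
  clear h6 h5
  revert i
  decide

/-- **degree 7** : the action of `w` -/
theorem seven (h11 : (11 : k) = 0) {u : V} (hu : u ∈ L0 R) (hu0 : u ≠ 0) {c : Fin 7 → k}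
    (hw : R w u = vec R u c) {l : k} (hl0 : l ≠ 0) (hl : R y u = l • u) : c = ![-2, 1, 1, 3, 1, 3, 3] := by
  have h2 := two_ne h11
  have hw' : R w u = 0 + vec R u c := by rw [zero_add, hw]
  have hz : R x (0 : V) = 0 := map_zero _
  have hW : ∀ f : Fin 7 → k, R w (vec R u f) = vec R u fun i => ∑ j, c (i + j) * f j := by
    intro f
    rw [w_vec hw' hz, smul_zero, zero_add]
  have h4 := c_four h2 hu hu0 (V0 R).zero_mem hw' hl0 hl
  have c4 : c 4 = c 1 := h4 1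
  have c2 : c 2 = c 4 := h4 4
  have c5 : c 5 = c 3 := h4 3
  have c6 : c 6 = c 5 := h4 5
  have inj : ∀ {f g : Fin 7 → k}, vec R u f = vec R u g → f = g := by
    intro f g h
    refine (vec_injective h2 hu hu0 (V0 R).zero_mem (V0 R).zero_mem (f := f) (g := g) ?_).2
    rw [h]
  -- `w² = 1`
  have e1 : R w (R w u) = u := by
    rw [← R_mul, w_sq, map_one]
    rfl
  rw [hw, hW] at e1
  nth_rewrite 2 [← vec_single (R := R) u] at e1
  have f1 := inj e1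
  -- the relation
  have e3 : R x (R x u) = vec R u (Pi.single 5 1) := by
    nth_rewrite 1 [← vec_single (R := R) u]
    rw [x_vec, x_vec]
    congr 1
    funext i
    fin_cases i <;> rfl
  have e2 := congrArg (fun g => R g u) rel_D
  simp only [R_mul] at e2
  rw [hw, D_vec hu, hW, D_vec hu, hW, e3, D_vec hu, hW, D_vec hu, hW, D_vec hu] at e2
  have f2 := inj e2
  clear e1 e2 e3 hW hw hw' hz inj h4 hl
  have hA := congrFun f1 0
  have hB := congrFun f1 1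
  have h0 := congrFun f2 0
  have h1 := congrFun f2 1
  have h2' := congrFun f2 2
  have h3 := congrFun f2 3
  clear f1 f2
  simp only [Fin.sum_univ_seven, s, Fin.isValue, Matrix.cons_val, Fin.reduceAdd, Pi.single_eq_same, ne_eq, Fin.reduceEq,
    not_false_eq_true, Pi.single_eq_of_ne, add_zero, zero_add, one_ne_zero, mul_one, mul_zero] at hA hB h0 h1 h2' h3
  rw [c6, c5, c2, c4] at hA hB h0 h1 h2' h3
  obtain ⟨ha, hb, he⟩ := elim7 (a := c 0) (b := c 1) (e := c 3) h11 (by linear_combination hA)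
    (by linear_combination hB) (by linear_combination h0) (by linear_combination h1) (by linear_combination h2')
    (by linear_combination h3)
  funext i
  fin_cases i
  · exact ha
  · exact hb
  · exact (c2.trans c4).trans hb
  · exact he
  · exact c4.trans hb
  · exact c5.trans he
  · exact (c6.trans c5).trans he

end Cfsg.Agent.H179.JOne
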