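import Mathlib

set_option autoImplicit false

namespace Cfsg.Agent.H179.JOne

/-- the table of the 3-form -/
def tt (m n : Fin 7) : ℤ :=
  if (m, n) = (1, 3) ∨ (m, n) = (2, 6) ∨ (m, n) = (4, 5) then 1
  else if (m, n) = (3, 1) ∨ (m, n) = (6, 2) ∨ (m, n) = (5, 4) then -1 else 0

def T3 (a b c : Fin 7) : ℤ := tt (b - a) (c - a)

def C7 : Fin 7 → ℤ := ![-2, 1, 1, 3, 1, 3, 3]

theorem T3_swap12 : ∀ a b c, T3 b a c = - T3 a b c := by decide
theorem T3_swap23 : ∀ a b c, T3 a c b = - T3 a b c := by decide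

def s7 : Fin 7 → ℤ := ![-1, 1, 1, -1, 1, -1, -1]

theorem T3_D : ∀ a b c, s7 a * s7 b * s7 c * T3 a b c = T3 a b c := by decide

theorem T3_shift (m a b c : Fin 7) : T3 (a + m) (b + m) (c + m) = T3 a b c := by
  rw [T3, T3, add_sub_add_right_eq_sub, add_sub_add_right_eq_sub]

theorem T3_w0 : ∀ j l : Fin 7, 11 ∣ (∑ a, ∑ b, ∑ c, T3 a b c * (C7 a * C7 (b + j) * C7 (c + l))) - T3 0 j l := by
  decide +kernel

theorem T3_w : ∀ i j l : Fin 7, 11 ∣ (∑ a, ∑ b, ∑ c, T3 a b c * (C7 (a + i) * C7 (b + j) * C7 (c + l))) - T3 i j l := by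
  intro i j l
  have h := T3_w0 (j - i) (l - i)
  have e1 : T3 i j l = T3 0 (j - i) (l - i) := by
    have h1 := T3_shift i 0 (j - i) (l - i)
    rwa [zero_add, sub_add_cancel, sub_add_cancel] at h1
  have e2 : (∑ a, ∑ b, ∑ c, T3 a b c * (C7 (a + i) * C7 (b + j) * C7 (c + l))) =
      ∑ a, ∑ b, ∑ c, T3 a b c * (C7 a * C7 (b + (j - i)) * C7 (c + (l - i))) := by
    rw [← Equiv.sum_comp (Equiv.addRight i) fun a => ∑ b, ∑ c, T3 a b c * (C7 a * C7 (b + (j - i)) * C7 (c + (l - i)))]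
    refine Finset.sum_congr rfl fun a _ => ?_
    rw [← Equiv.sum_comp (Equiv.addRight i) fun b => ∑ c, T3 (Equiv.addRight i a) b c *
      (C7 (Equiv.addRight i a) * C7 (b + (j - i)) * C7 (c + (l - i)))]
    refine Finset.sum_congr rfl fun b _ => ?_
    rw [← Equiv.sum_comp (Equiv.addRight i) fun c => T3 (Equiv.addRight i a) (Equiv.addRight i b) c *
      (C7 (Equiv.addRight i a) * C7 (Equiv.addRight i b + (j - i)) * C7 (c + (l - i)))]
    refine Finset.sum_congr rfl fun c _ => ?_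
    simp only [Equiv.coe_addRight]
    rw [T3_shift, add_add_sub_cancel, add_add_sub_cancel]
  rw [e1, e2]
  exact h

end Cfsg.Agent.H179.JOne
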