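import Cfsg.Agent.H179.JoneF
import Cfsg.Agent.H179.JoneG
import Cfsg.Agent.H856.Tri

/-!
# `J₁ < G₂(11)`: the invariant alternating 3-form in dimension 7 (helper179)
-/

set_option autoImplicit false
set_option linter.unusedSectionVars false

namespace Cfsg.Agent.H179.JOne

open Cfsg.Spor (jankoX jankoY J1)
open Module Cfsg.Agent.H179.G2 Cfsg.Agent.H856.Tri

variable {k : Type*} [Field k] {V : Type*} [AddCommGroup V] [Module k V] {R : J1 →* Module.End k V}

theorem linInd (h2 : (2 : k) ≠ 0) {u : V} (hu : u ∈ L0 R) (hu0 : u ≠ 0) : LinearIndependent k fun i => sh R i u := by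
  rw [Fintype.linearIndependent_iff]
  intro g hg
  have h : (0 : V) + vec R u g = 0 + vec R u 0 := by
    congr 1
    rw [vec, hg, vec]
    simp
  have h3 := (vec_injective h2 hu hu0 (V0 R).zero_mem (V0 R).zero_mem h).2
  exact fun i => congrFun h3 i

/-- the frame as a basis -/
noncomputable def bs [FiniteDimensional k V] (h2 : (2 : k) ≠ 0) {u : V} (hu : u ∈ L0 R) (hu0 : u ≠ 0)
    (hn : finrank k V = 7) : Basis (Fin 7) k V :=
  basisOfLinearIndependentOfCardEqFinrank (linInd h2 hu hu0) (by rw [Fintype.card_fin, hn])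

theorem key {k : Type*} [Field k] (T : Fin 7 → Fin 7 → Fin 7 → k) (P : Fin 7 → Fin 7 → k) (X Y Z : Fin 7 → k) :
    ∑ a, ∑ b, ∑ c, T a b c * ((∑ i, P a i * X i) * (∑ j, P b j * Y j) * (∑ l, P c l * Z l)) =
      ∑ i, ∑ j, ∑ l, (∑ a, ∑ b, ∑ c, T a b c * (P a i * P b j * P c l)) * (X i * Y j * Z l) := by
  have h3 : ∀ A B C : Fin 7 → k, (∑ i, A i) * (∑ j, B j) * (∑ l, C l) = ∑ i, ∑ j, ∑ l, A i * B j * C l := by
    intro A B C
    rw [Finset.sum_mul_sum, Finset.sum_mul]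
    refine Finset.sum_congr rfl fun i _ => ?_
    rw [Finset.sum_mul]
    refine Finset.sum_congr rfl fun j _ => ?_
    rw [Finset.mul_sum]
  have hL : ∑ a, ∑ b, ∑ c, T a b c * ((∑ i, P a i * X i) * (∑ j, P b j * Y j) * (∑ l, P c l * Z l)) =
      ∑ p : Fin 7 × Fin 7 × Fin 7, ∑ q : Fin 7 × Fin 7 × Fin 7,
        T p.1 p.2.1 p.2.2 * (P p.1 q.1 * P p.2.1 q.2.1 * P p.2.2 q.2.2) * (X q.1 * Y q.2.1 * Z q.2.2) := by
    simp only [Fintype.sum_prod_type, h3]
    simp only [Finset.mul_sum]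
    refine Finset.sum_congr rfl fun a _ => Finset.sum_congr rfl fun b _ => Finset.sum_congr rfl fun c _ =>
      Finset.sum_congr rfl fun i _ => Finset.sum_congr rfl fun j _ => Finset.sum_congr rfl fun l _ => ?_
    ring
  have hR : ∑ i, ∑ j, ∑ l, (∑ a, ∑ b, ∑ c, T a b c * (P a i * P b j * P c l)) * (X i * Y j * Z l) =
      ∑ q : Fin 7 × Fin 7 × Fin 7, ∑ p : Fin 7 × Fin 7 × Fin 7,
        T p.1 p.2.1 p.2.2 * (P p.1 q.1 * P p.2.1 q.2.1 * P p.2.2 q.2.2) * (X q.1 * Y q.2.1 * Z q.2.2) := by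
    simp only [Fintype.sum_prod_type, Finset.sum_mul]
  rw [hL, hR, Finset.sum_comm]

section
variable [FiniteDimensional k V] (h2 : (2 : k) ≠ 0) {u : V} (hu : u ∈ L0 R) (hu0 : u ≠ 0) (hn : finrank k V = 7)

theorem bs_apply (i : Fin 7) : bs h2 hu hu0 hn i = sh R i u := by
  rw [bs, coe_basisOfLinearIndependentOfCardEqFinrank]

theorem coord_vec (f : Fin 7 → k) (a : Fin 7) : (bs h2 hu hu0 hn).coord a (vec R u f) = f a := by
  have h : vec R u f = ∑ i, f i • bs h2 hu hu0 hn i := by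
    rw [vec]
    exact Finset.sum_congr rfl fun i _ => by rw [bs_apply]
  rw [h, Basis.coord_apply, Basis.repr_sum_self]

theorem vec_coord (v : V) : vec R u (fun i => (bs h2 hu hu0 hn).coord i v) = v := by
  conv_rhs => rw [← (bs h2 hu hu0 hn).sum_repr v]
  rw [vec]
  exact Finset.sum_congr rfl fun i _ => by rw [bs_apply]; rfl

/-- the 3-form -/
noncomputable def f3 : V →ₗ[k] V →ₗ[k] V →ₗ[k] k :=
  ofTable (fun a b c => (T3 a b c : k)) fun a => (bs h2 hu hu0 hn).coord a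

theorem f3_alt : IsAltForm (f3 h2 hu hu0 hn) :=
  ofTable_isAlt h2 _ (fun a b c => by rw [T3_swap12]; push_cast; rfl) (fun a b c => by rw [T3_swap23]; push_cast; rfl)

theorem f3_x (x' y' z' : V) : f3 h2 hu hu0 hn (R x x') (R x y') (R x z') = f3 h2 hu hu0 hn x' y' z' := by
  refine ofTable_inv (Equiv.addRight 1) (fun _ => 1) ?_ ?_ x' y' z'
  · intro a v
    conv_lhs => rw [← vec_coord h2 hu hu0 hn v, x_vec, coord_vec]
    rw [one_mul]
    rfl
  · intro a b c
    rw [one_mul, one_mul, one_mul]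
    change _ = ((T3 (a + 1) (b + 1) (c + 1) : ℤ) : k)
    rw [T3_shift]

theorem s_cast (i : Fin 7) : ((s7 i : ℤ) : k) = s k i := by
  fin_cases i <;> simp [s7, s]

theorem d_eq : D 0 = d := by
  rw [D]
  change d * 1 = d
  rw [mul_one]

theorem f3_d (x' y' z' : V) : f3 h2 hu hu0 hn (R d x') (R d y') (R d z') = f3 h2 hu hu0 hn x' y' z' := by
  refine ofTable_inv (Equiv.refl _) (fun a => s k a) ?_ ?_ x' y' z'
  · intro a v
    conv_lhs => rw [← vec_coord h2 hu hu0 hn v, ← d_eq, D_vec hu, coord_vec, zero_add]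
    rfl
  · intro a b c
    rw [← s_cast, ← s_cast, ← s_cast, ← Int.cast_mul, ← Int.cast_mul, ← Int.cast_mul, T3_D]
    rfl

theorem C_cast (i : Fin 7) : ((C7 i : ℤ) : k) = (![-2, 1, 1, 3, 1, 3, 3] : Fin 7 → k) i := by
  fin_cases i <;> simp [C7]

theorem T3_w' (h11 : (11 : k) = 0) (i j l : Fin 7) :
    ∑ a, ∑ b, ∑ c, (T3 a b c : k) * ((C7 (a + i) : k) * (C7 (b + j) : k) * (C7 (c + l) : k)) = (T3 i j l : k) := by
  obtain ⟨m, hm⟩ := T3_w i j l
  have h := congrArg (Int.cast : ℤ → k) hm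
  push_cast at h
  rw [h11, zero_mul] at h
  linear_combination h

theorem f3_w (h11 : (11 : k) = 0) (hw : R w u = vec R u ![-2, 1, 1, 3, 1, 3, 3]) (x' y' z' : V) :
    f3 h2 hu hu0 hn (R w x') (R w y') (R w z') = f3 h2 hu hu0 hn x' y' z' := by
  have hw' : R w u = 0 + vec R u ![-2, 1, 1, 3, 1, 3, 3] := by rw [zero_add, hw]
  have hz : R x (0 : V) = 0 := map_zero _
  have hc : ∀ (a : Fin 7) (v : V), (bs h2 hu hu0 hn).coord a (R w v) =
      ∑ j, (C7 (a + j) : k) * (bs h2 hu hu0 hn).coord j v := by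
    intro a v
    conv_lhs => rw [← vec_coord h2 hu hu0 hn v, w_vec hw' hz, smul_zero, zero_add, coord_vec]
    exact Finset.sum_congr rfl fun j _ => by rw [C_cast]
  rw [f3, ofTable_apply, ofTable_apply]
  simp only [hc]
  rw [key (fun a b c => (T3 a b c : k)) (fun a j => (C7 (a + j) : k))]
  simp only [T3_w' h11]

end

end Cfsg.Agent.H179.JOne
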