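import Cfsg.Agent.H179.JoneH
import Cfsg.Agent.H1.TJ1

/-!
# `J₁` in dimension 7, characteristic 11, for a core: the invariant alternating 3-form (helper179)
-/

set_option autoImplicit false
set_option linter.unusedSectionVars false

namespace Cfsg.Agent.H179.JOne

open Cfsg.Spor (jankoX jankoY J1)
open Module Cfsg.Agent.H179.G2 Cfsg.Agent.H856.Tri Cfsg.Geo Cfsg.Agent.H915.LD

section gen
variable {k : Type*} [Field k] {V : Type*} [AddCommGroup V] [Module k V] {R : J1 →* Module.End k V}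

/-- coordinates when the weight space is a line -/
theorem exists_coord (h2 : (2 : k) ≠ 0) {u : V} (hu : u ∈ L0 R) (hu0 : u ≠ 0) (hb : finrank k (L0 R) = 1) (v : V) :
    ∃ v0 ∈ V0 R, ∃ c : Fin 7 → k, v = v0 + vec R u c := by
  obtain ⟨⟨v0, c⟩, hv⟩ := Phi_surjective (R := R) h2 v
  have h1 : ∀ j, ∃ t : k, t • u = (c j).1 := by
    intro j
    have hne : (⟨u, hu⟩ : L0 R) ≠ 0 := fun h => hu0 (congrArg Subtype.val h)
    obtain ⟨t, ht⟩ := (finrank_eq_one_iff_of_nonzero' (⟨u, hu⟩ : L0 R) hne).1 hb (c j)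
    exact ⟨t, congrArg Subtype.val ht⟩
  choose t ht using h1
  refine ⟨v0.1, v0.2, t, ?_⟩
  rw [← hv]
  change v0.1 + ∑ j, sh R j (c j).1 = _
  congr 1
  rw [vec]
  exact Finset.sum_congr rfl fun j _ => by rw [← ht, sh_smul]

theorem exists_y (hb : finrank k (L0 R) = 1) {u : V} (hu : u ∈ L0 R) (hu0 : u ≠ 0) :
    ∃ l : k, l ≠ 0 ∧ R y u = l • u := by
  have hne : (⟨u, hu⟩ : L0 R) ≠ 0 := fun h => hu0 (congrArg Subtype.val h)
  obtain ⟨t, ht⟩ := (finrank_eq_one_iff_of_nonzero' (⟨u, hu⟩ : L0 R) hne).1 hb ⟨R y u, y_L0 hu⟩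
  have h1 : t • u = R y u := congrArg Subtype.val ht
  refine ⟨t, ?_, h1.symm⟩
  rintro rfl
  rw [zero_smul] at h1
  apply hu0
  have h2 : R y⁻¹ (R y u) = u := R_inv y u
  rw [← h1, map_zero] at h2
  exact h2.symm

theorem L0_ne_bot (h2 : (2 : k) ≠ 0) (hd : R d ≠ 1) : L0 R ≠ ⊥ := by
  intro h
  apply hd
  have h1 := V0_eq_top h2 h
  ext v
  have h3 : v ∈ V0 R := by rw [h1]; trivial
  have h4 := h3 0
  rw [d_eq] at h4
  exact h4

/-- **degree 7** -/
theorem exists_form7 [FiniteDimensional k V] (h11 : (11 : k) = 0) (hd : R d ≠ 1) (hn : finrank k V = 7) :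
    ∃ f : V →ₗ[k] V →ₗ[k] V →ₗ[k] k, IsAltForm f ∧ f ≠ 0 ∧ ∀ g x' y' z', f (R g x') (R g y') (R g z') = f x' y' z' := by
  have h2 := two_ne h11
  have hL := L0_ne_bot h2 hd
  obtain ⟨u, hu, hu0⟩ := Submodule.exists_mem_ne_zero_of_ne_bot hL
  have h1 := finrank_eq (R := R) h2
  have hpos : finrank k (L0 R) ≠ 0 := by
    intro h0
    exact hL (Submodule.finrank_eq_zero.1 h0)
  have hb : finrank k (L0 R) = 1 := by omega
  have hf : finrank k (V0 R) = 0 := by omega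
  have hV0 : V0 R = ⊥ := Submodule.finrank_eq_zero.1 hf
  obtain ⟨v0, hv0, c, hc⟩ := exists_coord h2 hu hu0 hb (R w u)
  have hv0' : v0 = 0 := (Submodule.mem_bot k).1 (hV0 ▸ hv0)
  rw [hv0', zero_add] at hc
  obtain ⟨l, hl0, hl⟩ := exists_y hb hu hu0
  have hc' := seven h11 hu hu0 hc hl0 hl
  rw [hc'] at hc
  refine ⟨f3 h2 hu hu0 hn, f3_alt h2 hu hu0 hn, ?_, ?_⟩
  · intro h0
    have h3 : f3 h2 hu hu0 hn (sh R 0 u) (sh R 1 u) (sh R 3 u) = 0 := by rw [h0]; rfl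
    rw [f3, ofTable_apply] at h3
    have h4 : ∀ a i : Fin 7, (bs h2 hu hu0 hn).coord a (sh R i u) = if i = a then 1 else 0 := by
      intro a i
      rw [← bs_apply h2 hu hu0 hn, Basis.coord_apply, Basis.repr_self, Finsupp.single_apply]
    simp only [h4, mul_ite, mul_one, mul_zero, Finset.sum_ite_eq, Finset.mem_univ, if_true] at h3
    simp [T3, tt] at h3
  · let K : Subgroup J1 :=
      { carrier := {g | ∀ x' y' z', f3 h2 hu hu0 hn (R g x') (R g y') (R g z') = f3 h2 hu hu0 hn x' y' z'}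
        one_mem' := fun x' y' z' => by rw [map_one]; rfl
        mul_mem' := fun {a b} ha hb x' y' z' => by rw [R_mul, R_mul, R_mul, ha, hb]
        inv_mem' := fun {a} ha x' y' z' => by rw [← ha, R_inv', R_inv', R_inv'] }
    have hK : K = ⊤ := closure_eq_top (f3_x h2 hu hu0 hn) (f3_d h2 hu hu0 hn) (f3_w h2 hu hu0 hn h11 hc)
    intro g
    exact (hK ▸ Subgroup.mem_top g : g ∈ K)

end gen

universe u v

variable {ι : Type} [Fintype ι] [DecidableEq ι] {F : Type u} [Field F] {P : Subgroup (Matrix.GeneralLinearGroup ι F)}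

/-- the representation of `J₁` -/
def rp (φ : J1 →* P) : J1 →* Module.End F (ι → F) :=
  (Matrix.toLinAlgEquiv' : Matrix ι ι F ≃ₐ[F] Module.End F (ι → F)).toMonoidHom.comp
    ((Units.coeHom (Matrix ι ι F)).comp (P.subtype.comp φ))

theorem rp_apply (φ : J1 →* P) (g : J1) (v : ι → F) :
    rp φ g v = (((φ g : P) : Matrix.GeneralLinearGroup ι F) : Matrix ι ι F).mulVec v := rfl

theorem exists_hom (hC : Core P) (e : Soc P ≃* J1) :
    ∃ φ : J1 →* P, Function.Surjective φ ∧ ∀ z, H1.RealCover.pj P e (φ z) = z := by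
  have : Finite J1 := H413.JOneLocal.fin_J1
  refine H1.RealCover.cover_hom hC e (S2039.result : HasCyclicSchurMultiplier J1 1) (MonoidHom.id J1)
    ⟨Function.surjective_id, ?_, ?_⟩ ?_
  · rw [MonoidHom.ker_id]; exact bot_le
  · rw [MonoidHom.ker_id]; exact bot_le
  · rw [MonoidHom.ker_id, Subgroup.card_bot, Nat.card_congr (Multiplicative.toAdd (α := ZMod 1)), Nat.card_zmod]

theorem rp_d_ne (φ : J1 →* P) {e : Soc P ≃* J1} (hφ : ∀ z, H1.RealCover.pj P e (φ z) = z) : rp φ d ≠ 1 := by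
  intro h
  have h1 : (((φ d : P) : Matrix.GeneralLinearGroup ι F) : Matrix ι ι F) = 1 := by
    apply Matrix.toLin'.injective
    rw [Matrix.toLin'_one]
    exact h
  have h2 : φ d = 1 := Subtype.ext (Units.ext h1)
  have h3 := hφ d
  rw [h2, map_one] at h3
  apply d_ne
  change d * 1 = 1
  rw [mul_one, ← h3]

/-- **`J₁`, n = 7, p = 11 : an invariant alternating 3-form** -/
theorem j1_form (hC : Core P) (e : Soc P ≃* J1) (h11 : (11 : F) = 0) (hn : Fintype.card ι = 7) :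
    ∃ f : (ι → F) →ₗ[F] (ι → F) →ₗ[F] (ι → F) →ₗ[F] F, IsAltForm f ∧ f ≠ 0 ∧
      ∀ g ∈ P, ∀ x y z, f ((g : Matrix ι ι F).mulVec x) ((g : Matrix ι ι F).mulVec y) ((g : Matrix ι ι F).mulVec z) =
        f x y z := by
  obtain ⟨φ, hs, hφ⟩ := exists_hom hC e
  obtain ⟨f, hf, hf0, hinv⟩ := exists_form7 (R := rp φ) h11 (rp_d_ne φ hφ) (by rw [finrank_fintype_fun_eq_card, hn])
  refine ⟨f, hf, hf0, ?_⟩
  intro g hg x' y' z'
  obtain ⟨j, hj⟩ := hs ⟨g, hg⟩
  have h := hinv j x' y' z'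
  simp only [rp_apply, hj] at h
  exact h

end Cfsg.Agent.H179.JOne
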