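import Cfsg.Agent.H179.JoneI

/-!
# `J₁`, characteristic 11: no irreducible representation of degree 8 (helper179)
-/

set_option autoImplicit false
set_option linter.unusedSectionVars false

namespace Cfsg.Agent.H179.JOne

open Cfsg.Spor (jankoX jankoY J1)
open Module

/-- the elimination in degree 8 -/
theorem elim8 {k : Type*} [Field k] {t z a b e : k} (h11 : (11 : k) = 0)
    (hq : t + a + 3*b + 3*e = 0)
    (hq0 : z + a^2 + 3*b^2 + 3*e^2 + (-1) = 0)
    (hq1 : z + a*b + a*e + b^2 + 3*b*e + e^2 = 0)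
    (hr : t^2 + t*a + (-1)*t*b + (-1)*t*e + t + (-1)*z + (-1)*a^2 + (-4)*a*b + a + b^2 + (-1)*b + 5*e^2 + (-1)*e = 0)
    (hr0 : t*z + (-2)*z*b + z + (-1)*a^3 + (-4)*a*b*e + a*b + 2*a*e^2 + (-1)*a*e + (-1)*b^3 + 2*b^2*e + (-1)*b^2 + 2*b*e^2 + (-1)*b*e + e^3 + e^2 = 0)
    (hr1 : t*z + (-2)*z*b + z + (-2)*a^2*b + (-1)*a^2*e + (-1)*a*b^2 + 2*a*b*e + (-1)*a*b + a*e + b^3 + (-3)*b^2*e + b^2 + 4*b*e^2 + (-3)*b*e + e^3 + e^2 = 0)
    (hr2 : t*z + 2*z*a + (-2)*z*b + (-2)*z*e + (-1)*z + (-2)*a^2*b + a^2*e + (-1)*a*b^2 + (-4)*a*b*e + (-1)*a*b + (-1)*a*e + b^3 + b^2*e + b^2 + 2*b*e^2 + b*e + 3*e^3 + e^2 = 0)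
    (hm : t^3 + (-1)*t^2 + (-2)*t*z + (-5)*z*a + (-3)*z*b + 9*z*e + z = 0) : False := by
  have h : (1 : k) = 0 := by
    linear_combination ((4)*a + (4)*b + (5)*e + (-2)) * hm + ((-4)*t^2*a + (-4)*t^2*b + (-5)*t^2*e + (2)*t^2 + (2)*t*z + (4)*t*a^2 + (5)*t*a*b + (-3)*t*a*e + (-3)*t*a + (-4)*t*b^2 + t*b*e + (4)*t*b + (-4)*t*e^2 + (4)*t*e + (5)*t + (2)*z*b + z*e + (-4)*z + (-4)*a^3 + (5)*a^2*b + (4)*a^2*e + (-2)*a^2 + (-5)*a*b^2 + (-2)*a*b*e + (5)*a*b + (3)*a*e^2 + (-5)*a*e + (-3)*a + (-5)*b^3 + (-4)*b^2*e + (-1)*b^2 + (-1)*b*e^2 + (5)*b*e + (-5)*b + (-2)*e^3 + (-3)*e^2 + (5)*e + (-4)) * hq + ((-3)*z + (-3)*a^2 + (-3)*a*b + (4)*a*e + (-4)*b^2 + (4)*b*e + (-5)*b + (5)*e^2 + (-5)*e + (-1)) * hq0 + (z + (5)*a + (-1)*b^2 + (-2)*b*e + b + (2)*e + (-1)) * hq1 + ((-2)*z + (-2)*a*e + (5)*a + (5)*b^2 + (4)*b*e + (5)*b + (-3)*e^2 + (-5)*e + (4)) * hr + ((4)*a + (4)*b + (-4)*e + (4)) * hr0 + ((3)*a + (-4)*b + (-3)*e + (5))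 * hr1 + (a + (-2)*b + (-3)*e + (4)) * hr2 + (t^2*a*b + (2)*t^2*a*e + t^2*b^2 + (2)*t^2*b*e + (-1)*t^2*b + (2)*t^2*e^2 + (-1)*t^2 + t*z*e + (-1)*t*z + (-2)*t*a^2*b + (-1)*t*a^2*e + (-1)*t*a*b^2 + (-1)*t*a*b*e + t*a*e^2 + (2)*t*a*e + (-1)*t*a + (2)*t*b^3 + (2)*t*b^2*e + (-1)*t*b^2 + t*b*e^2 + (-3)*t*b*e + (-1)*t*b + t*e^3 + (-1)*t*e^2 + (-1)*t*e + (2)*z*a^2 + (4)*z*a*b + (-1)*z*a*e + (-2)*z*a + (2)*z*b^2 + (-5)*z*b*e + (3)*z*b + (-4)*z*e^2 + (3)*z*e + a^4 + (2)*a^3*b + a^3 + (-3)*a^2*b*e + (4)*a^2*b + (-2)*a^2*e^2 + a^2*e + (4)*a*b^3 + (4)*a*b^2*e + (-1)*a*b^2 + (-5)*a*b*e^2 + (-1)*a*b*e + (3)*a*b + (-1)*a*e^3 + (-3)*a*e^2 + (2)*a*e + (3)*b^4 + (2)*b^3 + b^2*e^2 + b^2*e + b^2 + b*e^3 + (-6)*b*e^2 + (2)*b*e + b + (2)*e^4 + (3)*e^3 + (-4)*e^2 + e) * h11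
  exact one_ne_zero h

variable {k : Type*} [Field k] {V : Type*} [AddCommGroup V] [Module k V] {R : J1 →* Module.End k V}

theorem x_V0 {v : V} (hv : v ∈ V0 R) : R x v ∈ V0 R := by
  have h := R_x_V0 (R := R) 1 hv
  rwa [show x ^ (1 : Fin 7).val = x from pow_one x] at h

/-- invariance under the generators -/
theorem inv_of_gens {L : Submodule k V} (hx : ∀ v ∈ L, R x v ∈ L) (hd : ∀ v ∈ L, R d v ∈ L) (hw : ∀ v ∈ L, R w v ∈ L)
    [FiniteDimensional k V] : ∀ g, ∀ v ∈ L, R g v ∈ L := by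
  have inv : ∀ {g : J1}, (∀ v ∈ L, R g v ∈ L) → ∀ v ∈ L, R g⁻¹ v ∈ L := by
    intro g hg v hv
    have h1 : Set.MapsTo (R g) L L := hg
    have hinj : Function.Injective ((R g).restrict h1) := by
      intro a b hab
      have h2 : R g a.1 = R g b.1 := congrArg Subtype.val hab
      have h3 := congrArg (R g⁻¹) h2
      rw [R_inv, R_inv] at h3
      exact Subtype.ext h3
    obtain ⟨⟨u, hu⟩, hv'⟩ := LinearMap.surjective_of_injective hinj ⟨v, hv⟩
    have h4 : R g u = v := congrArg Subtype.val hv'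
    rw [← h4, R_inv]
    exact hu
  let K : Subgroup J1 :=
    { carrier := {g | ∀ v ∈ L, R g v ∈ L}
      one_mem' := fun v hv => by rw [map_one]; exact hv
      mul_mem' := fun {a b} ha hb v hv => by rw [R_mul]; exact ha _ (hb _ hv)
      inv_mem' := fun {a} ha => inv ha }
  have hK : K = ⊤ := closure_eq_top hx hd hw
  intro g
  exact (hK ▸ Subgroup.mem_top g : g ∈ K)

/-- the shifts of `u` span an invariant subspace if `w u` is in it -/
theorem vec_invariant [FiniteDimensional k V] {u : V} (hu : u ∈ L0 R) {c : Fin 7 → k} (hw : R w u = vec R u c) :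
    ∀ g, ∀ v ∈ Set.range (vec R u), R g v ∈ Set.range (vec R u) := by
  let L : Submodule k V :=
    { carrier := Set.range (vec R u)
      add_mem' := by
        rintro _ _ ⟨f, rfl⟩ ⟨g, rfl⟩
        refine ⟨f + g, ?_⟩
        simp only [vec, Pi.add_apply, add_smul, Finset.sum_add_distrib]
      zero_mem' := ⟨0, by simp [vec]⟩
      smul_mem' := by
        rintro t _ ⟨f, rfl⟩
        refine ⟨fun i => t * f i, ?_⟩
        simp only [vec, Finset.smul_sum, smul_smul] }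
  have hw' : R w u = 0 + vec R u c := by rw [zero_add, hw]
  refine inv_of_gens (L := L) ?_ ?_ ?_
  · rintro _ ⟨f, rfl⟩
    exact ⟨_, (x_vec u f).symm⟩
  · rintro _ ⟨f, rfl⟩
    rw [← d_eq]
    exact ⟨_, (D_vec hu 0 f).symm⟩
  · rintro _ ⟨f, rfl⟩
    have h5 := w_vec hw' (map_zero _) f
    rw [smul_zero, zero_add] at h5
    rw [h5]
    exact ⟨_, rfl⟩

theorem vec_mem {u : V} (L : Submodule k V) (h : ∀ i, sh R i u ∈ L) (f : Fin 7 → k) : vec R u f ∈ L :=
  Submodule.sum_mem _ fun i _ => L.smul_mem _ (h i)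

/-- a combination fixed by `x` has constant coefficients -/
theorem const_of_fixed (h2 : (2 : k) ≠ 0) {u : V} (hu : u ∈ L0 R) (hu0 : u ≠ 0) {v0 : V} (hv : v0 ∈ V0 R)
    {g : Fin 7 → k} (h : R x (v0 + vec R u g) = v0 + vec R u g) : R x v0 = v0 ∧ g = fun _ => g 0 := by
  rw [map_add, x_vec] at h
  obtain ⟨h1, h3⟩ := vec_injective h2 hu hu0 (x_V0 hv) hv h
  refine ⟨h1, ?_⟩
  have h4 : ∀ i, g (i + 1) = g i := fun i => congrFun h3 i
  funext i
  have e1 := h4 0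
  have e2 := h4 1
  have e3 := h4 2
  have e4 := h4 3
  have e5 := h4 4
  have e6 := h4 5
  simp only [Fin.isValue, zero_add, Fin.reduceAdd] at e1 e2 e3 e4 e5 e6
  fin_cases i
  · rfl
  · exact e1
  · exact e2.trans e1
  · exact e3.trans (e2.trans e1)
  · exact e4.trans (e3.trans (e2.trans e1))
  · exact e5.trans (e4.trans (e3.trans (e2.trans e1)))
  · exact e6.trans (e5.trans (e4.trans (e3.trans (e2.trans e1))))

theorem eight_aux (h11 : (11 : k) = 0) {u v0 : V} (hu : u ∈ L0 R) (hu0 : u ≠ 0) (hv0 : v0 ∈ V0 R) (hz : v0 ≠ 0)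
    {c : Fin 7 → k} {t z : k} (hw : R w u = v0 + vec R u c) (hx : R x v0 = v0)
    (hg : R w v0 = t • v0 + vec R u fun _ => z) (h4 : ∀ i, c (4 * i) = c i) : False := by
  have h2 := two_ne h11
  have hW : ∀ (τ : k) (f : Fin 7 → k), R w (τ • v0 + vec R u f) =
      (τ * t + ∑ j, f j) • v0 + vec R u fun i => τ * z + ∑ j, c (i + j) * f j := by
    intro τ f
    rw [map_add, map_smul, hg, w_vec hw hx, smul_add, smul_smul, add_smul]
    have h3 : τ • vec R u (fun _ => z) = vec R u fun _ => τ * z := by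
      unfold vec
      rw [Finset.smul_sum]
      exact Finset.sum_congr rfl fun i _ => smul_smul _ _ _
    have h5 : (vec R u fun i => τ * z + ∑ j, c (i + j) * f j) = vec R u (fun _ => τ * z) +
        vec R u fun i => ∑ j, c (i + j) * f j := by
      unfold vec
      rw [← Finset.sum_add_distrib]
      exact Finset.sum_congr rfl fun i _ => add_smul _ _ _
    rw [h3, h5]
    abel
  have hD : ∀ (m : Fin 7) (τ : k) (f : Fin 7 → k), R (D m) (τ • v0 + vec R u f) =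
      τ • v0 + vec R u fun i => s k (m + i) * f i := by
    intro m τ f
    rw [map_add, map_smul, D_vec hu, hv0]
  have inj : ∀ {τ τ' : k} {f g : Fin 7 → k}, τ • v0 + vec R u f = τ' • v0 + vec R u g → τ = τ' ∧ f = g := by
    intro τ τ' f g h
    obtain ⟨h5, h6⟩ := vec_injective h2 hu hu0 ((V0 R).smul_mem τ hv0) ((V0 R).smul_mem τ' hv0) h
    exact ⟨smul_left_injective k hz h5, h6⟩
  have hu' : u = (0 : k) • v0 + vec R u (Pi.single 0 1) := by rw [zero_smul, zero_add, vec_single]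
  have hw1 : R w u = (1 : k) • v0 + vec R u c := by rw [one_smul]; exact hw
  have hv' : v0 = (1 : k) • v0 + vec R u 0 := by
    rw [one_smul, vec]
    simp
  -- `w² = 1` on `u`
  have e1 : R w (R w u) = u := by
    rw [← R_mul, w_sq, map_one]
    rfl
  rw [hw1, hW] at e1
  have f1 := inj (e1.trans hu')
  have c4 : c 4 = c 1 := h4 1
  have c2 : c 2 = c 4 := h4 4
  have c5 : c 5 = c 3 := h4 3
  have c6 : c 6 = c 5 := h4 5
  -- the relation on `u`
  have e3 : R x (R x u) = (0 : k) • v0 + vec R u (Pi.single 5 1) := by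
    rw [zero_smul, zero_add]
    nth_rewrite 1 [← vec_single (R := R) u]
    rw [x_vec, x_vec]
    congr 1
    funext i
    fin_cases i <;> rfl
  have e2 := congrArg (fun g => R g u) rel_D
  simp only [R_mul] at e2
  rw [hw1, hD, hW, hD, hW, e3, hD, hW, hD, hW, hD] at e2
  have f2 := inj e2
  -- the relation on `v0`
  have e4 := congrArg (fun g => R g v0) rel_D
  simp only [R_mul] at e4
  have hg1 : R w v0 = t • v0 + vec R u fun _ => z := hg
  rw [hg1, hD, hW, hD, hW, hx, hx] at e4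
  have e5 : R (D 1) v0 = v0 := hv0 1
  rw [e5, hg1, hD, hW, hD] at e4
  have f3 := inj e4
  have hq := f1.1
  have hq0 := congrFun f1.2 0
  have hq1 := congrFun f1.2 1
  have hr := f2.1
  have hr0 := congrFun f2.2 0
  have hr1 := congrFun f2.2 1
  have hr2 := congrFun f2.2 2
  have hm := f3.1
  clear f1 f2 f3 e1 e2 e3 e4 e5 hW hD inj hu' hw1 hv' hg1 hg hw hx h4 hz hv0 hu hu0
  simp only [Fin.sum_univ_seven, s, Fin.isValue, Matrix.cons_val, Fin.reduceAdd, Pi.single_eq_same, ne_eq, Fin.reduceEq,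
    not_false_eq_true, Pi.single_eq_of_ne, add_zero, zero_add, one_ne_zero, mul_one, mul_zero] at hq hq0 hq1 hr hr0 hr1 hr2 hm
  rw [c6, c5, c2, c4] at hq hq0 hq1 hr hr0 hr1 hr2
  try rw [c6, c5, c2, c4] at hm
  exact elim8 (t := t) (z := z) (a := c 0) (b := c 1) (e := c 3) h11 (by linear_combination hq) (by linear_combination hq0)
    (by linear_combination hq1) (by linear_combination hr) (by linear_combination hr0) (by linear_combination hr1)
    (by linear_combination hr2) (by linear_combination hm)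

/-- **degree 8 is impossible in characteristic 11** -/
theorem eight [FiniteDimensional k V] (h11 : (11 : k) = 0) (hd : R d ≠ 1)
    (hirr : ∀ L : Submodule k V, (∀ g, ∀ v ∈ L, R g v ∈ L) → L = ⊥ ∨ L = ⊤) (hn : finrank k V = 8) : False := by
  have h2 := two_ne h11
  have hL := L0_ne_bot h2 hd
  obtain ⟨u, hu, hu0⟩ := Submodule.exists_mem_ne_zero_of_ne_bot hL
  have h1 := finrank_eq (R := R) h2
  have hpos : finrank k (L0 R) ≠ 0 := by
    intro h0
    exact hL (Submodule.finrank_eq_zero.1 h0)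
  have hb : finrank k (L0 R) = 1 := by omega
  have hf : finrank k (V0 R) = 1 := by omega
  obtain ⟨v0, hv0, c, hw⟩ := exists_coord h2 hu hu0 hb (R w u)
  obtain ⟨l, hl0, hl⟩ := exists_y hb hu hu0
  by_cases hz : v0 = 0
  · rw [hz, zero_add] at hw
    have h3 := vec_invariant hu hw
    let L : Submodule k V := Submodule.span k (Set.range fun i => sh R i u)
    have hLr : ∀ v, v ∈ L ↔ v ∈ Set.range (vec R u) := by
      intro v
      rw [Submodule.mem_span_range_iff_exists_fun]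
      exact Iff.rfl
    have h4 := hirr L (fun g v hv => (hLr _).2 (h3 g v ((hLr v).1 hv)))
    rcases h4 with h4 | h4
    · apply hu0
      have h5 : u ∈ L := (hLr u).2 ⟨_, vec_single u⟩
      rw [h4] at h5
      exact (Submodule.mem_bot k).1 h5
    · have h5 : finrank k L ≤ 7 := by
        have := finrank_range_le_card (R := k) fun i : Fin 7 => sh R i u
        rwa [Fintype.card_fin] at this
      rw [h4, finrank_top, hn] at h5
      omega
  -- `x` fixes `v0`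
  have hspan : ∀ v ∈ V0 R, ∃ t : k, v = t • v0 := by
    intro v hv
    have hne : (⟨v0, hv0⟩ : V0 R) ≠ 0 := fun h => hz (congrArg Subtype.val h)
    obtain ⟨t, ht⟩ := (finrank_eq_one_iff_of_nonzero' (⟨v0, hv0⟩ : V0 R) hne).1 hf ⟨v, hv⟩
    exact ⟨t, (congrArg Subtype.val ht).symm⟩
  obtain ⟨m, hm⟩ := hspan _ (x_V0 hv0)
  obtain ⟨ν, hν⟩ := hspan _ (y_V0 hv0)
  have hν0 : ν ≠ 0 := by
    rintro rfl
    rw [zero_smul] at hν
    apply hz
    rw [← R_inv (R := R) y v0, hν, map_zero]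
  have hpow : ∀ n : ℕ, R (x ^ n) v0 = m ^ n • v0 := by
    intro n
    induction n with
    | zero => rw [pow_zero, map_one, pow_zero, one_smul]; rfl
    | succ n ih => rw [pow_succ, R_mul, hm, map_smul, ih, smul_smul, pow_succ, mul_comm]
  have hm7 : m ^ 7 = 1 := by
    have h3 := hpow 7
    rw [x_pow_seven, map_one] at h3
    have h4 : (m ^ 7 - 1) • v0 = 0 := by
      rw [sub_smul, one_smul, ← h3]
      exact sub_self _
    exact sub_eq_zero.1 ((smul_eq_zero.1 h4).resolve_right hz)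
  have hm4 : m = m ^ 4 := by
    have h3 := congrArg (fun g => R g v0) y_x
    simp only [R_mul] at h3
    rw [hm, map_smul, hν, map_smul, hpow, smul_smul, smul_smul] at h3
    have h4 : (m * ν - ν * m ^ 4) • v0 = 0 := by rw [sub_smul, h3, sub_self]
    have h5 := sub_eq_zero.1 ((smul_eq_zero.1 h4).resolve_right hz)
    rw [mul_comm m ν] at h5
    exact mul_left_cancel₀ hν0 h5
  have hm1 : m = 1 := by
    have h3 : m ≠ 0 := by
      rintro rfl
      norm_num at hm7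
    have h4 : m ^ 3 = 1 := by
      have h5 : m * m ^ 3 = m * 1 := by
        rw [mul_one]
        nth_rewrite 3 [hm4]
        ring
      exact mul_left_cancel₀ h3 h5
    have h5 : m ^ 7 = (m ^ 3) ^ 2 * m := by ring
    rw [h4, hm7] at h5
    rw [one_pow, one_mul] at h5
    exact h5.symm
  have hx : R x v0 = v0 := by rw [hm, hm1, one_smul]
  -- `w v0`
  obtain ⟨v1, hv1, g, hg⟩ := exists_coord h2 hu hu0 hb (R w v0)
  have hfix : R x (R w v0) = R w v0 := by
    have h3 : x * w = w * x⁻¹ := w_x.symm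
    have h4 : R x⁻¹ v0 = v0 := by
      have h5 := R_inv (R := R) x v0
      rwa [hx] at h5
    rw [← R_mul, h3, R_mul, h4]
  rw [hg] at hfix
  obtain ⟨-, hgc⟩ := const_of_fixed h2 hu hu0 hv1 hfix
  obtain ⟨t, ht⟩ := hspan v1 hv1
  obtain ⟨z, hz'⟩ : ∃ z, g 0 = z := ⟨_, rfl⟩
  rw [hz'] at hgc
  rw [hgc, ht] at hg
  have h4 := c_four h2 hu hu0 hv0 hw hl0 hl
  clear hirr hL hb hf hspan hfix hgc hz' ht hm hpow hm7 hm4 hm1 hν hv1 h1 hpos
  exact eight_aux h11 hu hu0 hv0 hz hw hx hg h4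

end Cfsg.Agent.H179.JOne
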