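import Cfsg.Agent.H179.JoneJ

/-!
# `J₁`, odd characteristic `≠ 7`: no irreducible representation of degree `9 ≤ n ≤ 12` (helper179)
-/

set_option autoImplicit false
set_option linter.unusedSectionVars false

namespace Cfsg.Agent.H179.JOne

open Cfsg.Spor (jankoX jankoY J1)
open Cfsg.Agent.SporadicB.J1.Main
open Module

/-- generation by `x`, `2³` and `w 2³ w` -/
theorem closure_eq_top' {K : Subgroup J1} (hx : x ∈ K) (hD : ∀ i, D i ∈ K) (hw : ∀ i, w * D i * w ∈ K) : K = ⊤ := by
  have hY : w * D 4 * w * D 3 * (w * D 4 * w * D 3) = Y := by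
    have h1 : w * D 4 * w * D 3 * (w * D 4 * w * D 3) =
        ew (([2] ++ (wD 4 ++ ([2] ++ wD 3))) ++ ([2] ++ (wD 4 ++ ([2] ++ wD 3)))) := by
      rw [ew_append, ew_append, ew_append, ew_append]
      change _ = (w * 1 * (_ * (w * 1 * _))) * (w * 1 * (_ * (w * 1 * _)))
      simp only [mul_one, mul_assoc]
      rfl
    have h2 : Y = ev [1] := by
      change Y = Y * 1
      rw [mul_one]
    rw [h1, ew_eq, h2]
    exact (rep_ev _).eq (rep_ev _) (by decide +kernel)
  have hY' : Y ∈ K := by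
    rw [← hY]
    exact mul_mem (mul_mem (hw 4) (hD 3)) (mul_mem (hw 4) (hD 3))
  have hX : X ∈ K := by rw [← x_eq]; exact hx
  have h1 : (Subgroup.closure {jankoX, jankoY}) ≤ K.map J1.subtype := by
    rw [Subgroup.closure_le]
    rintro g (rfl | rfl)
    · exact ⟨X, hX, rfl⟩
    · exact ⟨Y, hY', rfl⟩
  rw [eq_top_iff]
  rintro ⟨g, hg⟩ -
  obtain ⟨k, hk, hkg⟩ := h1 hg
  have h2 : k = ⟨g, hg⟩ := Subtype.ext hkg
  rwa [← h2]

variable {k : Type*} [Field k] {V : Type*} [AddCommGroup V] [Module k V] {R : J1 →* Module.End k V}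

/-- a vector fixed by `x`, `2³`, `w 2³ w` spans an invariant line -/
theorem fixed_kill [FiniteDimensional k V]
    (hirr : ∀ L : Submodule k V, (∀ g, ∀ v ∈ L, R g v ∈ L) → L = ⊥ ∨ L = ⊤) (hn : 2 ≤ finrank k V) {v : V} (hv : v ∈ V0 R)
    (hx : R x v = v) (hw : R w v ∈ V0 R) : v = 0 := by
  by_contra hv0
  let K : Subgroup J1 :=
    { carrier := {g | R g v = v}
      one_mem' := by
        change R 1 v = v
        rw [map_one]
        rfl
      mul_mem' := by
        intro a b ha hb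
        change R (a * b) v = v
        rw [R_mul]
        change R a v = v at ha
        change R b v = v at hb
        rw [hb, ha]
      inv_mem' := by
        intro a ha
        change R a⁻¹ v = v
        change R a v = v at ha
        conv_lhs => rw [← ha]
        exact R_inv a v }
  have hK : K = ⊤ := by
    refine closure_eq_top' hx hv ?_
    intro i
    change R (w * D i * w) v = v
    rw [R_mul, R_mul, hw i, ← R_mul, w_sq, map_one]
    rfl
  have hfix : ∀ g, R g v = v := fun g => (hK ▸ Subgroup.mem_top g : g ∈ K)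
  have h1 := hirr (Submodule.span k {v}) (by
    intro g u hu
    obtain ⟨t, rfl⟩ := Submodule.mem_span_singleton.1 hu
    rw [map_smul, hfix]
    exact hu)
  rcases h1 with h1 | h1
  · exact hv0 ((Submodule.mem_bot k).1 (h1 ▸ Submodule.mem_span_singleton_self v))
  · have h2 : finrank k (Submodule.span k {v}) = 1 := finrank_span_singleton hv0
    rw [h1, finrank_top] at h2
    omega

/-- if `x` is trivial on `V0` and `dim V0 ≥ 2` -/
theorem kill_of_trivial [FiniteDimensional k V] (h2 : (2 : k) ≠ 0)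
    (hirr : ∀ L : Submodule k V, (∀ g, ∀ v ∈ L, R g v ∈ L) → L = ⊥ ∨ L = ⊤) (hn : 2 ≤ finrank k V) {u : V} (hu : u ∈ L0 R)
    (hu0 : u ≠ 0) (hb : finrank k (L0 R) = 1) (hf : 2 ≤ finrank k (V0 R)) (hx : ∀ v ∈ V0 R, R x v = v) : False := by
  let Z : V0 R →ₗ[k] L0 R :=
    { toFun := fun v => ⟨A R (R w v.1), A_mem _⟩
      map_add' := fun a b => Subtype.ext (by
        change A R (R w (a.1 + b.1)) = _
        rw [map_add, A_add]
        rfl)
      map_smul' := fun c a => Subtype.ext (by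
        change A R (R w (c • a.1)) = _
        rw [map_smul, A_smul]
        rfl) }
  have h1 : LinearMap.ker Z ≠ ⊥ := LinearMap.ker_ne_bot_of_finrank_lt (by omega)
  obtain ⟨v, hv, hv0⟩ := Submodule.exists_mem_ne_zero_of_ne_bot h1
  have hv' : A R (R w v.1) = 0 := congrArg Subtype.val hv
  obtain ⟨v1, hv1, g, hg⟩ := exists_coord h2 hu hu0 hb (R w v.1)
  have hfix : R x (R w v.1) = R w v.1 := by
    have h3 : x * w = w * x⁻¹ := w_x.symm
    have h4 : R x⁻¹ v.1 = v.1 := by
      have h5 := R_inv (R := R) x v.1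
      rwa [hx v.1 v.2] at h5
    rw [← R_mul, h3, R_mul, h4]
  rw [hg] at hfix
  obtain ⟨-, hgc⟩ := const_of_fixed h2 hu hu0 hv1 hfix
  rw [hg, A_add, A_V0 hv1, zero_add] at hv'
  have h6 : A R (vec R u g) = (8 : k) • (g 0 • u) := by
    have h7 := A_x_sum (R := R) (c := fun j => g j • u) (fun j => (L0 R).smul_mem _ hu) 0
    rw [show x ^ (0 : Fin 7).val = 1 from pow_zero x, map_one] at h7
    simp only [sh_smul] at h7
    exact h7
  rw [h6] at hv'
  have h8 := (smul_eq_zero.1 ((smul_eq_zero.1 hv').resolve_left (eight_ne h2))).resolve_right hu0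
  rw [h8] at hgc
  have h9 : R w v.1 = v1 := by
    rw [hg, hgc, vec]
    simp
  have h10 := fixed_kill hirr hn v.2 (hx v.1 v.2) (by rw [h9]; exact hv1)
  exact hv0 (Subtype.ext h10)

theorem hrel : ew [0, 2, 4, 4] = ew [2, 4, 4, 0, 0, 0] := ew_rel (by decide +kernel)

/-- the element of order 6 -/
def hh : J1 := w * (y * y)

theorem x_hh : x * hh = hh * (x * (x * x)) := by
  have h := hrel
  change x * (w * (y * (y * 1))) = w * (y * (y * (x * (x * (x * 1))))) at h
  rw [mul_one, mul_one] at h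
  rw [hh, h]
  simp only [mul_assoc]

theorem x_hh_apply {v : V} {η : k} (hx : R x v = η • v) : R x (R hh v) = η ^ 3 • R hh v := by
  rw [← R_mul, x_hh, R_mul, R_mul, R_mul]
  simp only [hx, map_smul, smul_smul]
  congr 1
  ring

/-- eigenvectors of `x` in the span of the frame -/
theorem eig_frame {f : Fin 7 → k} (h2 : (2 : k) ≠ 0) {u : V} (hu : u ∈ L0 R) (hu0 : u ≠ 0) {η : k} {v0 : V}
    (hv0 : v0 ∈ V0 R) (h : R x (v0 + vec R u f) = η • (v0 + vec R u f)) :
    R x v0 = η • v0 ∧ f = fun i => f 0 * η ^ i.val := by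
  rw [map_add, x_vec, smul_add] at h
  have h3 : η • vec R u f = vec R u fun i => η * f i := by
    unfold vec
    rw [Finset.smul_sum]
    exact Finset.sum_congr rfl fun i _ => smul_smul _ _ _
  rw [h3] at h
  obtain ⟨h1, h4⟩ := vec_injective h2 hu hu0 (x_V0 hv0) ((V0 R).smul_mem η hv0) h
  refine ⟨h1, ?_⟩
  have h5 : ∀ i, f (i + 1) = η * f i := fun i => congrFun h4 i
  funext i
  have e1 := h5 0
  have e2 := h5 1
  have e3 := h5 2
  have e4 := h5 3
  have e5 := h5 4
  have e6 := h5 5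
  simp only [Fin.isValue, zero_add, Fin.reduceAdd] at e1 e2 e3 e4 e5 e6
  have r1 : f 1 = f 0 * η ^ 1 := by rw [e1]; ring
  have r2 : f 2 = f 0 * η ^ 2 := by rw [e2, r1]; ring
  have r3 : f 3 = f 0 * η ^ 3 := by rw [e3, r2]; ring
  have r4 : f 4 = f 0 * η ^ 4 := by rw [e4, r3]; ring
  have r5 : f 5 = f 0 * η ^ 5 := by rw [e5, r4]; ring
  have r6 : f 6 = f 0 * η ^ 6 := by rw [e6, r5]; ring
  fin_cases i
  · exact (by rw [pow_zero, mul_one] : f 0 = f 0 * η ^ 0)
  · exact r1
  · exact r2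
  · exact r3
  · exact r4
  · exact r5
  · exact r6

theorem vec_eig {u : V} {η : k} (h7 : η ^ 7 = 1) : R x (vec R u fun i => η ^ i.val) = η • vec R u fun i => η ^ i.val := by
  rw [x_vec]
  unfold vec
  rw [Finset.smul_sum]
  refine Finset.sum_congr rfl fun i _ => ?_
  rw [smul_smul]
  congr 1
  fin_cases i
  · simp
  · change η ^ 2 = η * η ^ 1
    ring
  · change η ^ 3 = η * η ^ 2
    ring
  · change η ^ 4 = η * η ^ 3
    ring
  · change η ^ 5 = η * η ^ 4
    ring
  · change η ^ 6 = η * η ^ 5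
    ring
  · change η ^ 0 = η * η ^ 6
    rw [pow_zero, ← pow_succ', h7]

/-- the eigenvalues of `x` on `V0` are closed under cubing -/
theorem eig_cube (h2 : (2 : k) ≠ 0) {u : V} (hu : u ∈ L0 R)
    (hu0 : u ≠ 0) (hb : finrank k (L0 R) = 1) {η : k} (h7 : η ^ 7 = 1) {v : V} (hv : v ∈ V0 R) (hv0 : v ≠ 0)
    (hx : R x v = η • v) : ∃ v' ∈ V0 R, v' ≠ 0 ∧ R x v' = η ^ 3 • v' := by
  set e : V := vec R u fun i => η ^ i.val with he
  have hxe : R x e = η • e := vec_eig h7
  -- independence of `v` and `e`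
  have hind : ∀ a b : k, a • v + b • e = 0 → a = 0 ∧ b = 0 := by
    intro a b hab
    have h1 : a • v + vec R u (fun i => b * η ^ i.val) = 0 + vec R u 0 := by
      have h3 : vec R u (fun i => b * η ^ i.val) = b • e := by
        rw [he]
        unfold vec
        rw [Finset.smul_sum]
        exact Finset.sum_congr rfl fun i _ => (smul_smul _ _ _).symm
      have h4 : vec R u (0 : Fin 7 → k) = 0 := by
        unfold vec
        simp
      rw [h3, h4, add_zero, hab]
    obtain ⟨h5, h6⟩ := vec_injective h2 hu hu0 ((V0 R).smul_mem a hv) (V0 R).zero_mem h1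
    refine ⟨(smul_eq_zero.1 h5).resolve_right hv0, ?_⟩
    have h7' := congrFun h6 0
    simpa using h7'
  -- the images under `hh`
  obtain ⟨a0, ha0, f, hf⟩ := exists_coord h2 hu hu0 hb (R hh v)
  obtain ⟨b0, hb0, g, hg⟩ := exists_coord h2 hu hu0 hb (R hh e)
  have h1 := x_hh_apply hx
  have h3 := x_hh_apply hxe
  rw [hf] at h1
  rw [hg] at h3
  obtain ⟨ha1, ha2⟩ := eig_frame h2 hu hu0 ha0 h1
  obtain ⟨hb1, hb2⟩ := eig_frame h2 hu hu0 hb0 h3
  -- a combination in `V0`
  have hcomb : ∀ a b : k, a * f 0 + b * g 0 = 0 → R hh (a • v + b • e) = a • a0 + b • b0 := by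
    intro a b hab
    rw [map_add, map_smul, map_smul, hf, hg, ha2, hb2, smul_add, smul_add]
    have h4 : a • vec R u (fun i => f 0 * (η ^ 3) ^ i.val) + b • vec R u (fun i => g 0 * (η ^ 3) ^ i.val) = 0 := by
      unfold vec
      rw [Finset.smul_sum, Finset.smul_sum, ← Finset.sum_add_distrib]
      refine Finset.sum_eq_zero fun i _ => ?_
      rw [smul_smul, smul_smul, ← add_smul]
      have h5 : a * (f 0 * (η ^ 3) ^ i.val) + b * (g 0 * (η ^ 3) ^ i.val) = 0 := by
        linear_combination (η ^ 3) ^ i.val * hab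
      rw [h5, zero_smul]
    rw [add_add_add_comm, h4, add_zero]
  have hfin : ∀ a b : k, a * f 0 + b * g 0 = 0 → (a ≠ 0 ∨ b ≠ 0) → ∃ v' ∈ V0 R, v' ≠ 0 ∧ R x v' = η ^ 3 • v' := by
    intro a b hab hne
    refine ⟨a • a0 + b • b0, (V0 R).add_mem ((V0 R).smul_mem _ ha0) ((V0 R).smul_mem _ hb0), ?_, ?_⟩
    · intro h0
      rw [← hcomb a b hab] at h0
      have h6 : a • v + b • e = 0 := by
        rw [← R_inv (R := R) hh (a • v + b • e), h0, map_zero]
      obtain ⟨h8, h9⟩ := hind a b h6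
      rcases hne with h | h
      · exact h h8
      · exact h h9
    · rw [map_add, map_smul, map_smul, ha1, hb1, smul_add, smul_comm, smul_comm b]
  by_cases hf0 : f 0 = 0
  · exact hfin 1 0 (by rw [hf0]; ring) (Or.inl one_ne_zero)
  · exact hfin (g 0) (-f 0) (by ring) (Or.inr (neg_ne_zero.2 hf0))

/-- `x` acts trivially on `V0` if `dim V0 ≤ 5` -/
theorem x_trivial [IsAlgClosed k] [FiniteDimensional k V] (h2 : (2 : k) ≠ 0) (h7 : (7 : k) ≠ 0) {u : V} (hu : u ∈ L0 R)
    (hu0 : u ≠ 0) (hb : finrank k (L0 R) = 1) (hf : finrank k (V0 R) ≤ 5) : ∀ v ∈ V0 R, R x v = v := by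
  by_contra hcon
  push Not at hcon
  obtain ⟨v, hv, hvx⟩ := hcon
  -- an eigenvector with eigenvalue `≠ 1`
  obtain ⟨η, v', hv', hv0', hx', hη⟩ : ∃ (η : k) (v' : V), v' ∈ V0 R ∧ v' ≠ 0 ∧ R x v' = η • v' ∧ η ≠ 1 := by
    let L : Submodule k V := (V0 R).map (R x - 1)
    have hL : Set.MapsTo (R x) L L := by
      rintro _ ⟨a, ha, rfl⟩
      refine ⟨R x a, x_V0 ha, ?_⟩
      rw [LinearMap.sub_apply, LinearMap.sub_apply, map_sub]
      rfl
    have hne : Nontrivial L := by
      rw [Submodule.nontrivial_iff_ne_bot]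
      intro h0
      have h3 : (R x - 1) v ∈ L := ⟨v, hv, rfl⟩
      rw [h0, Submodule.mem_bot, LinearMap.sub_apply, sub_eq_zero] at h3
      exact hvx h3
    obtain ⟨η, hη⟩ := Module.End.exists_eigenvalue ((R x).restrict hL)
    obtain ⟨⟨v', hv'⟩, hev⟩ := hη.exists_hasEigenvector
    have h3 : R x v' = η • v' := congrArg Subtype.val hev.apply_eq_smul
    have h4 : v' ≠ 0 := fun h => hev.2 (Subtype.ext h)
    obtain ⟨a, ha, hav⟩ := hv'
    have hav' : R x a - a = v' := hav
    refine ⟨η, v', ?_, h4, h3, ?_⟩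
    · rw [← hav']
      exact (V0 R).sub_mem (x_V0 ha) ha
    · rintro rfl
      rw [one_smul] at h3
      have h5 : ∀ n : ℕ, R (x ^ n) a = a + (n : k) • v' := by
        intro n
        induction n with
        | zero => rw [pow_zero, map_one, Nat.cast_zero, zero_smul, add_zero]; rfl
        | succ n ih =>
          rw [pow_succ', R_mul, ih, map_add, map_smul, h3, Nat.cast_succ, add_smul, one_smul, ← hav']
          abel
      have h6 := h5 7
      rw [x_pow_seven, map_one] at h6
      have h8 : ((7 : ℕ) : k) • v' = 0 := by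
        have h9 : a + 0 = a + ((7 : ℕ) : k) • v' := by rw [add_zero]; exact h6
        exact (add_left_cancel h9).symm
      rcases smul_eq_zero.1 h8 with h9 | h9
      · exact h7 (by exact_mod_cast h9)
      · exact h4 h9
  have hη7 : η ^ 7 = 1 := by
    have h5 : ∀ n : ℕ, R (x ^ n) v' = η ^ n • v' := by
      intro n
      induction n with
      | zero => rw [pow_zero, map_one, pow_zero, one_smul]; rfl
      | succ n ih => rw [pow_succ', R_mul, ih, map_smul, hx', smul_smul, pow_succ]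
    have h6 := h5 7
    rw [x_pow_seven, map_one] at h6
    have h8 : (η ^ 7 - 1) • v' = 0 := by
      rw [sub_smul, one_smul, ← h6]
      exact sub_self _
    exact sub_eq_zero.1 ((smul_eq_zero.1 h8).resolve_right hv0')
  have hchain : ∀ n : ℕ, ∃ a ∈ V0 R, a ≠ 0 ∧ R x a = η ^ (3 ^ n) • a := by
    intro n
    induction n with
    | zero => exact ⟨v', hv', hv0', by rw [pow_zero, pow_one]; exact hx'⟩
    | succ n ih =>
      obtain ⟨a, ha, ha0, hax⟩ := ih
      have h5 : (η ^ 3 ^ n) ^ 7 = 1 := by rw [← pow_mul, mul_comm, pow_mul, hη7, one_pow]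
      obtain ⟨b, hb1, hb2, hb3⟩ := eig_cube h2 hu hu0 hb h5 ha ha0 hax
      refine ⟨b, hb1, hb2, ?_⟩
      rw [hb3, ← pow_mul, pow_succ]
  choose a ha ha0 hax using hchain
  have hp7 : Fact (Nat.Prime 7) := ⟨by norm_num⟩
  have hord : orderOf η = 7 := orderOf_eq_prime hη7 hη
  have hfo : IsOfFinOrder η := isOfFinOrder_iff_pow_eq_one.2 ⟨7, by norm_num, hη7⟩
  have hinj : Function.Injective fun n : Fin 6 => η ^ 3 ^ n.val := by
    intro m n hmn
    have h5 : 3 ^ m.val % 7 = 3 ^ n.val % 7 := by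
      have h6 := hfo.pow_eq_pow_iff_modEq.1 hmn
      rwa [hord] at h6
    revert h5
    clear hmn
    revert m n
    decide
  have hlin : LinearIndependent k fun n : Fin 6 => a n.val :=
    Module.End.eigenvectors_linearIndependent' (R x) (fun n : Fin 6 => η ^ 3 ^ n.val) hinj (fun n => a n.val)
      fun n => ⟨Module.End.mem_eigenspace_iff.2 (hax n.val), ha0 n.val⟩
  have hlin' : LinearIndependent k fun n : Fin 6 => (⟨a n.val, ha n.val⟩ : V0 R) :=
    LinearIndependent.of_comp (V0 R).subtype hlin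
  have h9 := hlin'.fintype_card_le_finrank
  rw [Fintype.card_fin] at h9
  omega

/-- **degrees 9, ..., 12 are impossible** (odd characteristic `≠ 7`) -/
theorem nine_le [IsAlgClosed k] [FiniteDimensional k V] (h2 : (2 : k) ≠ 0) (h7 : (7 : k) ≠ 0) (hd : R d ≠ 1)
    (hirr : ∀ L : Submodule k V, (∀ g, ∀ v ∈ L, R g v ∈ L) → L = ⊥ ∨ L = ⊤) (h9 : 9 ≤ finrank k V)
    (h12 : finrank k V ≤ 12) : False := by
  have hL := L0_ne_bot h2 hd
  obtain ⟨u, hu, hu0⟩ := Submodule.exists_mem_ne_zero_of_ne_bot hL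
  have h1 := finrank_eq (R := R) h2
  have hpos : finrank k (L0 R) ≠ 0 := by
    intro h0
    exact hL (Submodule.finrank_eq_zero.1 h0)
  have hb : finrank k (L0 R) = 1 := by omega
  exact kill_of_trivial h2 hirr (by omega) hu hu0 hb (by omega) (x_trivial h2 h7 hu hu0 hb (by omega))

end Cfsg.Agent.H179.JOne
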